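import Cfsg.Agent.Lib.CoprimeBase.ColourLinear
import Cfsg.Agent.Lib.Solvable.MinimalNormal
import Cfsg.Agent.Lib.Solvable.Primitive
import Cfsg.Agent.Lib.OddBase.Blocks
import Mathlib.GroupTheory.PGroup
import Mathlib.Algebra.Module.ZMod

/-!
Small affine spaces over the field of two elements.
-/

set_option autoImplicit false
set_option linter.unusedSectionVars false

namespace CfsgLib.CoprimeBase.Coord

/-- The vector with the binary digits of `x`. -/
def dec (d x : ℕ) : Fin d → ZMod 2 := fun j => if x.testBit j then 1 else 0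

theorem dec_xor (d x y : ℕ) : dec d (x ^^^ y) = dec d x + dec d y := by
  funext j
  simp only [dec, Pi.add_apply, Nat.testBit_xor]
  cases x.testBit (j : ℕ) <;> cases y.testBit (j : ℕ) <;> decide

/-- Colours of the sixteen points. -/
def col4 (x : ℕ) : Fin 3 := [2, 1, 0, 1, 0, 0, 0, 2, 1, 1, 1, 0, 2, 0, 1, 2].getD x 0

def L3 (δ : Fin 3) (n a b c : ℕ) : Prop :=
  ∀ e, e < 16 →
    (col4 (n ^^^ e) = col4 8 + δ ∧ col4 (n ^^^ a ^^^ e) = col4 9 + δ ∧ col4 (n ^^^ b ^^^ e) = col4 10 + δ ∧ col4 (n ^^^ a ^^^ b ^^^ e) = col4 11 + δ ∧ col4 (n ^^^ c ^^^ e) = col4 12 + δ ∧ col4 (n ^^^ a ^^^ c ^^^ e) = col4 13 + δ ∧ col4 (n ^^^ b ^^^ c ^^^ e) = col4 14 + δ ∧ col4 (n ^^^ a ^^^ b ^^^ c ^^^ e) = col4 15 + δ) →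
      δ = 0 ∧ n = 0 ∧ a = 1 ∧ b = 2 ∧ c = 4 ∧ e = 8

instance (δ : Fin 3) (n a b c : ℕ) : Decidable (L3 δ n a b c) := by
  unfold L3
  infer_instance

def L2 (δ : Fin 3) (n a b : ℕ) : Prop :=
  ∀ c, c < 16 →
    (col4 (n ^^^ c) = col4 4 + δ ∧ col4 (n ^^^ a ^^^ c) = col4 5 + δ ∧ col4 (n ^^^ b ^^^ c) = col4 6 + δ ∧ col4 (n ^^^ a ^^^ b ^^^ c) = col4 7 + δ) →
      L3 δ n a b c

instance (δ : Fin 3) (n a b : ℕ) : Decidable (L2 δ n a b) := by
  unfold L2
  infer_instance

def L1 (δ : Fin 3) (n a : ℕ) : Prop :=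
  ∀ b, b < 16 →
    (col4 (n ^^^ b) = col4 2 + δ ∧ col4 (n ^^^ a ^^^ b) = col4 3 + δ) →
      L2 δ n a b

instance (δ : Fin 3) (n a : ℕ) : Decidable (L1 δ n a) := by
  unfold L1
  infer_instance

def L0 (δ : Fin 3) (n : ℕ) : Prop :=
  ∀ a, a < 16 →
    (col4 (n ^^^ a) = col4 1 + δ) →
      L1 δ n a

instance (δ : Fin 3) (n : ℕ) : Decidable (L0 δ n) := by
  unfold L0
  infer_instance

theorem cert4 : ∀ δ : Fin 3, ∀ n, n < 16 → col4 n = col4 0 + δ → L0 δ n := by
  decide +kernel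

/-- The distinguished class among thirty-two points. -/
def col5 (x : ℕ) : Fin 3 :=
  if x = 0 then 0 else if x ∈ [1, 2, 4, 5, 8, 16, 20, 22, 23, 24, 25, 29] then 1 else 2

def M4 (a b c e : ℕ) : Prop :=
  ∀ g, g < 32 →
    (col5 (g) = col5 16 ∧ col5 (a ^^^ g) = col5 17 ∧ col5 (b ^^^ g) = col5 18 ∧ col5 (a ^^^ b ^^^ g) = col5 19 ∧ col5 (c ^^^ g) = col5 20 ∧ col5 (a ^^^ c ^^^ g) = col5 21 ∧ col5 (b ^^^ c ^^^ g) = col5 22 ∧ col5 (a ^^^ b ^^^ c ^^^ g) = col5 23 ∧ col5 (e ^^^ g) = col5 24 ∧ col5 (a ^^^ e ^^^ g) = col5 25 ∧ col5 (c ^^^ e ^^^ g) = col5 28 ∧ col5 (a ^^^ c ^^^ e ^^^ g) = col5 29) →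
      a = 1 ∧ b = 2 ∧ c = 4 ∧ e = 8 ∧ g = 16

instance (a b c e : ℕ) : Decidable (M4 a b c e) := by
  unfold M4
  infer_instance

def M3 (a b c : ℕ) : Prop :=
  ∀ e, e < 32 →
    (col5 (e) = col5 8 ∧ col5 (a ^^^ e) = col5 9 ∧ col5 (b ^^^ e) = col5 10 ∧ col5 (a ^^^ b ^^^ e) = col5 11 ∧ col5 (c ^^^ e) = col5 12 ∧ col5 (a ^^^ c ^^^ e) = col5 13 ∧ col5 (b ^^^ c ^^^ e) = col5 14 ∧ col5 (a ^^^ b ^^^ c ^^^ e) = col5 15) →
      M4 a b c e

instance (a b c : ℕ) : Decidable (M3 a b c) := by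
  unfold M3
  infer_instance

def M2 (a b : ℕ) : Prop :=
  ∀ c, c < 32 →
    (col5 (c) = col5 4 ∧ col5 (a ^^^ c) = col5 5 ∧ col5 (b ^^^ c) = col5 6 ∧ col5 (a ^^^ b ^^^ c) = col5 7) →
      M3 a b c

instance (a b : ℕ) : Decidable (M2 a b) := by
  unfold M2
  infer_instance

def M1 (a : ℕ) : Prop :=
  ∀ b, b < 32 →
    (col5 (b) = col5 2 ∧ col5 (a ^^^ b) = col5 3) →
      M2 a b

instance (a : ℕ) : Decidable (M1 a) := by
  unfold M1
  infer_instance

def M0  : Prop :=
  ∀ a, a < 32 →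
    (col5 (a) = col5 1) →
      M1 a

instance  : Decidable (M0 ) := by
  unfold M0
  infer_instance

theorem cert5 : M0 := by
  decide +kernel

theorem dec_bij4 : (∀ x < 16, ∀ y < 16, dec 4 x = dec 4 y → x = y) ∧
    ∀ v : Fin 4 → ZMod 2, ∃ x < 16, dec 4 x = v := by
  decide +kernel

theorem dec_bij5 : (∀ x < 32, ∀ y < 32, dec 5 x = dec 5 y → x = y) ∧
    ∀ v : Fin 5 → ZMod 2, ∃ x < 32, dec 5 x = v := by
  decide +kernel

theorem colour4 : ∃ f : (Fin 4 → ZMod 2) → Fin 3, ∀ (T : (Fin 4 → ZMod 2) →+ (Fin 4 → ZMod 2))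
    (n : Fin 4 → ZMod 2) (δ : Fin 3), (∀ v, f (n + T v) = f v + δ) →
      δ = 0 ∧ n = 0 ∧ ∀ v, T v = v := by
  choose code hlt hcode using dec_bij4.2
  have hdc : ∀ x < 16, code (dec 4 x) = x := fun x hx => dec_bij4.1 _ (hlt _) x hx (hcode _)
  refine ⟨fun v => col4 (code v), fun T n δ h => ?_⟩
  let N := code n
  let a := code (T (dec 4 1))
  let b := code (T (dec 4 2))
  let c := code (T (dec 4 4))
  let e := code (T (dec 4 8))
  have ha : dec 4 a = T (dec 4 1) := hcode _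
  have hb : dec 4 b = T (dec 4 2) := hcode _
  have hc : dec 4 c = T (dec 4 4) := hcode _
  have he : dec 4 e = T (dec 4 8) := hcode _
  have hN : dec 4 N = n := hcode _
  have key : ∀ x y, x < 16 → y < 16 → dec 4 y = n + T (dec 4 x) → col4 y = col4 x + δ := by
    intro x y hx hy hxy
    have := h (dec 4 x)
    simpa [hdc x hx, hdc y hy, ← hxy] using this
  have x16 : ∀ x y : ℕ, x < 16 → y < 16 → x ^^^ y < 16 := fun x y hx hy =>
    Nat.xor_lt_two_pow (n := 4) hx hy
  have lN : N < 16 := hlt _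
  have la : a < 16 := hlt _
  have lb : b < 16 := hlt _
  have lc : c < 16 := hlt _
  have le : e < 16 := hlt _
  obtain ⟨h1, h2, h3, h4, h5, h6⟩ := cert4 δ N lN
    (key 0 N (by norm_num) lN (by
      rw [hN, show dec 4 0 = 0 from funext fun j => by simp [dec], map_zero, add_zero]))
    a la (key 1 _ (by norm_num) (x16 _ _ lN la) (by rw [dec_xor, hN, ha]))
    b lb ⟨key 2 _ (by norm_num) (x16 _ _ lN lb) (by rw [dec_xor, hN, hb]),
      key 3 _ (by norm_num) (x16 _ _ (x16 _ _ lN la) lb) (by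
      rw [dec_xor, dec_xor, hN, ha, hb, show (3 : ℕ) = 1 ^^^ 2 from rfl, dec_xor, map_add, add_assoc])⟩
    c lc ⟨key 4 _ (by norm_num) (x16 _ _ lN lc) (by rw [dec_xor, hN, hc]),
      key 5 _ (by norm_num) (x16 _ _ (x16 _ _ lN la) lc) (by
      rw [dec_xor, dec_xor, hN, ha, hc, show (5 : ℕ) = 1 ^^^ 4 from rfl, dec_xor, map_add, add_assoc]),
      key 6 _ (by norm_num) (x16 _ _ (x16 _ _ lN lb) lc) (by
      rw [dec_xor, dec_xor, hN, hb, hc, show (6 : ℕ) = 2 ^^^ 4 from rfl, dec_xor, map_add, add_assoc]),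
      key 7 _ (by norm_num) (x16 _ _ (x16 _ _ (x16 _ _ lN la) lb) lc) (by
      rw [dec_xor, dec_xor, dec_xor, hN, ha, hb, hc, show (7 : ℕ) = 1 ^^^ 2 ^^^ 4 from rfl, dec_xor,
        dec_xor, map_add, map_add]; abel)⟩
    e le ⟨key 8 _ (by norm_num) (x16 _ _ lN le) (by rw [dec_xor, hN, he]),
      key 9 _ (by norm_num) (x16 _ _ (x16 _ _ lN la) le) (by
      rw [dec_xor, dec_xor, hN, ha, he, show (9 : ℕ) = 1 ^^^ 8 from rfl, dec_xor, map_add, add_assoc]),
      key 10 _ (by norm_num) (x16 _ _ (x16 _ _ lN lb) le) (by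
      rw [dec_xor, dec_xor, hN, hb, he, show (10 : ℕ) = 2 ^^^ 8 from rfl, dec_xor, map_add, add_assoc]),
      key 11 _ (by norm_num) (x16 _ _ (x16 _ _ (x16 _ _ lN la) lb) le) (by
      rw [dec_xor, dec_xor, dec_xor, hN, ha, hb, he, show (11 : ℕ) = 1 ^^^ 2 ^^^ 8 from rfl, dec_xor,
        dec_xor, map_add, map_add]; abel),
      key 12 _ (by norm_num) (x16 _ _ (x16 _ _ lN lc) le) (by
      rw [dec_xor, dec_xor, hN, hc, he, show (12 : ℕ) = 4 ^^^ 8 from rfl, dec_xor, map_add, add_assoc]),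
      key 13 _ (by norm_num) (x16 _ _ (x16 _ _ (x16 _ _ lN la) lc) le) (by
      rw [dec_xor, dec_xor, dec_xor, hN, ha, hc, he, show (13 : ℕ) = 1 ^^^ 4 ^^^ 8 from rfl, dec_xor,
        dec_xor, map_add, map_add]; abel),
      key 14 _ (by norm_num) (x16 _ _ (x16 _ _ (x16 _ _ lN lb) lc) le) (by
      rw [dec_xor, dec_xor, dec_xor, hN, hb, hc, he, show (14 : ℕ) = 2 ^^^ 4 ^^^ 8 from rfl, dec_xor,
        dec_xor, map_add, map_add]; abel),
      key 15 _ (by norm_num) (x16 _ _ (x16 _ _ (x16 _ _ (x16 _ _ lN la) lb) lc) le) (by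
      rw [dec_xor, dec_xor, dec_xor, dec_xor, hN, ha, hb, hc, he,
        show (15 : ℕ) = 1 ^^^ 2 ^^^ 4 ^^^ 8 from rfl, dec_xor, dec_xor, dec_xor, map_add, map_add,
        map_add]; abel)⟩
  refine ⟨h1, ?_, eq_id_of_fix T ?_⟩
  · rw [← hN, h2]
    funext j
    simp [dec]
  · have e1 : E 2 4 0 = dec 4 1 := by decide
    have e2 : E 2 4 1 = dec 4 2 := by decide
    have e3 : E 2 4 2 = dec 4 4 := by decide
    have e4 : E 2 4 3 = dec 4 8 := by decide
    intro i hi
    interval_cases i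
    · rw [e1, ← ha, h3]
    · rw [e2, ← hb, h4]
    · rw [e3, ← hc, h5]
    · rw [e4, ← he, h6]

theorem colour5 : ∃ f : (Fin 5 → ZMod 2) → Fin 3, (∀ v, f v = 0 ↔ v = 0) ∧
    ∀ (T : (Fin 5 → ZMod 2) →+ (Fin 5 → ZMod 2)), (∀ v, f (T v) = f v) → ∀ v, T v = v := by
  choose code hlt hcode using dec_bij5.2
  have hdc : ∀ x < 32, code (dec 5 x) = x := fun x hx => dec_bij5.1 _ (hlt _) x hx (hcode _)
  have h0 : dec 5 0 = 0 := funext fun j => by simp [dec]
  refine ⟨fun v => col5 (code v), fun v => ?_, fun T h => ?_⟩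
  · constructor
    · intro hv
      rw [← hcode v]
      have : code v = 0 := by
        simp only [col5] at hv
        split_ifs at hv with a <;> simp_all
      rw [this, h0]
    · rintro rfl
      rw [← h0]
      simp only [hdc 0 (by norm_num)]
      rfl
  let a := code (T (dec 5 1))
  let b := code (T (dec 5 2))
  let c := code (T (dec 5 4))
  let e := code (T (dec 5 8))
  let g := code (T (dec 5 16))
  have ha : dec 5 a = T (dec 5 1) := hcode _
  have hb : dec 5 b = T (dec 5 2) := hcode _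
  have hc : dec 5 c = T (dec 5 4) := hcode _
  have he : dec 5 e = T (dec 5 8) := hcode _
  have hg : dec 5 g = T (dec 5 16) := hcode _
  have key : ∀ x y, x < 32 → y < 32 → dec 5 y = T (dec 5 x) → col5 y = col5 x := by
    intro x y hx hy hxy
    have := h (dec 5 x)
    simpa [hdc x hx, hdc y hy, ← hxy] using this
  have x32 : ∀ x y : ℕ, x < 32 → y < 32 → x ^^^ y < 32 := fun x y hx hy =>
    Nat.xor_lt_two_pow (n := 5) hx hy
  have la : a < 32 := hlt _
  have lb : b < 32 := hlt _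
  have lc : c < 32 := hlt _
  have le : e < 32 := hlt _
  have lg : g < 32 := hlt _
  have key2 : ∀ x y u w, u < 32 → w < 32 → x < 32 → y < 32 → dec 5 u = T (dec 5 x) →
      dec 5 w = T (dec 5 y) → col5 (u ^^^ w) = col5 (x ^^^ y) ∧
        dec 5 (u ^^^ w) = T (dec 5 (x ^^^ y)) ∧ u ^^^ w < 32 ∧ x ^^^ y < 32 := by
    intro x y u w hu hw hx hy h1 h2
    have e : dec 5 (u ^^^ w) = T (dec 5 (x ^^^ y)) := by rw [dec_xor, dec_xor, map_add, h1, h2]
    exact ⟨key _ _ (x32 _ _ hx hy) (x32 _ _ hu hw) e, e, x32 _ _ hu hw, x32 _ _ hx hy⟩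
  have ab := key2 1 2 a b la lb (by norm_num) (by norm_num) ha hb
  have ac := key2 1 4 a c la lc (by norm_num) (by norm_num) ha hc
  have bc := key2 2 4 b c lb lc (by norm_num) (by norm_num) hb hc
  have abc := key2 _ 4 _ c ab.2.2.1 lc ab.2.2.2 (by norm_num) ab.2.1 hc
  have ae := key2 1 8 a e la le (by norm_num) (by norm_num) ha he
  have be := key2 2 8 b e lb le (by norm_num) (by norm_num) hb he
  have abe := key2 _ 8 _ e ab.2.2.1 le ab.2.2.2 (by norm_num) ab.2.1 he
  have ce := key2 4 8 c e lc le (by norm_num) (by norm_num) hc he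
  have ace := key2 _ 8 _ e ac.2.2.1 le ac.2.2.2 (by norm_num) ac.2.1 he
  have bce := key2 _ 8 _ e bc.2.2.1 le bc.2.2.2 (by norm_num) bc.2.1 he
  have abce := key2 _ 8 _ e abc.2.2.1 le abc.2.2.2 (by norm_num) abc.2.1 he
  have ag := key2 1 16 a g la lg (by norm_num) (by norm_num) ha hg
  have bg := key2 2 16 b g lb lg (by norm_num) (by norm_num) hb hg
  have abg := key2 _ 16 _ g ab.2.2.1 lg ab.2.2.2 (by norm_num) ab.2.1 hg
  have cg := key2 4 16 c g lc lg (by norm_num) (by norm_num) hc hg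
  have acg := key2 _ 16 _ g ac.2.2.1 lg ac.2.2.2 (by norm_num) ac.2.1 hg
  have bcg := key2 _ 16 _ g bc.2.2.1 lg bc.2.2.2 (by norm_num) bc.2.1 hg
  have abcg := key2 _ 16 _ g abc.2.2.1 lg abc.2.2.2 (by norm_num) abc.2.1 hg
  have eg := key2 8 16 e g le lg (by norm_num) (by norm_num) he hg
  have aeg := key2 _ 16 _ g ae.2.2.1 lg ae.2.2.2 (by norm_num) ae.2.1 hg
  have ceg := key2 _ 16 _ g ce.2.2.1 lg ce.2.2.2 (by norm_num) ce.2.1 hg
  have aceg := key2 _ 16 _ g ace.2.2.1 lg ace.2.2.2 (by norm_num) ace.2.1 hg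
  obtain ⟨h1, h2, h3, h4, h5⟩ := cert5 a la (key 1 a (by norm_num) la ha)
    b lb ⟨key 2 b (by norm_num) lb hb, ab.1⟩
    c lc ⟨key 4 c (by norm_num) lc hc, ac.1, bc.1, abc.1⟩
    e le ⟨key 8 e (by norm_num) le he, ae.1, be.1, abe.1, ce.1, ace.1, bce.1, abce.1⟩
    g lg ⟨key 16 g (by norm_num) lg hg, ag.1, bg.1, abg.1, cg.1, acg.1, bcg.1, abcg.1, eg.1,
      aeg.1, ceg.1, aceg.1⟩
  refine eq_id_of_fix T ?_
  intro i hi
  interval_cases i
  · rw [show E 2 5 0 = dec 5 1 by decide, ← ha, h1]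
  · rw [show E 2 5 1 = dec 5 2 by decide, ← hb, h2]
  · rw [show E 2 5 2 = dec 5 4 by decide, ← hc, h3]
  · rw [show E 2 5 3 = dec 5 8 by decide, ← he, h4]
  · rw [show E 2 5 4 = dec 5 16 by decide, ← hg, h5]

end CfsgLib.CoprimeBase.Coord

namespace CfsgLib.CoprimeBase

open CfsgLib.OddBase

/-- In two or three dimensions the point stabilizers are trivial. -/
theorem free_small {H V : Type*} [Group H] [Finite H] [AddCommGroup V] [Finite V]
    [DistribMulAction H V] [FaithfulSMul H V] (hsol : Group.IsSolvable H) (h3 : ¬ 3 ∣ Nat.card H)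
    (hirr : Irred H V) (h2V : ∀ v : V, 2 • v = 0) (hV : Nat.card V = 4 ∨ Nat.card V = 8)
    (v : V) (hv : v ≠ 0) (h : H) (hh : h • v = v) : h = 1 := by
  classical
  by_contra hne
  have hfaith : ∀ a : H, (∀ w : V, a • w = w) → a = 1 := fun a ha =>
    FaithfulSMul.eq_of_smul_eq_smul (α := V) fun w => by rw [one_smul]; exact ha w
  have hfix : ∀ (p : ℕ), p.Prime → 5 ≤ p → ∀ a : H, orderOf a = p →
      p = 7 ∧ Nat.card V = 8 ∧ ∀ w : V, a • w = w → w = 0 := by
    intro p hp h5 a ha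
    haveI := Fact.mk hp
    let F : AddSubgroup V :=
      { carrier := {w | a • w = w}
        zero_mem' := smul_zero a
        add_mem' := fun {x y} (hx : a • x = x) (hy : a • y = y) => by
          show a • (x + y) = x + y
          rw [smul_add, hx, hy]
        neg_mem' := fun {x} (hx : a • x = x) => by show a • (-x) = -x; rw [smul_neg, hx] }
    have hP : IsPGroup p (Subgroup.zpowers a) := IsPGroup.of_card (n := 1) (by
      rw [Nat.card_zpowers, ha, pow_one])
    have hmod := hP.card_modEq_card_fixedPoints V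
    have hF : Nat.card (MulAction.fixedPoints (Subgroup.zpowers a) V) = Nat.card F :=
      Nat.card_congr (Equiv.setCongr (Set.ext fun w => ⟨fun hw => hw ⟨a, Subgroup.mem_zpowers a⟩,
        fun hw g => by
          obtain ⟨g, hg⟩ := g
          have hle : Subgroup.zpowers a ≤ MulAction.stabilizer H w :=
            Subgroup.zpowers_le.2 hw
          exact hle hg⟩))
    rw [hF] at hmod
    have hdvd : Nat.card F ∣ Nat.card V := AddSubgroup.card_addSubgroup_dvd_card F
    have hlt : Nat.card F ≠ Nat.card V := fun e => by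
      have h1 : a = 1 := hfaith a fun w => by
        have : w ∈ F := by rw [F.eq_top_of_card_eq e]; trivial
        exact this
      rw [h1, orderOf_one] at ha
      exact hp.one_lt.ne ha
    have hmod' := (Nat.modEq_iff_dvd' (Nat.le_of_dvd Nat.card_pos hdvd)).1 hmod.symm
    have hle := Nat.le_of_dvd Nat.card_pos hdvd
    have hple : p ≤ Nat.card V := by
      have := Nat.le_of_dvd (by omega) hmod'
      omega
    have key : p = 7 ∧ Nat.card V = 8 ∧ Nat.card F = 1 := by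
      have : 0 < Nat.card F := Nat.card_pos
      rcases hV with e | e <;> rw [e] at hdvd hmod' hlt hle hple ⊢
      · omega
      · interval_cases hF' : Nat.card F <;> interval_cases p <;> simp_all (config := { decide := true })
    refine ⟨key.1, key.2.1, fun w hw => ?_⟩
    have := F.eq_bot_of_card_eq key.2.2
    exact AddSubgroup.mem_bot.1 (this ▸ (hw : w ∈ F))
  haveI : Nontrivial H := ⟨⟨h, 1, hne⟩⟩
  obtain ⟨N, ⟨hN1, hN2⟩, hNmin⟩ := Set.Finite.exists_minimal
    (s := {N : Subgroup H | N.Normal ∧ N ≠ ⊥}) (Set.toFinite _)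
    ⟨⊤, inferInstance, top_ne_bot⟩
  haveI := hN1
  have hmin : ∀ K : Subgroup H, K.Normal → K ≤ N → K = ⊥ ∨ K = N := by
    intro K hK hle
    by_cases hK0 : K = ⊥
    · exact Or.inl hK0
    · exact Or.inr (le_antisymm hle (hNmin ⟨hK, hK0⟩ hle))
  haveI := hsol
  obtain ⟨p, k, hp, hk, hpN, hcard⟩ :=
    CfsgLib.Solvable.exists_pow_card_of_minimal_normal N hN2 hmin inferInstance
  haveI := Fact.mk hp
  have hp2 : p ≠ 2 := by
    rintro rfl
    let K : AddSubgroup V :=
      { carrier := {w | ∀ a ∈ N, a • w = w}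
        zero_mem' := fun a _ => smul_zero a
        add_mem' := fun {x y} hx hy a ha => by rw [smul_add, hx a ha, hy a ha]
        neg_mem' := fun {x} hx a ha => by rw [smul_neg, hx a ha] }
    have hK : Inv H V K := fun g w hw a ha => by
      have := hw _ (hN1.conj_mem a ha g⁻¹)
      rw [inv_inv, mul_smul, mul_smul, inv_smul_eq_iff] at this
      exact this
    rcases hirr K hK with e | e
    · have hP : IsPGroup 2 N := IsPGroup.of_card hcard
      have hd : 2 ∣ Nat.card V := by rcases hV with e' | e' <;> rw [e'] <;> norm_num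
      obtain ⟨w, hw, hw0⟩ := hP.exists_fixed_point_of_prime_dvd_card_of_fixed_point V hd
        (a := 0) (fun g => smul_zero (g : H))
      have hwK : w ∈ K := fun a ha => hw ⟨a, ha⟩
      rw [e, AddSubgroup.mem_bot] at hwK
      exact hw0 hwK.symm
    · refine hN2 (eq_bot_iff.2 fun a ha => Subgroup.mem_bot.2 (hfaith a fun w => ?_))
      have : w ∈ K := by rw [e]; trivial
      exact this a ha
  obtain ⟨a0, ha0⟩ := exists_prime_orderOf_dvd_card' (G := ↥N) p
    (by rw [hcard]; exact dvd_pow_self p hk.ne')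
  have ha : orderOf (a0 : H) = p := by rw [Subgroup.orderOf_coe, ha0]
  have hp5 : 5 ≤ p := by
    have h3' : p ≠ 3 := by
      rintro rfl
      exact h3 (dvd_trans (ha ▸ dvd_rfl) (orderOf_dvd_natCard (a0 : H)))
    have := hp.two_le
    have h4 : p ≠ 4 := by rintro rfl; norm_num at hp
    omega
  obtain ⟨rfl, hV8, -⟩ := hfix p hp hp5 _ ha
  -- `N` acts freely
  have hfree : ∀ g ∈ N, ∀ w : V, w ≠ 0 → g • w = w → g = 1 := by
    intro g hg w hw hgw
    by_contra hg1
    obtain ⟨j, hj⟩ := IsPGroup.iff_orderOf.1 (IsPGroup.of_card hcard) (⟨g, hg⟩ : ↥N)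
    have hj0 : j ≠ 0 := by
      rintro rfl
      exact hg1 (congrArg Subtype.val (orderOf_eq_one_iff.1 (by simpa using hj) :
        (⟨g, hg⟩ : ↥N) = 1))
    have ho : orderOf g = 7 ^ j := by rw [← hj]; exact Subgroup.orderOf_coe (⟨g, hg⟩ : ↥N)
    have hpow : orderOf (g ^ (7 ^ (j - 1))) = 7 := by
      rw [orderOf_pow' _ (by positivity), ho, Nat.gcd_eq_right (Nat.pow_dvd_pow 7 (by omega)),
        Nat.pow_div (by omega) (by norm_num), show j - (j - 1) = 1 by omega, pow_one]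
    exact hw ((hfix 7 hp hp5 _ hpow).2.2 w (by
      have hle : Subgroup.zpowers g ≤ MulAction.stabilizer H w := Subgroup.zpowers_le.2 hgw
      exact hle (Subgroup.npow_mem_zpowers g _)))
  let φ : ↥N → {w : V // w ≠ 0} := fun g => ⟨(g : H) • v, fun e => hv ((smul_eq_zero_iff_eq _).1 e)⟩
  have hφ : Function.Injective φ := by
    intro x y e
    have e' : (x : H) • v = (y : H) • v := congrArg Subtype.val e
    have := hfree ((y : H)⁻¹ * x) (N.mul_mem (N.inv_mem y.2) x.2) v hv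
      (by rw [mul_smul, e', inv_smul_smul])
    exact Subtype.ext (inv_mul_eq_one.1 this).symm
  have hcard' : Nat.card {w : V // w ≠ 0} = 7 := by
    haveI := Fintype.ofFinite V
    rw [Nat.card_eq_fintype_card, Fintype.card_subtype_compl, Fintype.card_subtype_eq,
      ← Nat.card_eq_fintype_card, hV8]
  have hN7 : Nat.card ↥N = 7 := by
    refine le_antisymm (hcard' ▸ Nat.card_le_card_of_injective φ hφ) ?_
    rw [hcard]
    exact Nat.le_self_pow hk.ne' 7
  have hφb : Function.Bijective φ :=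
    (Nat.bijective_iff_injective_and_card φ).2 ⟨hφ, by rw [hN7, hcard']⟩
  set a : H := (a0 : H) with hadef
  have hgen : ∀ g ∈ N, ∃ i : ℕ, a ^ i = g := by
    intro g hg
    have hz : Subgroup.zpowers a0 = ⊤ := Subgroup.eq_top_of_card_eq _ (by rw [Nat.card_zpowers, ha0, hN7])
    obtain ⟨i, hi⟩ := (mem_powers_iff_mem_zpowers).2 (hz.ge (Subgroup.mem_top (⟨g, hg⟩ : ↥N)))
    exact ⟨i, congrArg Subtype.val hi⟩
  -- an element of prime order fixing `v`
  obtain ⟨q, hq, hqd⟩ := Nat.exists_prime_and_dvd (mt orderOf_eq_one_iff.1 hne)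
  set b := h ^ (orderOf h / q) with hb
  have hbo : orderOf b = q := by
    have hpos := orderOf_pos h
    rw [hb, orderOf_pow' _ (Nat.div_pos (Nat.le_of_dvd hpos hqd) hq.pos).ne',
      Nat.gcd_eq_right (Nat.div_dvd_of_dvd hqd), Nat.div_div_self hqd hpos.ne']
  have hbv : b • v = v := by
    have hle : Subgroup.zpowers h ≤ MulAction.stabilizer H v := Subgroup.zpowers_le.2 hh
    exact hle (Subgroup.npow_mem_zpowers h _)
  have hq2 : q = 2 := by
    by_contra hq2
    have hq3 : q ≠ 3 := by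
      rintro rfl
      exact h3 (hbo ▸ orderOf_dvd_natCard b)
    have h4 : q ≠ 4 := by rintro rfl; norm_num at hq
    have := hq.two_le
    exact hv ((hfix q hq (by omega) b hbo).2.2 v hbv)
  have hbb : b * b = 1 := by rw [← pow_two, ← hq2, ← hbo, pow_orderOf_eq_one]
  obtain ⟨s, hs⟩ := hgen _ (hN1.conj_mem a a0.2 b)
  have hba : ∀ i : ℕ, b • a ^ i • v = a ^ (s * i) • v := by
    intro i
    rw [pow_mul, hs, conj_pow, mul_smul, mul_smul, inv_smul_eq_iff.2 hbv.symm]
  have hinj : ∀ i j : ℕ, a ^ i • v = a ^ j • v → i % 7 = j % 7 := by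
    intro i j e
    have e1 : φ (a0 ^ i) = φ (a0 ^ j) := Subtype.ext (by simpa [φ, hadef] using e)
    have := hφ e1
    rwa [pow_inj_mod, ha0] at this
  have hss : (s * s) % 7 = 1 := by
    have h1 := hba s
    have h2 := hba 1
    rw [mul_one] at h2
    rw [← h2, ← mul_smul, hbb, one_smul] at h1
    exact (hinj _ _ h1).symm
  have hb1 : b ≠ 1 := fun e => by rw [e, orderOf_one] at hbo; exact hq.one_lt.ne hbo
  have hsurj : ∀ w : V, w ≠ 0 → ∃ i : ℕ, a ^ i • v = w := by
    intro w hw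
    obtain ⟨g, hg⟩ := hφb.2 ⟨w, hw⟩
    obtain ⟨i, hi⟩ := hgen g g.2
    exact ⟨i, hi ▸ congrArg Subtype.val hg⟩
  have hper : ∀ i : ℕ, a ^ i = a ^ (i % 7) := fun i => by rw [← ha, pow_mod_orderOf]
  have hs6 : s % 7 = 6 := by
    have hs7 : s % 7 < 7 := Nat.mod_lt _ (by norm_num)
    have h2 : (s % 7 * (s % 7)) % 7 = 1 := by rwa [← Nat.mul_mod]
    have hs1 : s % 7 ≠ 1 := fun e => hb1 (hfaith b fun w => by
      by_cases hw : w = 0
      · rw [hw, smul_zero]
      obtain ⟨i, rfl⟩ := hsurj w hw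
      rw [hba, hper (s * i), Nat.mul_mod, e, one_mul, Nat.mod_mod, ← hper])
    interval_cases h6 : s % 7 <;> omega
  have hne' : v + a • v ≠ 0 := by
    intro e
    have h1 : a ^ 1 • v = a ^ 0 • v := by
      rw [pow_one, pow_zero, one_smul]
      have h2 := h2V v
      rw [two_smul] at h2
      exact add_left_cancel (e.trans h2.symm)
    have := hinj _ _ h1
    omega
  obtain ⟨j, hj⟩ := hsurj _ hne'
  have h1 : a • v + v = a ^ (s * j + 1) • v := by
    have h2 := congrArg (fun w => a • b • w) hj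
    simp only [smul_add] at h2
    rw [hbv, show b • a • v = a ^ s • v by simpa using hba 1, hba,
      ← mul_smul, ← mul_smul, ← pow_succ', ← pow_succ'] at h2
    have h7 : a ^ (s + 1) = 1 := by
      rw [hper, Nat.add_mod, hs6]
      norm_num
    rw [h7, one_smul] at h2
    exact h2.symm
  rw [add_comm, ← hj] at h1
  have h4 := hinj _ _ h1
  rw [Nat.add_mod, Nat.mul_mod, hs6] at h4
  have hj4 : j % 7 = 4 := by omega
  rw [hper j, hj4] at hj
  have h5 := congrArg (fun w => a ^ 4 • w) hj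
  simp only [smul_add] at h5
  rw [← mul_smul, ← pow_add, hj, ← mul_smul, ← pow_succ, hper (4 + 4)] at h5
  norm_num at h5
  have h6 : a ^ 5 • v = v := by
    have e2 : (a • v + v) + (a • v + a ^ 5 • v) = v + a ^ 5 • v := by
      have := h2V (a • v); rw [two_smul] at this
      calc _ = (a • v + a • v) + (v + a ^ 5 • v) := by abel
        _ = _ := by rw [this, zero_add]
    have e3 : a • v = v + a • v + a ^ 5 • v := h5
    have h2 := h2V (a • v); rw [two_smul] at h2
    have h2' := h2V v; rw [two_smul] at h2'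
    calc a ^ 5 • v = (v + v) + (a • v + a • v) + a ^ 5 • v := by rw [h2, h2', zero_add, zero_add]
      _ = (v + a • v + a ^ 5 • v) + (v + a • v) := by abel
      _ = a • v + (v + a • v) := by rw [← e3]
      _ = v + (a • v + a • v) := by abel
      _ = v := by rw [h2, add_zero]
  have := hinj 5 0 (by rw [h6, pow_zero, one_smul])
  omega

end CfsgLib.CoprimeBase
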