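import Cfsg.Agent.Lib.CoprimeBase.Colour
import Cfsg.Agent.Lib.CoprimeBase.ColourSmall
import Mathlib.FieldTheory.Finiteness
import Mathlib.LinearAlgebra.Dimension.Free
import Mathlib.Tactic.Group
import Mathlib.LinearAlgebra.FiniteDimensional.Basic

/-!
Distinguishing colourings with three and five colours for solvable permutation groups.
-/

set_option autoImplicit false
set_option linter.unusedSectionVars false

open scoped Pointwise

namespace CfsgLib.CoprimeBase

open CfsgLib.OddBase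

universe u

/-- The hypotheses for three or five colours. -/
def Allowed (k : ℕ) (A : Type u) [Group A] : Prop :=
  Group.IsSolvable A ∧ (k = 5 ∨ (k = 3 ∧ ¬ 3 ∣ Nat.card A))

theorem exists_mul_three : ∀ δ : Fin 3, δ ≠ 0 → ∀ c : Fin 3, ∃ j : Fin 3, (j : ℕ) • δ = c := by
  decide

theorem exists_mul_five : ∀ δ : Fin 5, δ ≠ 0 → ∀ c : Fin 5, ∃ j : Fin 5, (j : ℕ) • δ = c := by
  decide

theorem affine_of_origin {k : ℕ} [NeZero k]
    (hk : ∀ δ : Fin k, δ ≠ 0 → ∀ c : Fin k, ∃ j : Fin k, (j : ℕ) • δ = c)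
    {M : Type*} [AddCommGroup M] [Finite M] (f : M → Fin k) (h0 : ∀ v, f v = 0 ↔ v = 0)
    (hnb : ¬ Function.Bijective f) (T : M →+ M) (hT : Function.Injective T)
    (hrig : (∀ v, f (T v) = f v) → ∀ v, T v = v) (n : M) (δ : Fin k)
    (h : ∀ v, f (n + T v) = f v + δ) : δ = 0 ∧ n = 0 ∧ ∀ v, T v = v := by
  have hδ : δ = 0 := by
    by_contra hδ
    let F : M → M := fun v => n + T v
    have hF : Function.Injective F := fun v w e => hT (add_left_cancel e)
    have hFs : Function.Surjective F := Finite.surjective_of_injective hF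
    have hit : ∀ (j : ℕ) (z : M), f (F^[j] z) = f z + j • δ := by
      intro j
      induction j with
      | zero => intro z; simp
      | succ j ih =>
        intro z
        rw [Function.iterate_succ_apply', show f (F (F^[j] z)) = f (F^[j] z) + δ from h _, ih,
          succ_nsmul, add_assoc]
    refine hnb ⟨fun x y e => ?_, fun c => ?_⟩
    · obtain ⟨j, hj⟩ := hk δ hδ (f x)
      obtain ⟨x', rfl⟩ := (hFs.iterate (j : ℕ)) x
      obtain ⟨y', rfl⟩ := (hFs.iterate (j : ℕ)) y
      have hx := hit (j : ℕ) x'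
      have hy := hit (j : ℕ) y'
      rw [hj] at hx hy
      rw [← e] at hy
      have hx0 := (h0 x').1 (add_eq_right.1 hx.symm)
      have hy0 := (h0 y').1 (add_eq_right.1 hy.symm)
      rw [hx0, hy0]
    · obtain ⟨j, hj⟩ := hk δ hδ c
      exact ⟨F^[(j : ℕ)] 0, by rw [hit, (h0 0).2 rfl, zero_add, hj]⟩
  subst hδ
  have hn : n = 0 := by
    have := h 0
    rw [map_zero, add_zero, add_zero, (h0 0).2 rfl] at this
    exact (h0 n).1 this
  subst hn
  exact ⟨rfl, rfl, hrig fun v => by simpa using h v⟩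

/-- The origin, one more point, and the rest. -/
noncomputable def tiny {M : Type*} [AddCommGroup M] (e : M) (v : M) : Fin 3 :=
  haveI := Classical.decEq M
  if v = 0 then 0 else if v = e then 1 else 2

theorem coords_aux {V : Type u} [AddCommGroup V] [Finite V] [Nontrivial V] {r : ℕ} [Fact r.Prime]
    [Module (ZMod r) V] : ∃ d, 0 < d ∧ Nonempty (V ≃+ (Fin d → ZMod r)) := by
  have hfin : Module.Finite (ZMod r) V := Module.Finite.of_finite
  exact ⟨Module.finrank (ZMod r) V, Module.finrank_pos,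
    ⟨(Module.finBasis (ZMod r) V).equivFun.toAddEquiv⟩⟩

theorem exists_coords {V : Type u} [AddCommGroup V] [Finite V] [Nontrivial V] {r : ℕ} [Fact r.Prime]
    (hrV : ∀ v : V, r • v = 0) : ∃ d, 0 < d ∧ Nonempty (V ≃+ (Fin d → ZMod r)) :=
  @coords_aux V _ _ _ r _ (AddCommGroup.zmodModule hrV)

theorem affine_colour {k : ℕ} {H V : Type u} [Group H] [Finite H] [AddCommGroup V] [Finite V]
    [DistribMulAction H V] [FaithfulSMul H V] [Nontrivial V] (hH : Allowed k H)
    (hirr : Irred H V) {r : ℕ} [hr : Fact r.Prime] (hrV : ∀ v : V, r • v = 0)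
    (hr3 : k = 3 → r ≠ 3) :
    ∃ f : V → Fin k, ∀ (h : H) (n : V) (δ : Fin k), (∀ v, f (n + h • v) = f v + δ) →
      δ.val = 0 ∧ n = 0 ∧ ∀ v : V, h • v = v := by
  classical
  haveI : Fact (1 < r) := ⟨hr.out.one_lt⟩
  obtain ⟨d, hdpos, ⟨c⟩⟩ := exists_coords hrV
  have hcardV : Nat.card V = r ^ d := by
    rw [Nat.card_congr c.toEquiv, Nat.card_fun, Nat.card_fin, Nat.card_zmod]
  let T : H → ((Fin d → ZMod r) →+ (Fin d → ZMod r)) := fun h =>
    (c.toAddMonoidHom.comp (DistribSMul.toAddMonoidHom V h)).comp c.symm.toAddMonoidHom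
  have hT : ∀ h x, T h x = c (h • c.symm x) := fun h x => rfl
  have hTinj : ∀ h, Function.Injective (T h) := fun h x y e => by
    rw [hT, hT] at e
    exact c.symm.injective (smul_left_cancel h (c.injective e))
  suffices ∃ f : (Fin d → ZMod r) → Fin k, ∀ (h : H) n δ, (∀ v, f (n + T h v) = f v + δ) →
      δ.val = 0 ∧ n = 0 ∧ ∀ v, T h v = v by
    obtain ⟨f, hf⟩ := this
    refine ⟨fun v => f (c v), fun h n δ he => ?_⟩
    obtain ⟨h1, h2, h3⟩ := hf h (c n) δ fun v => by
      have := he (c.symm v)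
      simp only [map_add, c.apply_symm_apply] at this
      exact this
    refine ⟨h1, c.injective (h2.trans (map_zero c).symm), fun v => c.injective ?_⟩
    have := h3 (c v)
    rwa [hT, c.symm_apply_apply] at this
  rcases hH.2 with rfl | ⟨rfl, h3⟩
  · refine ⟨Coord.five, fun h n δ he => ?_⟩
    obtain ⟨h1, h2, h3⟩ := affine_of_origin exists_mul_five Coord.five (fun v => Coord.five_zero)
      (fun hb => by
        have hc := Nat.card_eq_of_bijective _ hb
        rw [Nat.card_fin, Nat.card_fun, Nat.card_fin, Nat.card_zmod] at hc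
        exact Coord.five_not_bij hdpos hc hb.2)
      (T h) (hTinj h) (fun hf => Coord.five_rigid _ (hTinj h) hf) n δ he
    exact ⟨by rw [h1]; rfl, h2, h3⟩
  have hnb : ∀ f : (Fin d → ZMod r) → Fin 3, ¬ Function.Bijective f := fun f hb => by
    have hc := Nat.card_eq_of_bijective _ hb
    rw [Nat.card_fin, Nat.card_fun, Nat.card_fin, Nat.card_zmod] at hc
    exact hr3 rfl ((Nat.prime_three.eq_one_or_self_of_dvd r (hc ▸ dvd_pow_self r hdpos.ne')).resolve_left
      hr.out.one_lt.ne')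
  by_cases hr2 : r = 2
  swap
  · have h5 : 5 ≤ r := by
      have := hr.out.two_le
      have := hr3 rfl
      have h4 : r ≠ 4 := by rintro rfl; exact absurd hr.out (by norm_num)
      omega
    refine ⟨Coord.big, fun h n δ he => ?_⟩
    obtain ⟨h1, h2, h3⟩ := affine_of_origin exists_mul_three Coord.big (fun v => Coord.big_zero)
      (hnb _) (T h) (hTinj h) (fun hf => Coord.big_rigid h5 _ (hTinj h) hf) n δ he
    exact ⟨by rw [h1]; rfl, h2, h3⟩
  subst hr2
  rcases (show 6 ≤ d ∨ d = 5 ∨ d = 4 ∨ d ≤ 3 by omega) with hd6 | rfl | rfl | hd3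
  · refine ⟨Coord.two, fun h n δ he => ?_⟩
    obtain ⟨h1, h2, h3⟩ := affine_of_origin exists_mul_three Coord.two (fun v => Coord.two_zero)
      (hnb _) (T h) (hTinj h) (fun hf => Coord.two_rigid hd6 _ (hTinj h) hf) n δ he
    exact ⟨by rw [h1]; rfl, h2, h3⟩
  · obtain ⟨f, hf0, hfr⟩ := Coord.colour5
    refine ⟨f, fun h n δ he => ?_⟩
    obtain ⟨h1, h2, h3⟩ := affine_of_origin exists_mul_three f hf0
      (hnb _) (T h) (hTinj h) (hfr _) n δ he
    exact ⟨by rw [h1]; rfl, h2, h3⟩
  · obtain ⟨f, hf⟩ := Coord.colour4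
    exact ⟨f, fun h n δ he => by
      obtain ⟨h1, h2, h3⟩ := hf _ n δ he
      exact ⟨by rw [h1]; rfl, h2, h3⟩⟩
  · let e := Coord.E 2 d 0
    have he0 : e ≠ 0 := Coord.E_ne_zero hdpos
    refine ⟨tiny e, fun h n δ he => ?_⟩
    have hrig : (∀ v, tiny e (T h v) = tiny e v) → ∀ v, T h v = v := by
      intro hf
      have hfe : T h e = e := by
        have := hf e
        rw [show tiny e e = 1 by simp [tiny, he0]] at this
        unfold tiny at this
        split_ifs at this with a b <;> simp_all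
      rcases Nat.lt_or_ge d 2 with hd1 | hd2
      · refine Coord.eq_id_of_fix _ fun i hi => ?_
        obtain rfl : i = 0 := by omega
        exact hfe
      · have hhe : h • c.symm e = c.symm e := c.injective (by rw [← hT, hfe, c.apply_symm_apply])
        have h1' := free_small hH.1 h3 hirr hrV
          (by rw [hcardV]; interval_cases d <;> norm_num)
          (c.symm e) (fun e' => he0 (by simpa using congrArg c e')) h hhe
        intro v
        rw [hT, h1', one_smul, c.apply_symm_apply]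
    obtain ⟨h1, h2, h3⟩ := affine_of_origin exists_mul_three (tiny e)
      (fun v => by unfold tiny; split_ifs <;> simp_all)
      (hnb _) (T h) (hTinj h) hrig n δ he
    exact ⟨by rw [h1]; rfl, h2, h3⟩

theorem dist_primitive {k : ℕ} [NeZero k] {Ω : Type u} [Finite Ω] [Nontrivial Ω]
    (G : Subgroup (Equiv.Perm Ω)) (hG : Allowed k ↥G) (hprim : MulAction.IsPreprimitive G Ω) :
    Dist k G Ω := by
  classical
  haveI hsol : Group.IsSolvable ↥G := hG.1
  haveI : Nontrivial ↥G := by
    obtain ⟨a, b, hab⟩ := exists_pair_ne Ω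
    obtain ⟨g, hg⟩ := hprim.toIsPretransitive.exists_smul_eq a b
    exact ⟨⟨g, 1, fun e => hab (by rw [← hg, e, one_smul])⟩⟩
  obtain ⟨N, ⟨hN1, hN2⟩, hNmin⟩ := Set.Finite.exists_minimal
    (s := {N : Subgroup ↥G | N.Normal ∧ N ≠ ⊥}) (Set.toFinite _)
    ⟨⊤, inferInstance, top_ne_bot⟩
  haveI := hN1
  have hmin : ∀ K : Subgroup ↥G, K.Normal → K ≤ N → K = ⊥ ∨ K = N := by
    intro K hK hle
    by_cases hK0 : K = ⊥
    · exact Or.inl hK0
    · exact Or.inr (le_antisymm hle (hNmin ⟨hK, hK0⟩ hle))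
  have hc := CfsgLib.Solvable.commute_of_minimal_normal N hN2 hmin inferInstance
  obtain ⟨p, ke, hp, hk, hpN, hcard⟩ :=
    CfsgLib.Solvable.exists_pow_card_of_minimal_normal N hN2 hmin inferInstance
  obtain ⟨ω⟩ := (inferInstance : Nonempty Ω)
  obtain ⟨-, -, -, hinf, -, hcompl⟩ :=
    CfsgLib.Solvable.primitive_abelian_minimal hprim N hN2 hc ω
  let H := MulAction.stabilizer ↥G ω
  letI : CommGroup ↥N :=
    { (inferInstance : Group ↥N) with mul_comm := fun a b => Subtype.ext (hc _ a.2 _ b.2) }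
  letI act : DistribMulAction ↥H (Additive ↥N) :=
    { smul := fun h v => Additive.ofMul ⟨(h : ↥G) * (Additive.toMul v : ↥N) * (h : ↥G)⁻¹,
        hN1.conj_mem _ (Additive.toMul v : ↥N).2 _⟩
      one_smul := fun v => Additive.toMul.injective (Subtype.ext (show (1 : ↥G) *
        ((Additive.toMul v : ↥N) : ↥G) * (1 : ↥G)⁻¹ = _ by simp))
      mul_smul := fun a b v => Additive.toMul.injective (Subtype.ext (show ((a : ↥G) * b) *
        ((Additive.toMul v : ↥N) : ↥G) * ((a : ↥G) * b)⁻¹ =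
          (a : ↥G) * ((b : ↥G) * ((Additive.toMul v : ↥N) : ↥G) * (b : ↥G)⁻¹) * (a : ↥G)⁻¹ by group))
      smul_zero := fun a => Additive.toMul.injective (Subtype.ext (show (a : ↥G) * 1 * (a : ↥G)⁻¹ = 1
        by simp))
      smul_add := fun a v w => Additive.toMul.injective (Subtype.ext (show (a : ↥G) *
        (((Additive.toMul v : ↥N) : ↥G) * ((Additive.toMul w : ↥N) : ↥G)) * (a : ↥G)⁻¹ =
          ((a : ↥G) * ((Additive.toMul v : ↥N) : ↥G) * (a : ↥G)⁻¹) *
          ((a : ↥G) * ((Additive.toMul w : ↥N) : ↥G) * (a : ↥G)⁻¹) by group)) }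
  have hdec : ∀ g : ↥G, ∃ (m : ↥N) (h : ↥H), g = (m : ↥G) * h := fun g => by
    obtain ⟨⟨m, h⟩, e⟩ := hcompl.2 g
    exact ⟨m, h, e.symm⟩
  let pt : Additive ↥N → Ω := fun v => ((Additive.toMul v : ↥N) : ↥G) • ω
  have hpt_bij : Function.Bijective pt := by
    refine ⟨fun v w e => ?_, fun x => ?_⟩
    · have : (((Additive.toMul w : ↥N) : ↥G))⁻¹ * ((Additive.toMul v : ↥N) : ↥G) ∈
          N ⊓ H := ⟨N.mul_mem (N.inv_mem (Additive.toMul w : ↥N).2) (Additive.toMul v : ↥N).2,
        by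
          show _ ∈ MulAction.stabilizer ↥G ω
          rw [MulAction.mem_stabilizer_iff, mul_smul, inv_smul_eq_iff]
          exact e⟩
      rw [show N ⊓ H = ⊥ from hinf, Subgroup.mem_bot, inv_mul_eq_one] at this
      exact Additive.toMul.injective (Subtype.ext this.symm)
    · obtain ⟨g, rfl⟩ := hprim.toIsPretransitive.exists_smul_eq ω x
      obtain ⟨m, h, rfl⟩ := hdec g
      exact ⟨Additive.ofMul m, by
        show (m : ↥G) • ω = ((m : ↥G) * (h : ↥G)) • ω
        rw [mul_smul, MulAction.mem_stabilizer_iff.1 h.2]⟩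
  have hpt : ∀ (m : ↥N) (h : ↥H) (v : Additive ↥N),
      ((m : ↥G) * (h : ↥G)) • pt v = pt (Additive.ofMul m + h • v) := by
    intro m h v
    show _ = ((m : ↥G) * ((h : ↥G) * ((Additive.toMul v : ↥N) : ↥G) * (h : ↥G)⁻¹)) • ω
    have hh : (h : ↥G)⁻¹ • ω = ω := by
      rw [inv_smul_eq_iff, MulAction.mem_stabilizer_iff.1 h.2]
    simp only [pt, mul_smul, hh]
  have hpV : ∀ v : Additive ↥N, (p : ℤ) • v = 0 := by
    intro v
    let K : Subgroup ↥G :=
      { carrier := {g | g ∈ N ∧ g ^ p = 1}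
        one_mem' := ⟨N.one_mem, one_pow p⟩
        mul_mem' := fun {a b} ha hb => ⟨N.mul_mem ha.1 hb.1, by
          rw [(show Commute a b from hc a ha.1 b hb.1).mul_pow, ha.2, hb.2, one_mul]⟩
        inv_mem' := fun {a} ha => ⟨N.inv_mem ha.1, by rw [inv_pow, ha.2, inv_one]⟩ }
    have hKn : K.Normal := ⟨fun a ha g => ⟨hN1.conj_mem a ha.1 g, by rw [conj_pow, ha.2]; simp⟩⟩
    have hK : K = N := by
      refine (hmin K hKn fun a ha => ha.1).resolve_left fun e => ?_
      haveI := Fact.mk hp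
      obtain ⟨z, hz⟩ := exists_prime_orderOf_dvd_card' (G := ↥N) p
        (by rw [hcard]; exact dvd_pow_self p hk.ne')
      have hzK : (z : ↥G) ∈ K := ⟨z.2, by
        have := congrArg Subtype.val (pow_orderOf_eq_one z)
        rwa [hz] at this⟩
      rw [e, Subgroup.mem_bot, OneMemClass.coe_eq_one] at hzK
      rw [hzK, orderOf_one] at hz
      exact hp.one_lt.ne hz
    apply Additive.toMul.injective
    rw [natCast_zsmul, toMul_nsmul, toMul_zero]
    refine Subtype.ext ?_
    have : ((Additive.toMul v : ↥N) : ↥G) ∈ K := by rw [hK]; exact (Additive.toMul v : ↥N).2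
    rw [Subgroup.coe_pow, Subgroup.coe_one]
    exact this.2
  have hirr : Irred ↥H (Additive ↥N) := by
    intro U hU
    let K : Subgroup ↥G :=
      { carrier := {g | ∃ v ∈ U, ((Additive.toMul v : ↥N) : ↥G) = g}
        one_mem' := ⟨0, U.zero_mem, rfl⟩
        mul_mem' := by
          rintro _ _ ⟨v, hv, rfl⟩ ⟨w, hw, rfl⟩
          exact ⟨v + w, U.add_mem hv hw, rfl⟩
        inv_mem' := by
          rintro _ ⟨v, hv, rfl⟩
          exact ⟨-v, U.neg_mem hv, rfl⟩ }
    have hKn : K.Normal := by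
      refine ⟨fun a ha g => ?_⟩
      obtain ⟨v, hv, rfl⟩ := ha
      obtain ⟨m, h, rfl⟩ := hdec g
      refine ⟨h • v, hU h v hv, ?_⟩
      have hcm := hc _ m.2 _ (Additive.toMul (h • v) : ↥N).2
      show _ = (m : ↥G) * (h : ↥G) * _ * ((m : ↥G) * (h : ↥G))⁻¹
      have e1 : ((Additive.toMul (h • v) : ↥N) : ↥G) =
          (h : ↥G) * ((Additive.toMul v : ↥N) : ↥G) * (h : ↥G)⁻¹ := rfl
      rw [show (m : ↥G) * (h : ↥G) * ((Additive.toMul v : ↥N) : ↥G) * ((m : ↥G) * (h : ↥G))⁻¹ =
        (m : ↥G) * ((h : ↥G) * ((Additive.toMul v : ↥N) : ↥G) * (h : ↥G)⁻¹) * (m : ↥G)⁻¹ by group,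
        ← e1, hcm, mul_inv_cancel_right]
    rcases hmin K hKn (by rintro _ ⟨v, -, rfl⟩; exact (Additive.toMul v : ↥N).2) with e | e
    · left
      rw [eq_bot_iff]
      intro v hv
      have : ((Additive.toMul v : ↥N) : ↥G) ∈ K := ⟨v, hv, rfl⟩
      rw [e, Subgroup.mem_bot, OneMemClass.coe_eq_one] at this
      exact AddSubgroup.mem_bot.2 (Additive.toMul.injective this)
    · right
      rw [eq_top_iff]
      intro v _
      have : ((Additive.toMul v : ↥N) : ↥G) ∈ K := by rw [e]; exact (Additive.toMul v : ↥N).2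
      obtain ⟨w, hw, he⟩ := this
      rwa [← Additive.toMul.injective (Subtype.ext he)]
  haveI : Fact p.Prime := ⟨hp⟩
  haveI : FaithfulSMul ↥H (Additive ↥N) := ⟨fun {a b} hab => by
    refine Subtype.ext (Subtype.ext (Equiv.ext fun x => ?_))
    obtain ⟨v, rfl⟩ := hpt_bij.2 x
    have e1 := hpt 1 a v
    have e2 := hpt 1 b v
    rw [ofMul_one, zero_add, OneMemClass.coe_one, one_mul] at e1 e2
    show (a : ↥G) • pt v = (b : ↥G) • pt v
    rw [e1, e2, hab]⟩
  haveI : Nontrivial (Additive ↥N) :=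
    haveI := (Subgroup.nontrivial_iff_ne_bot N).2 hN2
    Additive.toMul.nontrivial
  have hpN' : ∀ v : Additive ↥N, p • v = 0 := fun v => by rw [← natCast_zsmul]; exact hpV v
  have hH : Allowed k ↥H := by
    refine ⟨inferInstance, hG.2.imp id fun hk3 => ⟨hk3.1, fun hd => hk3.2 ?_⟩⟩
    exact hd.trans H.card_subgroup_dvd_card
  have hr3 : k = 3 → p ≠ 3 := by
    rintro rfl rfl
    exact (hG.2.resolve_left (by norm_num)).2
      (dvd_trans (by rw [hcard]; exact dvd_pow_self 3 hk.ne') N.card_subgroup_dvd_card)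
  obtain ⟨f, hf⟩ := affine_colour hH hirr hpN' hr3
  let g : Ω → Fin k := fun x => f ((Equiv.ofBijective pt hpt_bij).symm x)
  have hg : ∀ v, g (pt v) = f v := fun v => congrArg f ((Equiv.ofBijective pt hpt_bij).symm_apply_apply v)
  have key : ∀ (a : ↥G) (δ : Fin k), (∀ x, g (a • x) = g x + δ) → δ = 0 ∧ ∀ x : Ω, a • x = x := by
    intro a δ ha
    obtain ⟨m, h, rfl⟩ := hdec a
    obtain ⟨h1, h2, h3⟩ := hf h (Additive.ofMul m) δ fun v => by
      rw [← hg, ← hpt, ha, hg]
    refine ⟨Fin.ext (by simpa using h1), fun x => ?_⟩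
    obtain ⟨v, rfl⟩ := hpt_bij.2 x
    rw [hpt, h2, h3, zero_add]
  exact dist_of_shift g (fun a δ ha => (key a δ ha).1)
    (fun a ha => (key a 0 fun x => by rw [ha, add_zero]).2)

/-- Three or five colours suffice for solvable permutation groups. -/
theorem dist_colours {k : ℕ} [NeZero k] {A Ω : Type u} [Group A] [Finite A] [MulAction A Ω]
    [Finite Ω] [Nonempty Ω] (hA : Allowed k A) : Dist k A Ω := by
  refine dist_all (fun B _ => Allowed k B) (fun B _ _ K hB => ?_) (fun B Ξ _ _ _ _ _ hB hprim => ?_) hA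
  · haveI := hB.1
    exact ⟨inferInstance, hB.2.imp id fun hk => ⟨hk.1, fun hd => hk.2 (hd.trans K.card_subgroup_dvd_card)⟩⟩
  · let φ := MulAction.toPermHom B Ξ
    haveI := hB.1
    have hR : Allowed k ↥φ.range := ⟨Group.isSolvable_of_surjective φ.rangeRestrict_surjective,
      hB.2.imp id fun hk => ⟨hk.1, fun hd => hk.2 (hd.trans (Subgroup.card_range_dvd φ))⟩⟩
    let e : Ξ →ₑ[φ.rangeRestrict] Ξ := { toFun := id, map_smul' := fun _ _ => rfl }
    haveI := hprim
    have hp' : MulAction.IsPreprimitive φ.range Ξ :=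
      MulAction.IsPreprimitive.of_surjective (f := e) Function.surjective_id
    exact dist_congr φ.rangeRestrict (fun _ _ => rfl) (dist_primitive φ.range hR hp')

end CfsgLib.CoprimeBase
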