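import Cfsg.Agent.Lib.CoprimeBase.Model
import Mathlib.Data.List.GetD
import Mathlib.Data.List.Forall2

/-!
Checking the stabiliser of two vectors in a model.
-/

set_option autoImplicit false
set_option linter.unusedSectionVars false

namespace CfsgLib.CoprimeBase

open CfsgLib.OddBase (Good Base)

universe u

namespace Cert

/-- A word applied to the second (`true`) or first vector. -/
abbrev Term := List ℕ × Bool

/-- A step: an element, chosen freely or expressed by terms. -/
abbrev Item := ℕ × Option (List Term)

/-- Sum of codes. -/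
def sumc (M : Model) (l : List ℕ) : ℕ := l.foldr M.add 0

def termSrc (M : Model) (st : List (ℕ × ℕ)) (v w : ℕ) (t : Term) : ℕ :=
  t.1.foldr (fun i x => M.act (st.getD i (0, 0)).1 x) (if t.2 then w else v)

def termTgt (M : Model) (st : List (ℕ × ℕ)) (v w : ℕ) (t : Term) : ℕ :=
  t.1.foldr (fun i x => M.act (st.getD i (0, 0)).2 x) (if t.2 then w else v)

def inv (tab x : ℕ) : ℕ := (tab >>> (8 * x)) % 256

/-- The possible images of the units. -/
def run (M : Model) (tab v w : ℕ) (fin : List (List Term)) :
    List Item → List (ℕ × ℕ) → List (List ℕ)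
  | [], st => [fin.map fun ts => sumc M (ts.map (termTgt M st v w))]
  | (x, none) :: rest, st =>
    (List.range M.S).flatMap fun e => run M tab v w fin rest (st ++ [(x, e)])
  | (x, some ts) :: rest, st =>
    let z := sumc M (ts.map (termTgt M st v w))
    let e := inv tab z
    if e < M.S ∧ M.act e v = z then run M tab v w fin rest (st ++ [(x, e)]) else []

/-- The static check. -/
def srcOk (M : Model) (v w : ℕ) (fin : List (List Term)) :
    List Item → List (ℕ × ℕ) → Bool
  | [], st =>
    fin.all (fun ts => ts.all fun t => t.1.all fun i => decide (i < st.length)) &&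
      decide ((fin.map fun ts => sumc M (ts.map (termSrc M st v w))) = M.units)
  | (x, none) :: rest, st => decide (x < M.S) && srcOk M v w fin rest (st ++ [(x, 0)])
  | (x, some ts) :: rest, st =>
    decide (x < M.S) && ts.all (fun t => t.1.all fun i => decide (i < st.length)) &&
      decide (sumc M (ts.map (termSrc M st v w)) = M.act x v) &&
      srcOk M v w fin rest (st ++ [(x, 0)])

/-- The coefficients of a code. -/
def digits (q : ℕ) : ℕ → ℕ → List ℕ
  | 0, _ => []
  | n + 1, x => x % q :: digits q n (x / q)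

def expand (l : List (ℕ × ℕ)) (ds : List ℕ) : List (ℕ × ℕ) :=
  (l.zip ds).flatMap fun p => List.replicate p.2 p.1

/-- A linear map evaluated at a code. -/
def lin (M : Model) (q : ℕ) (img : List ℕ) (c : ℕ) : Option ℕ :=
  let l := expand (M.units.zip img) (digits q M.units.length c)
  if sumc M (l.map Prod.fst) = c then some (sumc M (l.map Prod.snd)) else none

def linAll (M : Model) (q : ℕ) (img : List ℕ) : List ℕ → Option (List ℕ)
  | [] => some []
  | c :: cs =>
    match lin M q img c, linAll M q img cs with
    | some a, some as => some (a :: as)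
    | _, _ => none

/-- The images of the units under a composite. -/
def comp (M : Model) (q : ℕ) (imgs : List (List ℕ)) : List ℕ → Option (List ℕ)
  | [] => some M.units
  | i :: rest => (comp M q imgs rest).bind fun J => linAll M q (imgs.getD i []) J

/-- The candidate images are not those of an element normalising the group. -/
def refutes (M : Model) (q tab v : ℕ) (img : List ℕ) (e : ℕ) : Bool :=
  match lin M q img (M.act e v) with
  | some z => !(decide (inv tab z < M.S) && M.units.all fun u =>
      match lin M q img (M.act e u), lin M q img u with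
      | some a, some c => decide (a = M.act (inv tab z) c)
      | _, _ => true)
  | none => false

def wordGood (M : Model) (q : ℕ) (imgs : List (List ℕ)) (word : List ℕ) : Bool :=
  word.all (fun i => decide (i < imgs.length)) &&
    (match comp M q imgs word with | some J => decide (J ≠ M.units) | none => false) &&
    decide (comp M q imgs (List.replicate q word).flatten = some M.units)

def tuples : List (List (List ℕ)) → List (List (List ℕ))
  | [] => [[]]
  | l :: ls => l.flatMap fun a => (tuples ls).map (a :: ·)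

end Cert

variable {Γ L W : Type u} [Group Γ] [Field L] [AddCommGroup W] [Module L W] [DistribMulAction Γ W]
  {B : Subgroup Γ} {M : Model}

namespace Rep

open Cert

variable (R : Rep M B W)

theorem sumc_lt (l : List ℕ) (h : ∀ x ∈ l, x < M.P) :
    sumc M l < M.P ∧ R.ι (sumc M l) = (l.map R.ι).sum := by
  induction l with
  | nil => exact ⟨R.pos, R.zero⟩
  | cons a t ih =>
    obtain ⟨h1, h2⟩ := ih fun x hx => h x (List.mem_cons_of_mem _ hx)
    obtain ⟨h3, h4⟩ := R.add_eq a (h a List.mem_cons_self) _ h1
    exact ⟨h3, by rw [List.map_cons, List.sum_cons, ← h2]; exact h4.symm⟩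

theorem map_sumc {g : Γ} (l : List (ℕ × ℕ))
    (h : ∀ p ∈ l, p.1 < M.P ∧ p.2 < M.P ∧ g • R.ι p.1 = R.ι p.2) :
    sumc M (l.map Prod.fst) < M.P ∧ sumc M (l.map Prod.snd) < M.P ∧
      g • R.ι (sumc M (l.map Prod.fst)) = R.ι (sumc M (l.map Prod.snd)) := by
  induction l with
  | nil => exact ⟨R.pos, R.pos, by show g • R.ι 0 = R.ι 0; rw [R.zero, smul_zero]⟩
  | cons a t ih =>
    obtain ⟨h1, h2, h3⟩ := ih fun x hx => h x (List.mem_cons_of_mem _ hx)
    obtain ⟨a1, a2, a3⟩ := h a List.mem_cons_self
    obtain ⟨b1, b2⟩ := R.add_eq _ a1 _ h1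
    obtain ⟨c1, c2⟩ := R.add_eq _ a2 _ h2
    exact ⟨b1, c1, by
      show g • R.ι (M.add a.1 (sumc M (t.map Prod.fst))) = R.ι (M.add a.2 (sumc M (t.map Prod.snd)))
      rw [← b2, ← c2, smul_add, a3, h3]⟩

/-- Knowledge of the conjugation by an element. -/
def Knows (g : Γ) (st : List (ℕ × ℕ)) : Prop :=
  ∀ p ∈ st, p.1 < M.S ∧ p.2 < M.S ∧ ∀ w : W, g • R.φ p.1 • w = R.φ p.2 • g • w

variable {R} {g : Γ} {v w : ℕ}

theorem map_term (hv : v < M.P) (hw : w < M.P) (hgv : g • R.ι v = R.ι v) (hgw : g • R.ι w = R.ι w)
    {st : List (ℕ × ℕ)} (hst : R.Knows g st) (t : Term) (ht : ∀ i ∈ t.1, i < st.length) :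
    termSrc M st v w t < M.P ∧ termTgt M st v w t < M.P ∧
      g • R.ι (termSrc M st v w t) = R.ι (termTgt M st v w t) := by
  obtain ⟨l, c⟩ := t
  unfold termSrc termTgt
  induction l with
  | nil => cases c <;> simp [hv, hw, hgv, hgw]
  | cons i l ih =>
    obtain ⟨h1, h2, h3⟩ := ih fun j hj => ht j (List.mem_cons_of_mem _ hj)
    have hi : i < st.length := ht i List.mem_cons_self
    obtain ⟨k1, k2, k3⟩ := hst _ (List.getElem_mem hi)
    obtain ⟨a1, a2⟩ := R.act_eq _ k1 _ h1
    obtain ⟨b1, b2⟩ := R.act_eq _ k2 _ h2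
    simp only [List.foldr_cons, List.getD_eq_getElem _ _ hi]
    exact ⟨a1, b1, by rw [← a2, k3, h3, b2]⟩

theorem map_terms (hv : v < M.P) (hw : w < M.P) (hgv : g • R.ι v = R.ι v)
    (hgw : g • R.ι w = R.ι w) {st : List (ℕ × ℕ)} (hst : R.Knows g st) (ts : List Term)
    (hts : ∀ t ∈ ts, ∀ i ∈ t.1, i < st.length) :
    sumc M (ts.map (termSrc M st v w)) < M.P ∧ sumc M (ts.map (termTgt M st v w)) < M.P ∧
      g • R.ι (sumc M (ts.map (termSrc M st v w))) = R.ι (sumc M (ts.map (termTgt M st v w))) := by
  have h := R.map_sumc (g := g) (ts.map fun t => (termSrc M st v w t, termTgt M st v w t))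
    fun p hp => by
      obtain ⟨t, ht, rfl⟩ := List.mem_map.1 hp
      exact map_term hv hw hgv hgw hst t (hts t ht)
  simpa only [List.map_map, Function.comp_def] using h

theorem termSrc_congr {st st' : List (ℕ × ℕ)} (h : st.map Prod.fst = st'.map Prod.fst)
    (t : Term) (ht : ∀ i ∈ t.1, i < st.length) : termSrc M st v w t = termSrc M st' v w t := by
  obtain ⟨l, c⟩ := t
  unfold termSrc
  induction l with
  | nil => rfl
  | cons i l ih =>
    have hi : i < st.length := ht i List.mem_cons_self
    have hlen : st.length = st'.length := by simpa using congrArg List.length h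
    have e : (st.getD i (0, 0)).1 = (st'.getD i (0, 0)).1 := by
      rw [List.getD_eq_getElem _ _ hi, List.getD_eq_getElem _ _ (hlen ▸ hi)]
      have := List.getElem_map Prod.fst (l := st) (i := i) (h := by simpa using hi)
      rw [← this]
      simp only [h, List.getElem_map]
    simp only [List.foldr_cons, e]
    rw [ih fun j hj => ht j (List.mem_cons_of_mem _ hj)]

theorem run_sound (hs : Pre Γ L W B) (hv : v < M.P) (hw : w < M.P) (hgv : g • R.ι v = R.ι v)
    (hgw : g • R.ι w = R.ι w) {tab : ℕ} (htab : ∀ e < M.S, inv tab (M.act e v) = e)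
    (fin : List (List Term)) :
    ∀ (items : List Item) (st st' : List (ℕ × ℕ)), R.Knows g st →
      st.map Prod.fst = st'.map Prod.fst → srcOk M v w fin items st' = true →
      ∃ img ∈ run M tab v w fin items st, img.length = M.units.length ∧
        (∀ c ∈ img, c < M.P) ∧ List.map (fun u => g • R.ι u) M.units = img.map R.ι := by
  intro items
  induction items with
  | nil =>
    intro st st' hst hk hok
    simp only [srcOk, Bool.and_eq_true, List.all_eq_true, decide_eq_true_eq] at hok
    obtain ⟨hlen, hsrc⟩ := hok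
    have hle : st.length = st'.length := by simpa using congrArg List.length hk
    have hlen' : ∀ ts ∈ fin, ∀ t ∈ ts, ∀ i ∈ t.1, i < st.length := fun ts h1 t h2 i h3 =>
      hle ▸ hlen ts h1 t h2 i h3
    have e : (fin.map fun ts => sumc M (ts.map (termSrc M st v w))) = M.units := by
      rw [← hsrc]
      refine List.map_congr_left fun ts hts => congrArg _ (List.map_congr_left fun t ht => ?_)
      exact termSrc_congr hk t (hlen' ts hts t ht)
    refine ⟨_, List.mem_singleton.2 rfl, ?_, ?_, ?_⟩
    · rw [← e, List.length_map, List.length_map]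
    · intro c hc
      obtain ⟨ts, hts, rfl⟩ := List.mem_map.1 hc
      exact (map_terms hv hw hgv hgw hst ts (hlen' ts hts)).2.1
    · rw [← e, List.map_map, List.map_map]
      exact List.map_congr_left fun ts hts =>
        (map_terms hv hw hgv hgw hst ts (hlen' ts hts)).2.2
  | cons it rest ih =>
    intro st st' hst hk hok
    obtain ⟨x, o⟩ := it
    have hnext : ∀ e < M.S, x < M.S → (∀ u : W, g • R.φ x • u = R.φ e • g • u) →
        R.Knows g (st ++ [(x, e)]) := by
      intro e he hx h p hp
      rcases List.mem_append.1 hp with h' | h'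
      · exact hst p h'
      · obtain rfl := List.mem_singleton.1 h'
        exact ⟨hx, he, h⟩
    have hkeys : ∀ e : ℕ, (st ++ [(x, e)]).map Prod.fst = (st' ++ [(x, 0)]).map Prod.fst := fun e => by
      rw [List.map_append, List.map_append, hk]
      rfl
    cases o with
    | none =>
      simp only [srcOk, Bool.and_eq_true, decide_eq_true_eq] at hok
      obtain ⟨e, he, hconj⟩ := R.conj hs g hok.1
      obtain ⟨img, hmem, h⟩ := ih _ _ (hnext e he hok.1 hconj) (hkeys e) hok.2
      exact ⟨img, List.mem_flatMap.2 ⟨e, List.mem_range.2 he, hmem⟩, h⟩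
    | some ts =>
      simp only [srcOk, Bool.and_eq_true, List.all_eq_true, decide_eq_true_eq] at hok
      obtain ⟨⟨⟨hx, hlen⟩, hsrc⟩, hrest⟩ := hok
      have hle : st.length = st'.length := by simpa using congrArg List.length hk
      have hlen' : ∀ t ∈ ts, ∀ i ∈ t.1, i < st.length := fun t h2 i h3 => hle ▸ hlen t h2 i h3
      obtain ⟨-, hz, hmap⟩ := map_terms hv hw hgv hgw hst ts hlen'
      rw [List.map_congr_left fun t ht => termSrc_congr (M := M) (v := v) (w := w) hk t (hlen' t ht),
        hsrc] at hmap
      obtain ⟨e, he, hconj⟩ := R.conj hs g hx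
      have hev : M.act e v = sumc M (ts.map (termTgt M st v w)) := by
        refine R.inj _ (R.act_eq e he v hv).1 _ hz ?_
        rw [← (R.act_eq e he v hv).2, ← hmap, ← (R.act_eq x hx v hv).2, hconj, hgv]
      have hinv : inv tab (sumc M (ts.map (termTgt M st v w))) = e := hev ▸ htab e he
      obtain ⟨img, hmem, h⟩ := ih _ _ (hnext e he hx hconj) (hkeys e) hrest
      refine ⟨img, ?_, h⟩
      simp only [run, hinv]
      rw [if_pos ⟨he, hev⟩]
      exact hmem

/-- The images of the units under an element. -/
def Images (R : Rep M B W) (g : Γ) (img : List ℕ) : Prop :=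
  img.length = M.units.length ∧ (∀ c ∈ img, c < M.P) ∧
    List.map (fun u => g • R.ι u) M.units = img.map R.ι

theorem Images.fixes {g : Γ} (h : R.Images g M.units) (x : W) : g • x = x := by
  rw [R.ext_units (g := g) (h := 1) (fun u hu => ?_) x, one_smul]
  rw [one_smul]
  exact List.map_inj_left.1 h.2.2 u hu

theorem Images.lin {g : Γ} {img : List ℕ} (h : R.Images g img) {q c c' : ℕ}
    (hc : Cert.lin M q img c = some c') : c' < M.P ∧ g • R.ι c = R.ι c' := by
  unfold Cert.lin at hc
  simp only at hc
  split_ifs at hc with he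
  obtain ⟨-, h2, h3⟩ := R.map_sumc (g := g)
    (expand (M.units.zip img) (digits q M.units.length c)) fun p hp => by
      obtain ⟨⟨p', d⟩, hpd, hp'⟩ := List.mem_flatMap.1 hp
      have hm : p ∈ M.units.zip img := by
        rw [List.eq_of_mem_replicate hp']
        exact (List.of_mem_zip hpd).1
      refine ⟨R.units_lt _ (List.of_mem_zip hm).1, h.2.1 _ (List.of_mem_zip hm).2, ?_⟩
      obtain ⟨i, hi, e⟩ := List.getElem_of_mem hm
      rw [← e, List.getElem_zip]
      have := congrArg (fun l : List W => l[i]?) h.2.2
      simp only [List.length_zip] at hi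
      simpa [List.getElem?_eq_getElem (show i < M.units.length by omega),
        List.getElem?_eq_getElem (show i < img.length by omega)] using this
  rw [he] at h3
  obtain rfl := Option.some.inj hc
  exact ⟨h2, h3⟩

theorem not_refutes (hs : Pre Γ L W B) (hv : v < M.P) (hgv : g • R.ι v = R.ι v) {tab : ℕ}
    (htab : ∀ e < M.S, inv tab (M.act e v) = e) {q : ℕ} {img : List ℕ} (h : R.Images g img) {e : ℕ}
    (he : e < M.S) : refutes M q tab v img e = false := by
  unfold refutes
  split
  · next z hz =>
    obtain ⟨hzP, hgz⟩ := h.lin hz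
    obtain ⟨e', he', hconj⟩ := R.conj hs g he
    obtain ⟨h1, h2⟩ := R.act_eq e' he' v hv
    have hz' : z = M.act e' v := R.inj _ hzP _ h1 (by
      rw [← hgz, ← (R.act_eq e he v hv).2, hconj, hgv, h2])
    have hinv : inv tab z = e' := hz' ▸ htab e' he'
    simp only [hinv, Bool.not_eq_false', Bool.and_eq_true, decide_eq_true_eq, List.all_eq_true]
    refine ⟨he', fun u hu => ?_⟩
    split
    · next a c ha hc =>
      obtain ⟨haP, hga⟩ := h.lin ha
      obtain ⟨hcP, hgc⟩ := h.lin hc
      obtain ⟨k1, k2⟩ := R.act_eq e' he' c hcP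
      refine decide_eq_true (R.inj _ haP _ k1 ?_)
      rw [← hga, ← (R.act_eq e he u (R.units_lt u hu)).2, hconj, hgc, k2]
    · rfl
  · rfl

theorem linAll_sound {q : ℕ} {img : List ℕ} :
    ∀ (K J : List ℕ), Cert.linAll M q img K = some J →
      List.Forall₂ (fun c c' => Cert.lin M q img c = some c') K J := by
  intro K
  induction K with
  | nil =>
    intro J h
    obtain rfl : [] = J := Option.some.inj h
    exact .nil
  | cons c cs ih =>
    intro J h
    simp only [Cert.linAll] at h
    split at h
    · next a as e1 e2 =>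
      obtain rfl := Option.some.inj h
      exact .cons e1 (ih _ e2)
    · simp at h

theorem comp_sound {gs : List Γ} {imgs : List (List ℕ)} {q : ℕ} (h : List.Forall₂ R.Images gs imgs) :
    ∀ (word : List ℕ), (∀ i ∈ word, i < imgs.length) → ∀ J, Cert.comp M q imgs word = some J →
      R.Images (word.map fun i => gs.getD i 1).prod J := by
  intro word
  induction word with
  | nil =>
    intro _ J hJ
    obtain rfl : M.units = J := Option.some.inj hJ
    exact ⟨rfl, R.units_lt, List.map_congr_left fun u _ => one_smul _ _⟩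
  | cons i rest ih =>
    intro hlt J hJ
    simp only [Cert.comp, Option.bind_eq_some_iff] at hJ
    obtain ⟨K, hK, hJ⟩ := hJ
    obtain ⟨k1, k2, k3⟩ := ih (fun j hj => hlt j (List.mem_cons_of_mem _ hj)) K hK
    have hi : i < imgs.length := hlt i List.mem_cons_self
    have hi' : i < gs.length := h.length_eq ▸ hi
    have hg : R.Images (gs.getD i 1) (imgs.getD i []) := by
      rw [List.getD_eq_getElem _ _ hi, List.getD_eq_getElem _ _ hi']
      exact h.get (i := i) hi' hi
    replace hJ := linAll_sound K J hJ
    have key : ∀ {K J : List ℕ}, List.Forall₂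
        (fun c c' => Cert.lin M q (imgs.getD i []) c = some c') K J →
        (∀ c ∈ J, c < M.P) ∧ K.map (fun c => gs.getD i 1 • R.ι c) = J.map R.ι := by
      intro K J hJ
      induction hJ with
      | nil => exact ⟨fun _ h => absurd h List.not_mem_nil, rfl⟩
      | cons hcd _ ih =>
        obtain ⟨a1, a2⟩ := hg.lin hcd
        refine ⟨List.forall_mem_cons.2 ⟨a1, ih.1⟩, ?_⟩
        rw [List.map_cons, List.map_cons, a2, ih.2]
    refine ⟨hJ.length_eq.symm.trans k1, (key hJ).1, ?_⟩
    rw [← (key hJ).2, List.map_cons, List.prod_cons]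
    simp only [mul_smul]
    have h' := congrArg (List.map fun x : W => gs.getD i 1 • x) k3
    rw [List.map_map, List.map_map] at h'
    exact h'

variable (R)

theorem free_of_check (hv : v < M.P)
    (h : ∀ e < M.S, M.act e v = v → ∀ u ∈ M.units, M.act e u = u) : Free B (R.ι v) := by
  intro b hb hbv x
  obtain ⟨e, he, hcov⟩ := R.cover b hb
  have h1 : M.act e v = v :=
    R.inj _ (R.act_eq e he v hv).1 _ hv (by rw [← (R.act_eq e he v hv).2, ← hcov, hbv])
  rw [hcov]
  have h2 := R.ext_units (g := R.φ e) (h := 1) (fun u hu => by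
    rw [one_smul, (R.act_eq e he u (R.units_lt u hu)).2, h e he h1 u hu]) x
  rwa [one_smul] at h2

include R in
theorem rich_of_check (u₁ u₂ : ℕ) (h1 : u₁ < M.P) (h2 : u₂ < M.P) (h01 : u₁ ≠ 0) (h02 : u₂ ≠ 0)
    (hf1 : ∀ e < M.S, M.act e u₁ = u₁ → ∀ u ∈ M.units, M.act e u = u)
    (hf2 : ∀ e < M.S, M.act e u₂ = u₂ → ∀ u ∈ M.units, M.act e u = u)
    (hne : ∀ e < M.S, M.act e u₁ ≠ u₂) : Rich B W := by
  intro x
  by_cases h : ∃ k ∈ B, k • x = R.ι u₁
  · refine ⟨R.ι u₂, fun e => h02 (R.inj _ h2 _ R.pos (e.trans R.zero.symm)),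
      R.free_of_check h2 hf2, fun k hk e => ?_⟩
    obtain ⟨k0, hk0, e0⟩ := h
    obtain ⟨e', he', hcov⟩ := R.cover _ (B.mul_mem hk (B.inv_mem hk0))
    refine hne e' he' (R.inj _ (R.act_eq e' he' _ h1).1 _ h2 ?_)
    rw [← (R.act_eq e' he' _ h1).2, ← hcov, mul_smul, inv_smul_eq_iff.2 e0.symm, e]
  · exact ⟨R.ι u₁, fun e => h01 (R.inj _ h1 _ R.pos (e.trans R.zero.symm)),
      R.free_of_check h1 hf1, fun k hk e => h ⟨k, hk, e⟩⟩

/-- One candidate for the second vector. -/
structure _root_.CfsgLib.CoprimeBase.Cert.Second where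
  w : ℕ
  items : List Item
  fin : List (List Term)
  bad : List (List ℕ)
  wit : List ℕ

/-- The check for a candidate. -/
def _root_.CfsgLib.CoprimeBase.Cert.Second.ok (C : Cert.Second) (M : Model) (q tab v : ℕ) : Bool :=
  decide (C.w < M.P) && srcOk M v C.w C.fin C.items [] &&
    (run M tab v C.w C.fin C.items []).all fun img =>
      decide (img = M.units) || C.bad.contains img ||
        C.wit.any fun e => decide (e < M.S) && refutes M q tab v img e

include R in
/-- A pair from certificates for several second vectors. -/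
theorem pair_of_cert [Finite Γ] [Finite W] (hs : Setting Γ L W B) {q : ℕ} (hq : q.Prime)
    (hqW : q ∣ M.P) (tab v : ℕ) (hv : v < M.P) (hv0 : v ≠ 0)
    (htab : (List.range M.S).all (fun e => decide (inv tab (M.act e v) = e)) = true)
    (hfree : (List.range M.S).all (fun e => decide (M.act e v ≠ v) ||
      M.units.all fun u => decide (M.act e u = u)) = true)
    (Cs : List Cert.Second) (hCs : Cs.all (·.ok M q tab v) = true) (words : List (List ℕ))
    (hwords : (tuples (Cs.map (·.bad))).all
      (fun imgs => words.any (wordGood M q imgs)) = true) : Pair (W := W) B := by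
  simp only [List.all_eq_true, List.mem_range, decide_eq_true_eq, Bool.or_eq_true,
    Cert.Second.ok, Bool.and_eq_true] at htab hfree hCs
  have hF := R.free_of_check hv fun e he h => (hfree e he).resolve_left fun h' => h' h
  have hv' : R.ι v ≠ 0 := fun e => hv0 (R.inj _ hv _ R.pos (e.trans R.zero.symm))
  by_contra hcon
  have hbad : ∀ C ∈ Cs, ∃ g : Γ, ∃ img ∈ C.bad, R.Images g img := by
    intro C hC
    obtain ⟨⟨hw, hsrc⟩, hrun⟩ := hCs C hC
    by_contra h
    push Not at h
    refine hcon ⟨R.ι v, R.ι C.w, fun g hgv hgw => ?_, hv', hF⟩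
    obtain ⟨img, hmem, himg⟩ := run_sound hs.toPre hv hw hgv hgw htab C.fin C.items [] []
      (fun p hp => absurd hp List.not_mem_nil) rfl hsrc
    rcases hrun img hmem with (e | e) | e
    · subst e
      exact Images.fixes himg
    · exact absurd himg (h g img (List.contains_iff_mem.1 e))
    · obtain ⟨e', -, h'⟩ := List.any_eq_true.1 e
      simp only [Bool.and_eq_true, decide_eq_true_eq] at h'
      rw [not_refutes hs.toPre hv hgv htab himg h'.1] at h'
      exact absurd h'.2 Bool.false_ne_true
  obtain ⟨gs, imgs, himgs, htuple⟩ : ∃ gs imgs, List.Forall₂ R.Images gs imgs ∧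
      imgs ∈ tuples (Cs.map (·.bad)) := by
    clear hwords hCs hcon
    induction Cs with
    | nil => exact ⟨[], [], .nil, List.mem_singleton.2 rfl⟩
    | cons C t ih =>
      obtain ⟨gs, imgs, h1, h2⟩ := ih fun D hD => hbad D (List.mem_cons_of_mem _ hD)
      obtain ⟨g, img, hmem, hg⟩ := hbad C List.mem_cons_self
      exact ⟨g :: gs, img :: imgs, .cons hg h1,
        List.mem_flatMap.2 ⟨img, hmem, List.mem_map.2 ⟨imgs, h2, rfl⟩⟩⟩
  simp only [List.all_eq_true] at hwords
  obtain ⟨word, -, hgood⟩ := List.any_eq_true.1 (hwords imgs htuple)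
  simp only [wordGood, Bool.and_eq_true, List.all_eq_true, decide_eq_true_eq] at hgood
  obtain ⟨⟨hlt, h1⟩, hq'⟩ := hgood
  cases hJ : Cert.comp M q imgs word with
  | none => simp [hJ] at h1
  | some J =>
    simp only [hJ, decide_eq_true_eq] at h1
    obtain ⟨hl, hb, himg⟩ := comp_sound himgs word hlt J hJ
    have hfix := Images.fixes (comp_sound himgs (List.replicate q word).flatten (fun i hi => by
      obtain ⟨l, hl, hil⟩ := List.mem_flatten.1 hi
      rw [List.eq_of_mem_replicate hl] at hil
      exact hlt i hil) _ hq')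
    set x := (word.map fun i => gs.getD i 1).prod with hx
    rw [List.map_flatten, List.map_replicate, List.prod_flatten, List.map_replicate,
      List.prod_replicate, ← hx] at hfix
    let K : Subgroup Γ :=
      { carrier := {g | ∀ w : W, g • w = w}
        one_mem' := fun w => one_smul _ _
        mul_mem' := fun {a b} ha hb w => by rw [mul_smul, hb, ha]
        inv_mem' := fun {a} ha w => by rw [inv_smul_eq_iff, ha] }
    have hxq : x ^ q ∈ K := hfix
    have hcop : Nat.Coprime q (orderOf x) := by
      refine Nat.Coprime.coprime_dvd_right (orderOf_dvd_natCard x) ?_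
      refine Nat.Coprime.coprime_dvd_left ?_ hs.coprime.symm
      rw [R.card_eq]
      exact hqW
    have hxK : x ∈ K := by
      have h3 : x ^ Nat.gcd q (orderOf x) ∈ K := by
        rw [← zpow_natCast, Nat.gcd_eq_gcd_ab, zpow_add, zpow_mul, zpow_mul, zpow_natCast,
          zpow_natCast, pow_orderOf_eq_one, one_zpow, mul_one]
        exact zpow_mem hxq _
      rwa [hcop.gcd_eq_one, pow_one] at h3
    refine h1 (List.ext_getElem hl fun i hi hi' => ?_)
    have e := congrArg (fun l : List W => l[i]?) himg
    simp only [List.getElem?_map, List.getElem?_eq_getElem hi, List.getElem?_eq_getElem hi',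
      Option.map_some, Option.some.injEq] at e
    rw [hxK] at e
    exact R.inj _ (hb _ (List.getElem_mem _)) _ (R.units_lt _ (List.getElem_mem _)) e.symm

end Rep

end CfsgLib.CoprimeBase
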