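import Cfsg.Agent.Lib.CoprimeBase.Cert
import Mathlib.Tactic.NormNum.Prime

/-!
Certificate for a small model.
-/

set_option autoImplicit false
set_option maxRecDepth 100000

namespace CfsgLib.CoprimeBase.Cert

open CfsgLib.CoprimeBase

/-- The model. -/
def fiveModel : Model := ((Model.scal 5).double).double

def fiveTab : ℕ := 0x3a000000001a0000000000003e1e00000000000000000000000000000000000000000000000000000000000000000000000000000000000000000000000000000000000000000000000000310000000011000000000000163600000000000000000803000000202b0000000000000000000000000000000000000000000000000000000000000000000000000000000000180000000000000000000000000000381c00003c0000000000130000000000000000000000000000333400001400000000000000000000000000000000000000000000000000002a0000210000000000000000000000020000090000000000000000000000000000000000000000000000000000000000000000000000300000000000000000000000000000101700003700000000003b00000000000000000000000000001b3f00001f00000000000000000000000000000000000000000000000000000a0000010000000000000000000000220000290000000000000000000000000000001200000000320000000000003515000000000000000000000000000000000000000000000000000000000000000000000000000000000000000000000000000000000000000000000000001900000000390000000000001d3d00000000000000002823000000000b0000000000000000000000000000000000000c24000000072f0000000000000000000000002e00000600000000000000000000002500000d0000000000000e00002600000000000000000000000500002d0000000000000000000000002c04000000270f00000000000000000000000000000000000000000000000000000000000000000000000000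

def fiveSeconds : List Second := [
  ⟨31,
    [(16, none),
      (60, some [([], true), ([0], false), ([0], false), ([0], false), ([0], false)]),
      (32, some [([], false), ([], false), ([0], false), ([0], false), ([0], false), ([1], false),
          ([1], false)]),
      (4, some [([0], false), ([2], false), ([2], false), ([2], false), ([2], false), ([0, 2], false)])],
    [[([], false), ([], false), ([1], false), ([3], false), ([3], false)],
      [([], false), ([], false), ([], false), ([], false), ([0], false), ([0], false),
        ([1], false), ([1], false), ([1], false), ([1], false), ([3], false), ([3], false)],
      [([], false), ([], false), ([], false), ([], false), ([0], false), ([0], false),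
        ([0], false), ([0], false), ([1], false), ([3], false)],
      [([], false), ([], false), ([0], false), ([1], false), ([1], false), ([1], false),
        ([1], false)]],
    [],
    []⟩]

def fiveWords : List (List ℕ) := []

theorem five_tab : (List.range fiveModel.S).all
    (fun e => decide (inv fiveTab (fiveModel.act e 138) = e)) = true := by
  decide +kernel

theorem five_free₁ : (List.range fiveModel.S).all (fun e => decide (fiveModel.act e 138 ≠ 138) ||
    fiveModel.units.all fun u => decide (fiveModel.act e u = u)) = true := by
  decide +kernel

theorem five_free₂ : (List.range fiveModel.S).all (fun e => decide (fiveModel.act e 31 ≠ 31) ||
    fiveModel.units.all fun u => decide (fiveModel.act e u = u)) = true := by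
  decide +kernel

theorem five_orbit : (List.range fiveModel.S).all
    (fun e => decide (fiveModel.act e 138 ≠ 31)) = true := by
  decide +kernel

theorem five_seconds : fiveSeconds.all (·.ok fiveModel 5 fiveTab 138) = true := by
  decide +kernel

theorem five_words : (tuples (fiveSeconds.map (·.bad))).all
    (fun imgs => fiveWords.any (wordGood fiveModel 5 imgs)) = true := by
  decide +kernel

universe u

variable {Γ L W : Type u} [Group Γ] [Field L] [AddCommGroup W] [Module L W] [DistribMulAction Γ W]
  {B : Subgroup Γ}

theorem five_pair [Finite Γ] [Finite W] (hs : Setting Γ L W B) (R : Rep fiveModel B W) :
    Pair (W := W) B :=
  R.pair_of_cert hs (q := 5) (by norm_num) (by decide +kernel) fiveTab 138 (by decide +kernel)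
    (by decide) five_tab five_free₁ _ five_seconds _ five_words

theorem five_rich (R : Rep fiveModel B W) : Rich B W := by
  have h1 := five_free₁
  have h2 := five_free₂
  have h3 := five_orbit
  simp only [List.all_eq_true, List.mem_range, decide_eq_true_eq, Bool.or_eq_true] at h1 h2 h3
  exact R.rich_of_check 138 31 (by decide +kernel) (by decide +kernel) (by decide) (by decide)
    (fun e he h => (h1 e he).resolve_left fun h' => h' h)
    (fun e he h => (h2 e he).resolve_left fun h' => h' h) h3

end CfsgLib.CoprimeBase.Cert
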