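import Mathlib.FieldTheory.Finite.Basic
import Mathlib.NumberTheory.LegendreSymbol.QuadraticChar.Basic
import Mathlib.Tactic.IntervalCases
import Mathlib.Tactic.LinearCombination
import Mathlib.Tactic.FieldSimp
import Mathlib.Tactic.Ring

/-!
Points on the circle of radius a nonsquare.
-/

set_option autoImplicit false

namespace CfsgLib.CoprimeBase

theorem exists_circle {L : Type*} [Field L] [Finite L] (h4 : Nat.card L % 4 = 3)
    (hq : 5 < Nat.card L) :
    ∃ Y Z : L, Y ^ 2 + Z ^ 2 = -1 ∧ Y ^ 2 ≠ 1 ∧ Z ^ 2 ≠ 1 := by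
  classical
  haveI := Fintype.ofFinite L
  have hns : ¬ IsSquare (-1 : L) := by
    rw [FiniteField.isSquare_neg_one_iff, ← Nat.card_eq_fintype_card]
    omega
  by_cases h7 : Nat.card L = 7
  · have h0 : (7 : L) = 0 := by
      have := FiniteField.cast_card_eq_zero L
      rw [← Nat.card_eq_fintype_card, h7] at this
      exact_mod_cast this
    have h2 : (2 : L) ≠ 0 := fun h => one_ne_zero (by linear_combination h0 - 3 * h : (1 : L) = 0)
    refine ⟨3, 2, by linear_combination 2 * h0, fun h => ?_, fun h => ?_⟩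
    · exact one_ne_zero (by linear_combination h - h0 : (1 : L) = 0)
    · exact one_ne_zero (by linear_combination (-2 : L) * h + h0 : (1 : L) = 0)
  have h11 : 9 < Nat.card L := by
    by_contra h
    interval_cases hc : Nat.card L <;> omega
  obtain ⟨p, hp⟩ := CharP.exists L
  haveI := hp
  haveI : NeZero p := ⟨CharP.char_ne_zero_of_finite L p⟩
  obtain ⟨a0, b0, hab⟩ := CharP.sq_add_sq L p (-1)
  obtain ⟨Y0, Z0, h0⟩ : ∃ Y0 Z0 : L, Y0 ^ 2 + Z0 ^ 2 = -1 :=
    ⟨(a0 : L), (b0 : L), by rw [← Int.cast_one, ← Int.cast_neg, ← hab]⟩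
  by_contra hno
  push Not at hno
  have hden : ∀ t : L, 1 + t ^ 2 ≠ 0 := fun t h => hns ⟨t, by linear_combination -h⟩
  let c : L → L := fun t => (1 - t ^ 2) / (1 + t ^ 2)
  let s : L → L := fun t => 2 * t / (1 + t ^ 2)
  have hcs : ∀ t, c t ^ 2 + s t ^ 2 = 1 := fun t => by
    simp only [c, s]
    field_simp [hden t]
    ring
  let f : L → L × L := fun t => (Y0 * c t - Z0 * s t, Y0 * s t + Z0 * c t)
  have hf : ∀ t, (f t).1 ^ 2 + (f t).2 ^ 2 = -1 := fun t => by
    show (Y0 * c t - Z0 * s t) ^ 2 + (Y0 * s t + Z0 * c t) ^ 2 = -1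
    linear_combination (c t ^ 2 + s t ^ 2) * h0 - hcs t
  have hfi : Function.Injective f := by
    intro t u e
    have e1 : Y0 * c t - Z0 * s t = Y0 * c u - Z0 * s u := congrArg Prod.fst e
    have e2 : Y0 * s t + Z0 * c t = Y0 * s u + Z0 * c u := congrArg Prod.snd e
    have ec : c t = c u := by linear_combination (-Y0) * e1 + (-Z0) * e2 + (c t - c u) * h0
    have es : s t = s u := by linear_combination Z0 * e1 + (-Y0) * e2 + (s t - s u) * h0
    simp only [c, s] at ec es
    have h1t := hden t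
    have h1u := hden u
    field_simp at ec es
    have h2 : (2 : L) ≠ 0 := fun h => hns ⟨1, by linear_combination -h⟩
    have hz : (t - u) * ((1 + t ^ 2) * (1 + u ^ 2)) * 2 = 0 := by
      grind
    rcases mul_eq_zero.1 hz with h | h
    · rcases mul_eq_zero.1 h with h' | h'
      · exact sub_eq_zero.1 h'
      · exact absurd h' (mul_ne_zero h1t h1u)
    · exact absurd h h2
  let R : L → Finset L := fun a => Finset.univ.filter fun x => x ^ 2 = a
  have hR : ∀ a, (R a).card ≤ 2 := by
    intro a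
    by_cases hR0 : R a = ∅
    · rw [hR0]; simp
    obtain ⟨x, hx⟩ := Finset.nonempty_iff_ne_empty.2 hR0
    refine le_trans (Finset.card_le_card (t := {x, -x}) fun y hy => ?_) Finset.card_le_two
    simp only [R, Finset.mem_filter, Finset.mem_univ, true_and] at hx hy
    rw [Finset.mem_insert, Finset.mem_singleton]
    exact sq_eq_sq_iff_eq_or_eq_neg.1 (hy.trans hx.symm)
  have himg : Finset.univ.image f ⊆ (R 1 ×ˢ R (-2)) ∪ (R (-2) ×ˢ R 1) := by
    intro p hp
    obtain ⟨t, -, rfl⟩ := Finset.mem_image.1 hp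
    have h1 := hf t
    simp only [Finset.mem_union, Finset.mem_product, R, Finset.mem_filter, Finset.mem_univ, true_and]
    by_cases hY : (f t).1 ^ 2 = 1
    · exact Or.inl ⟨hY, by linear_combination h1 - hY⟩
    · have hZ := hno _ _ h1 hY
      exact Or.inr ⟨by linear_combination h1 - hZ, hZ⟩
  have hcard := (Finset.card_le_card himg).trans (Finset.card_union_le _ _)
  rw [Finset.card_image_of_injective _ hfi, Finset.card_univ, ← Nat.card_eq_fintype_card,
    Finset.card_product, Finset.card_product] at hcard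
  have := Nat.mul_le_mul (hR 1) (hR (-2))
  have := Nat.mul_le_mul (hR (-2)) (hR 1)
  omega

end CfsgLib.CoprimeBase
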