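import Cfsg.Agent.Lib.OddBase.Basic
import Mathlib.GroupTheory.GroupAction.SubMulAction
import Mathlib.GroupTheory.GroupAction.Blocks
import Mathlib.GroupTheory.GroupAction.FixingSubgroup
import Mathlib.GroupTheory.GroupAction.Primitive
import Mathlib.Data.Set.Card
import Mathlib.Tactic.Linarith

/-!
Distinguishing colourings: `k` pairwise inequivalent colourings with `k` colours, each with trivial
stabilizer.
-/

set_option autoImplicit false
set_option linter.unusedSectionVars false

open scoped Pointwise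

namespace CfsgLib.CoprimeBase

universe u

/-- `k` pairwise inequivalent distinguishing colourings with `k` colours. -/
def Dist (k : ℕ) (A Ω : Type*) [Group A] [MulAction A Ω] : Prop :=
  ∃ c : Fin k → Ω → Fin k, ∀ (a : A) (i j : Fin k), (∀ x, c j (a • x) = c i x) →
    i = j ∧ ∀ x : Ω, a • x = x

/-- A single colouring whose cyclic shifts are inequivalent. -/
theorem dist_of_shift {k : ℕ} [NeZero k] {A Ω : Type*} [Group A] [MulAction A Ω] (f : Ω → Fin k)
    (hshift : ∀ (a : A) (δ : Fin k), (∀ x, f (a • x) = f x + δ) → δ = 0)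
    (hrig : ∀ a : A, (∀ x, f (a • x) = f x) → ∀ x : Ω, a • x = x) : Dist k A Ω := by
  refine ⟨fun i x => f x + i, fun a i j h => ?_⟩
  have hij : i - j = 0 := hshift a (i - j) fun x => by
    have h1 : f (a • x) + j = f x + i := h x
    rw [← add_sub_assoc, ← h1, add_sub_cancel_right]
  rw [sub_eq_zero] at hij
  subst hij
  exact ⟨rfl, hrig a fun x => add_right_cancel (h x)⟩

/-- Equal class sizes under a nontrivial shift. -/
theorem card_class_shift {k : ℕ} [NeZero k] {A Ω : Type*} [Group A] [MulAction A Ω] (f : Ω → Fin k)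
    (a : A) (δ : Fin k) (h : ∀ x, f (a • x) = f x + δ) (c : Fin k) :
    Nat.card {x // f x = c} = Nat.card {x // f x = c + δ} :=
  Nat.card_congr ((MulAction.toPerm a).subtypeEquiv fun x => by
    show f x = c ↔ f (a • x) = c + δ
    rw [h, add_left_inj])

theorem dist_congr {k : ℕ} {A Ω : Type*} [Group A] [MulAction A Ω] {B : Type*} [Group B]
    [MulAction B Ω] (φ : A → B) (hφ : ∀ (a : A) (x : Ω), φ a • x = a • x) (h : Dist k B Ω) :
    Dist k A Ω := by
  obtain ⟨c, hc⟩ := h
  refine ⟨c, fun a i j he => ?_⟩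
  obtain ⟨h1, h2⟩ := hc (φ a) i j fun x => by rw [hφ]; exact he x
  exact ⟨h1, fun x => by rw [← hφ]; exact h2 x⟩

theorem dist_of_subsingleton {k : ℕ} {A Ω : Type*} [Group A] [MulAction A Ω] [Subsingleton Ω]
    (ω : Ω) : Dist k A Ω :=
  ⟨fun i _ => i, fun _ _ _ h => ⟨(h ω).symm, fun _ => Subsingleton.elim _ _⟩⟩

theorem dist_of_not_transitive {k : ℕ} [NeZero k] {A Ω : Type*} [Group A] [MulAction A Ω] (ω : Ω)
    (h1 : Dist k A ↥(MulAction.orbit A ω))
    (h2 : ∀ (K : Subgroup A) (O : SubMulAction K Ω), (O : Set Ω) = (MulAction.orbit A ω)ᶜ →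
      Nonempty O → Dist k K O) (hne : (MulAction.orbit A ω)ᶜ.Nonempty) : Dist k A Ω := by
  classical
  obtain ⟨c1, hc1⟩ := h1
  let K : Subgroup A := fixingSubgroup A (MulAction.orbit A ω)
  let O : SubMulAction K Ω :=
    { carrier := (MulAction.orbit A ω)ᶜ
      smul_mem' := fun k x hx h => hx (by
        obtain ⟨g, hg⟩ := h
        exact ⟨(k : A)⁻¹ * g, by
          show ((k : A)⁻¹ * g) • ω = x
          rw [mul_smul, show g • ω = (k : A) • x from hg, inv_smul_smul]⟩) }
  obtain ⟨y₀, hy₀⟩ := hne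
  obtain ⟨c2, hc2⟩ := h2 K O rfl ⟨⟨y₀, hy₀⟩⟩
  refine ⟨fun i x => if hx : x ∈ MulAction.orbit A ω then c1 i ⟨x, hx⟩ else c2 0 ⟨x, hx⟩,
    fun a i j h => ?_⟩
  obtain ⟨hij, hfix⟩ := hc1 a i j fun y => by
    have := h (y : Ω)
    simp only [dif_pos y.2, dif_pos (MulAction.mem_orbit_of_mem_orbit a y.2)] at this
    exact this
  have haK : a ∈ K := (mem_fixingSubgroup_iff A).2 fun y hy => congrArg Subtype.val (hfix ⟨y, hy⟩)
  refine ⟨hij, fun x => ?_⟩
  by_cases hx : x ∈ MulAction.orbit A ω
  · exact congrArg Subtype.val (hfix ⟨x, hx⟩)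
  · have h3 := (hc2 ⟨a, haK⟩ 0 0 fun y => by
      have := h (y : Ω)
      have hy : (y : Ω) ∉ MulAction.orbit A ω := y.2
      have hay : a • (y : Ω) ∉ MulAction.orbit A ω := ((⟨a, haK⟩ : K) • y).2
      simp only [dif_neg hy, dif_neg hay] at this
      exact this).2 ⟨x, hx⟩
    exact congrArg Subtype.val h3

theorem dist_of_block {k : ℕ} {A Ω : Type*} [Group A] [MulAction A Ω]
    [MulAction.IsPretransitive A Ω] (B : Set Ω) (hB : B.Nonempty)
    (h1 : Dist k A ↥(MulAction.orbit A B))
    (h2 : ∀ (O : SubMulAction (MulAction.stabilizer A B) Ω), (O : Set Ω) = B →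
      Dist k (MulAction.stabilizer A B) O)
    (hblock : MulAction.IsBlock A B) : Dist k A Ω := by
  classical
  let H := MulAction.stabilizer A B
  let O : SubMulAction H Ω :=
    { carrier := B
      smul_mem' := fun k x hx => by
        have := Set.smul_mem_smul_set (a := (k : A)) hx
        rwa [MulAction.mem_stabilizer_iff.1 k.2] at this }
  obtain ⟨d, hd⟩ := h2 O rfl
  obtain ⟨col, hcol⟩ := h1
  obtain ⟨ω₀, hω₀⟩ := hB
  let t : MulAction.orbit A B → A := fun b => Classical.choose b.2
  have ht : ∀ b : MulAction.orbit A B, t b • B = (b : Set Ω) := fun b => Classical.choose_spec b.2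
  have hex : ∀ x : Ω, ∃ by' : MulAction.orbit A B × O, t by'.1 • (by'.2 : Ω) = x := by
    intro x
    obtain ⟨g, rfl⟩ := MulAction.exists_smul_eq A ω₀ x
    let b : MulAction.orbit A B := ⟨g • B, g, rfl⟩
    have hm : g • ω₀ ∈ t b • B := by rw [ht]; exact Set.smul_mem_smul_set hω₀
    obtain ⟨y, hy, he⟩ := hm
    exact ⟨(b, ⟨y, hy⟩), he⟩
  choose dec hdec using hex
  have huniq : ∀ (b : MulAction.orbit A B) (y : O), dec (t b • (y : Ω)) = (b, y) := by
    intro b y
    have e := hdec (t b • (y : Ω))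
    have hb : (dec (t b • (y : Ω))).1 = b := by
      refine Subtype.ext ?_
      rw [← ht, ← ht b]
      exact hblock.smul_eq_smul_of_nonempty ⟨t b • (y : Ω),
        ⟨_, (dec (t b • (y : Ω))).2.2, e⟩, Set.smul_mem_smul_set y.2⟩
    rw [hb] at e
    exact Prod.ext hb (Subtype.ext (smul_left_cancel _ e))
  refine ⟨fun i x => d (col i (dec x).1) (dec x).2, fun a i j h => ?_⟩
  have key : ∀ b : MulAction.orbit A B, col j (a • b) = col i b ∧
      ∀ y : O, a • t b • (y : Ω) = t (a • b) • (y : Ω) := by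
    intro b
    have hh : (t (a • b))⁻¹ * a * t b ∈ H := by
      rw [MulAction.mem_stabilizer_iff, mul_smul, mul_smul, ht]
      rw [← MulAction.orbit.coe_smul, ← ht (a • b), inv_smul_smul]
    let g : H := ⟨_, hh⟩
    have hy : ∀ y : O, t (a • b) • ((g • y : O) : Ω) = a • t b • (y : Ω) := by
      intro y
      show t (a • b) • ((t (a • b))⁻¹ * a * t b) • (y : Ω) = _
      rw [mul_smul, mul_smul, smul_inv_smul]
    obtain ⟨h3, h4⟩ := hd g (col i b) (col j (a • b)) fun y => by
      have := h (t b • (y : Ω))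
      simp only [← hy, huniq] at this
      exact this
    exact ⟨h3.symm, fun y => by rw [← hy, h4 y]⟩
  obtain ⟨hij, hfix⟩ := hcol a i j fun b => (key b).1
  refine ⟨hij, fun x => ?_⟩
  rw [← hdec x]
  rw [(key (dec x).1).2 (dec x).2, hfix]

/-- Reduction to primitive groups. -/
theorem dist_all {k : ℕ} [NeZero k] (P : ∀ (A : Type u) [Group A], Prop)
    (hsub : ∀ (A : Type u) [Group A] [Finite A] (H : Subgroup A), P A → P ↥H)
    (hprim : ∀ (A Ω : Type u) [Group A] [Finite A] [MulAction A Ω] [Finite Ω] [Nontrivial Ω],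
      P A → MulAction.IsPreprimitive A Ω → Dist k A Ω)
    {A Ω : Type u} [Group A] [Finite A] [MulAction A Ω] [Finite Ω] [Nonempty Ω] (hA : P A) :
    Dist k A Ω := by
  classical
  induction hc : Nat.card Ω using Nat.strong_induction_on generalizing A Ω with
  | _ c ih =>
  subst hc
  obtain ⟨ω⟩ := (inferInstance : Nonempty Ω)
  rcases subsingleton_or_nontrivial Ω with hs | hnt
  · exact dist_of_subsingleton ω
  by_cases htr : MulAction.IsPretransitive A Ω
  · by_cases hprim' : MulAction.IsPreprimitive A Ω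
    · exact hprim A Ω hA hprim'
    · obtain ⟨B, hB, hB1, hB2⟩ : ∃ B : Set Ω, MulAction.IsBlock A B ∧ ¬ B.Subsingleton ∧
          B ≠ Set.univ := by
        by_contra hno
        replace hno : ∀ B : Set Ω, MulAction.IsBlock A B → ¬ B.Subsingleton → B = Set.univ :=
          fun B h1 h2 => not_not.1 fun h3 => hno ⟨B, h1, h2, h3⟩
        exact hprim' { toIsPretransitive := htr
                       isTrivialBlock_of_isBlock := fun {B} hB => or_iff_not_imp_left.2 fun hs => hno B hB hs }
      have hBne : B.Nonempty := (Set.not_subsingleton_iff.1 hB1).nonempty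
      have hmul := hB.ncard_block_mul_ncard_orbit_eq hBne
      have h2 : 2 ≤ B.ncard := (Set.one_lt_ncard).2
        (by obtain ⟨a, ha, b, hb, hab⟩ := Set.not_subsingleton_iff.1 hB1; exact ⟨a, ha, b, hb, hab⟩)
      have hpos : 0 < (MulAction.orbit A B).ncard :=
        Set.ncard_pos (Set.toFinite _) |>.2 ⟨B, MulAction.mem_orbit_self B⟩
      have hlt : (MulAction.orbit A B).ncard < Nat.card Ω := by nlinarith
      have hBlt : B.ncard < Nat.card Ω := by
        rw [← Set.ncard_univ]
        exact Set.ncard_lt_ncard (Set.ssubset_univ_iff.2 hB2)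
      refine dist_of_block B hBne ?_ ?_ hB
      · haveI : Nonempty ↥(MulAction.orbit A B) := ⟨⟨B, MulAction.mem_orbit_self B⟩⟩
        exact ih _ (by rwa [Nat.card_coe_set_eq]) hA rfl
      · intro O hO
        have hcO : Nat.card O = B.ncard := by
          exact ((Nat.card_congr (Equiv.setCongr hO)).trans (Nat.card_coe_set_eq B) :)
        haveI : Nonempty O := (Nat.card_pos_iff.1 (by omega)).1
        exact ih _ (by omega) (hsub A _ hA) rfl
  · have hne : MulAction.orbit A ω ≠ Set.univ := fun e =>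
      htr ⟨fun x y => by
        obtain ⟨g, hg⟩ : x ∈ MulAction.orbit A ω := by rw [e]; trivial
        obtain ⟨g', hg'⟩ : y ∈ MulAction.orbit A ω := by rw [e]; trivial
        exact ⟨g' * g⁻¹, by rw [← hg, ← hg']; simp [mul_smul]⟩⟩
    have hlt : (MulAction.orbit A ω).ncard < Nat.card Ω := by
      rw [← Set.ncard_univ]
      exact Set.ncard_lt_ncard (Set.ssubset_univ_iff.2 hne)
    have hpos : 0 < (MulAction.orbit A ω).ncard :=
      Set.ncard_pos (Set.toFinite _) |>.2 ⟨ω, MulAction.mem_orbit_self ω⟩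
    haveI : Nonempty ↥(MulAction.orbit A ω) := ⟨⟨ω, MulAction.mem_orbit_self ω⟩⟩
    refine dist_of_not_transitive ω ?_ (fun K O hO hOne => ?_) (Set.nonempty_compl.2 hne)
    · exact ih _ (by rwa [Nat.card_coe_set_eq]) hA rfl
    · have hcO : Nat.card O = Nat.card Ω - (MulAction.orbit A ω).ncard := by
        rw [← Set.ncard_compl, ← Nat.card_coe_set_eq]
        exact Nat.card_congr (Equiv.setCongr hO)
      exact ih _ (by omega) (hsub A K hA) rfl

end CfsgLib.CoprimeBase
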