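import Mathlib.Data.ZMod.Basic
import Mathlib.Algebra.Field.ZMod
import Mathlib.Algebra.BigOperators.Group.Finset.Basic
import Mathlib.LinearAlgebra.Pi
import Mathlib.Algebra.Module.ZMod
import Mathlib.Tactic.FinCases
import Mathlib.Tactic.IntervalCases
import Mathlib.Tactic.LinearCombination
import Mathlib.Algebra.CharP.Two

/-!
Colourings of coordinate spaces that no nontrivial linear bijection preserves.
-/

set_option autoImplicit false

namespace CfsgLib.CoprimeBase.Coord

variable {r d : ℕ}

/-- The `i`-th basis vector, zero for `i` out of range. -/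
def E (r d i : ℕ) : Fin d → ZMod r := fun j => if (j : ℕ) = i then 1 else 0

theorem E_apply {i : ℕ} (j : Fin d) : E r d i j = if (j : ℕ) = i then 1 else 0 := rfl

theorem E_self {i : ℕ} (hi : i < d) : E r d i ⟨i, hi⟩ = 1 := by simp [E]

theorem eq_id_of_fix (T : (Fin d → ZMod r) →+ (Fin d → ZMod r))
    (h : ∀ i < d, T (E r d i) = E r d i) (v : Fin d → ZMod r) : T v = v := by
  have h1 : T.toZModLinearMap r = LinearMap.id := by
    refine LinearMap.pi_ext' fun i => LinearMap.ext_ring ?_
    have e : Pi.single i (1 : ZMod r) = E r d i := by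
      funext j
      simp [E, Pi.single_apply, Fin.ext_iff]
    show T (Pi.single i 1) = Pi.single i 1
    rw [e]
    exact h i i.2
  exact congrArg (fun f : (Fin d → ZMod r) →ₗ[ZMod r] (Fin d → ZMod r) => f v) h1

section
variable [Fact (1 < r)]

theorem one_ne : (1 : ZMod r) ≠ 0 := one_ne_zero

theorem E_ne_zero {i : ℕ} (hi : i < d) : E r d i ≠ 0 := fun e =>
  one_ne_zero ((E_self (r := r) hi).symm.trans (congrFun e ⟨i, hi⟩))

theorem E_inj {i j : ℕ} (hi : i < d) (h : E r d i = E r d j) : i = j := by
  by_contra hne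
  have := congrFun h ⟨i, hi⟩
  simp [E, hne] at this

theorem mem_of_sum_eq {i j l m : ℕ} (hi : i < d) (hij : i ≠ j)
    (h : E r d i + E r d j = E r d l + E r d m) : i = l ∨ i = m := by
  by_contra hne
  push Not at hne
  have := congrFun h ⟨i, hi⟩
  simp [E, hij, hne.1, hne.2] at this

theorem sum_eq {i j l : ℕ} (hi : i < d) (hj : j < d) (hij : i ≠ j)
    (h : E r d i + E r d j = E r d l + E r d (l + 1)) : j = i + 1 ∨ j + 1 = i := by
  rcases mem_of_sum_eq hi hij h with a | a <;>
    rcases mem_of_sum_eq (l := l) (m := l + 1) hj hij.symm (by rw [add_comm (E r d j)]; exact h)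
      with b | b <;> omega

theorem sum_ne_single {l j : ℕ} (hl : l + 1 < d) : E r d l + E r d (l + 1) ≠ E r d j := by
  intro h
  by_cases hj : j = l
  · subst hj
    exact E_ne_zero hl (add_eq_left.1 h)
  · have := congrFun h ⟨l, by omega⟩
    simp [E, show l ≠ j from fun e => hj e.symm] at this

theorem sum_ne_zero {l : ℕ} (hl : l + 1 < d) : E r d l + E r d (l + 1) ≠ 0 := by
  intro h
  have := congrFun h ⟨l, by omega⟩
  simp [E] at this

/-- The coordinate sum. -/
def total (v : Fin d → ZMod r) : ZMod r := ∑ j, v j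

theorem total_E {i : ℕ} (hi : i < d) : total (E r d i) = 1 := by
  rw [total, Finset.sum_eq_single ⟨i, hi⟩]
  · exact E_self hi
  · exact fun j _ hj => if_neg fun e => hj (Fin.ext e)
  · simp

theorem total_add (v w : Fin d → ZMod r) : total (v + w) = total v + total w :=
  Finset.sum_add_distrib

/-! ### Five colours -/

open scoped Classical in
/-- The five colouring. -/
noncomputable def five (v : Fin d → ZMod r) : Fin 5 :=
  if v = 0 then 0 else if v = E r d 0 then 1 else if ∃ i < d, i ≠ 0 ∧ v = E r d i then 2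
    else if ∃ i, i + 1 < d ∧ v = E r d i + E r d (i + 1) then 3 else 4

theorem five_zero {v : Fin d → ZMod r} : five v = 0 ↔ v = 0 := by
  unfold five
  split_ifs <;> simp_all

theorem five_two {i : ℕ} (hd : 0 < d) (hi : i < d) (hi0 : i ≠ 0) : five (E r d i) = 2 := by
  unfold five
  rw [if_neg (E_ne_zero hi), if_neg fun e => hi0 (E_inj hi e), if_pos ⟨i, hi, hi0, rfl⟩]

theorem five_not_bij (hd : 0 < d) (h5 : r ^ d = 5) : ¬ Function.Surjective (five (r := r) (d := d)) := by
  intro hs
  obtain ⟨v, hv⟩ := hs 2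
  have hd1 : d = 1 := by
    rcases Nat.lt_or_ge 1 d with h | h
    · exfalso
      exact (Nat.prime_five.eq_one_or_self_of_dvd r (h5 ▸ dvd_pow_self r hd.ne')).elim
        (fun e => absurd (Fact.out : 1 < r) (by omega)) fun e => by
          subst e
          have : 5 ^ 2 ≤ 5 ^ d := Nat.pow_le_pow_right (by norm_num) h
          omega
    · omega
  subst hd1
  unfold five at hv
  split_ifs at hv with a b c e <;> simp_all

theorem five_rigid (T : (Fin d → ZMod r) →+ (Fin d → ZMod r)) (hT : Function.Injective T)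
    (hf : ∀ v, five (T v) = five v) (v : Fin d → ZMod r) : T v = v := by
  refine eq_id_of_fix T ?_ v
  intro i
  induction i using Nat.strong_induction_on with
  | _ i ih =>
  intro hi
  have hd : 0 < d := by omega
  rcases Nat.eq_zero_or_pos i with rfl | hi0
  · have h1 : five (E r d 0) = 1 := by
      unfold five
      rw [if_neg (E_ne_zero hd), if_pos rfl]
    have h2 := hf (E r d 0)
    rw [h1] at h2
    unfold five at h2
    split_ifs at h2 with a b c e <;> simp_all
  obtain ⟨k, rfl⟩ : ∃ k, i = k + 1 := ⟨i - 1, by omega⟩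
  have hk : T (E r d k) = E r d k := ih k (by omega) (by omega)
  have h2 := hf (E r d (k + 1))
  rw [five_two hd hi (by omega)] at h2
  obtain ⟨j, hj, hj0, e⟩ : ∃ j < d, j ≠ 0 ∧ T (E r d (k + 1)) = E r d j := by
    unfold five at h2
    split_ifs at h2 with a b c e <;> simp_all
  have hkj : k ≠ j := fun e' => by
    subst e'
    have := hT (e.trans hk.symm)
    have := E_inj hi this
    omega
  have h3 : five (E r d k + E r d (k + 1)) = 3 := by
    unfold five
    rw [if_neg (sum_ne_zero hi), if_neg (sum_ne_single hi), if_neg, if_pos ⟨k, hi, rfl⟩]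
    rintro ⟨l, hl, -, hl'⟩
    exact sum_ne_single hi hl'
  have h4 := hf (E r d k + E r d (k + 1))
  rw [h3, map_add, hk, e] at h4
  obtain ⟨l, hl, hl'⟩ : ∃ l, l + 1 < d ∧ E r d k + E r d j = E r d l + E r d (l + 1) := by
    unfold five at h4
    split_ifs at h4 with a b c e <;> simp_all
  rcases sum_eq (by omega) hj hkj hl' with rfl | hjk
  · exact e
  · exfalso
    have := hT (e.trans (ih j (by omega) hj).symm)
    have := E_inj hi this
    omega

/-! ### Three colours, characteristic at least five -/

open scoped Classical in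
/-- The colouring for large characteristic. -/
noncomputable def big (v : Fin d → ZMod r) : Fin 3 :=
  if v = 0 then 0 else if v = E r d 0 + E r d 0 ∨ (∃ i < d, v = E r d i) ∨
    ∃ i, i + 1 < d ∧ v = E r d i + E r d (i + 1) then 1 else 2

theorem big_zero {v : Fin d → ZMod r} : big v = 0 ↔ v = 0 := by
  unfold big
  split_ifs <;> simp_all

theorem big_rigid [Fact r.Prime] (h5 : 5 ≤ r) (T : (Fin d → ZMod r) →+ (Fin d → ZMod r))
    (hT : Function.Injective T) (hf : ∀ v, big (T v) = big v) (v : Fin d → ZMod r) : T v = v := by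
  refine eq_id_of_fix T ?_ v
  have hne : ∀ a : ℕ, 0 < a → a < r → (a : ZMod r) ≠ 0 := fun a ha har h =>
    absurd (Nat.le_of_dvd ha ((ZMod.natCast_eq_zero_iff a r).1 h)) (by omega)
  have h12 : (1 : ZMod r) ≠ 2 := fun h => hne 1 one_pos (by omega) (by
    push_cast; linear_combination (-1 : ZMod r) * h)
  have h31 : (3 : ZMod r) ≠ 1 := fun h => hne 2 two_pos (by omega) (by
    push_cast; linear_combination h)
  have h32 : (3 : ZMod r) ≠ 2 := fun h => hne 1 one_pos (by omega) (by
    push_cast; linear_combination h)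
  have h41 : (4 : ZMod r) ≠ 1 := fun h => hne 3 (by omega) (by omega) (by
    push_cast; linear_combination h)
  have h42 : (4 : ZMod r) ≠ 2 := fun h => hne 2 two_pos (by omega) (by
    push_cast; linear_combination h)
  have h20 : (2 : ZMod r) ≠ 0 := fun h => hne 2 two_pos (by omega) (by exact_mod_cast h)
  let S : (Fin d → ZMod r) → Prop := fun v => v = E r d 0 + E r d 0 ∨ (∃ i < d, v = E r d i) ∨
    ∃ i, i + 1 < d ∧ v = E r d i + E r d (i + 1)
  intro i
  induction i using Nat.strong_induction_on with
  | _ i ih =>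
  intro hi
  have hd : 0 < d := by omega
  have hS0 : ∀ v, S v → v ≠ 0 := by
    rintro v (rfl | ⟨l, hl, rfl⟩ | ⟨l, hl, rfl⟩)
    · intro h
      have := congrFun h ⟨0, hd⟩
      simp [E] at this
      exact h20 (by linear_combination this)
    · exact E_ne_zero hl
    · exact sum_ne_zero hl
  have hTS : ∀ v, S v → S (T v) := by
    intro v hv
    have h1 : big v = 1 := by
      unfold big
      rw [if_neg (hS0 v hv), if_pos hv]
    have h2 := hf v
    rw [h1] at h2
    unfold big at h2
    split_ifs at h2 with a b <;> simp_all [S]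
  have htot : ∀ v, S v → total v = 1 ∨ total v = 2 := by
    rintro v (rfl | ⟨l, hl, rfl⟩ | ⟨l, hl, rfl⟩)
    · right; rw [total_add, total_E hd]; norm_num
    · left; exact total_E hl
    · right; rw [total_add, total_E hl, total_E (by omega)]; norm_num
  rcases Nat.eq_zero_or_pos i with rfl | hi0
  · have hx : S (T (E r d 0)) := hTS _ (Or.inr (Or.inl ⟨0, hd, rfl⟩))
    have h2x : S (T (E r d 0) + T (E r d 0)) := by rw [← map_add]; exact hTS _ (Or.inl rfl)
    rcases hx with e | ⟨l, hl, e⟩ | ⟨l, hl, e⟩
    · exfalso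
      rw [e] at h2x
      rcases htot _ h2x with h | h <;> rw [total_add, total_add, total_E hd] at h
      · exact h41 (by linear_combination h)
      · exact h42 (by linear_combination h)
    · rw [e] at h2x ⊢
      rcases h2x with h | ⟨m, hm, h⟩ | ⟨m, hm, h⟩
      · by_contra hl0
        have hl' : l ≠ 0 := fun c => hl0 (by rw [c])
        have := congrFun h ⟨l, hl⟩
        simp [E, hl'] at this
        exact h20 (by linear_combination this)
      · exfalso
        have := congrArg total h
        rw [total_add, total_E hl, total_E hm] at this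
        simp at this
      · exfalso
        have := congrFun h ⟨l, hl⟩
        simp [E] at this
        split_ifs at this <;> first | omega | exact h12 (by linear_combination -this) |
          exact h20 (by linear_combination this)
    · exfalso
      rw [e] at h2x
      rcases htot _ h2x with h | h <;>
        rw [total_add, total_add, total_E hl, total_E (by omega)] at h
      · exact h41 (by linear_combination h)
      · exact h42 (by linear_combination h)
  obtain ⟨k, rfl⟩ : ∃ k, i = k + 1 := ⟨i - 1, by omega⟩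
  have hk : T (E r d k) = E r d k := ih k (by omega) (by omega)
  have hx : S (T (E r d (k + 1))) := hTS _ (Or.inr (Or.inl ⟨k + 1, hi, rfl⟩))
  have hkx : S (E r d k + T (E r d (k + 1))) := by
    rw [← hk, ← map_add]; exact hTS _ (Or.inr (Or.inr ⟨k, hi, rfl⟩))
  have h1 : total (T (E r d (k + 1))) = 1 := by
    refine (htot _ hx).resolve_right fun h => ?_
    rcases htot _ hkx with h' | h' <;> rw [total_add, total_E (by omega), h] at h'
    · exact h31 (by linear_combination h')
    · exact h32 (by linear_combination h')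
  obtain ⟨j, hj, e⟩ : ∃ j < d, T (E r d (k + 1)) = E r d j := by
    rcases hx with e | e | ⟨l, hl, e⟩
    · rw [e, total_add, total_E hd] at h1; exact absurd h1 fun c => h12 (by linear_combination -c)
    · exact e
    · rw [e, total_add, total_E hl, total_E (by omega)] at h1
      exact absurd h1 fun c => h12 (by linear_combination -c)
  have hkj : k ≠ j := fun e' => by
    subst e'
    have := E_inj hi (hT (e.trans hk.symm))
    omega
  rw [e] at hkx
  rcases hkx with h | ⟨l, hl, h⟩ | ⟨l, hl, h⟩
  · exfalso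
    rcases mem_of_sum_eq (by omega) hkj h with a | a <;>
      rcases mem_of_sum_eq (l := 0) (m := 0) hj hkj.symm
        (by rw [add_comm (E r d j)]; exact h) with b | b <;> omega
  · exfalso
    have := congrArg total h
    rw [total_add, total_E (by omega), total_E hj, total_E hl] at this
    simp at this
  · rcases sum_eq (by omega) hj hkj h with rfl | hjk
    · exact e
    · exfalso
      have := E_inj hi (hT (e.trans (ih j (by omega) hj).symm))
      omega

/-! ### Three colours in characteristic two, large dimension -/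

/-- All ones except in position two. -/
def apex (r d : ℕ) : Fin d → ZMod r := fun j => if (j : ℕ) = 2 then 0 else 1

end

section Two

theorem two_cases (a : ZMod 2) : a = 0 ∨ a = 1 := by revert a; decide

/-- The number of ones. -/
def wt (v : Fin d → ZMod 2) : ℕ := (Finset.univ.filter fun j => v j = 1).card

theorem wt_le_of {v : Fin d → ZMod 2} (s : Finset ℕ)
    (h : ∀ j : Fin d, v j = 1 → (j : ℕ) ∈ s) : wt v ≤ s.card :=
  Finset.card_le_card_of_injOn (fun j => (j : ℕ)) (fun j hj => h j (Finset.mem_filter.1 hj).2)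
    fun _ _ _ _ h => Fin.ext h

theorem apex_one {j : Fin d} (hj : (j : ℕ) ≠ 2) : apex 2 d j = 1 := if_neg hj

/-- The distinguished class. -/
def Special (v : Fin d → ZMod 2) : Prop :=
  (∃ i < d, v = E 2 d i) ∨ (∃ i, i + 1 < d ∧ v = E 2 d i + E 2 d (i + 1)) ∨ v = apex 2 d

open scoped Classical in
/-- The colouring in characteristic two. -/
noncomputable def two (v : Fin d → ZMod 2) : Fin 3 :=
  if v = 0 then 0 else if Special v then 1 else 2

theorem two_zero {v : Fin d → ZMod 2} : two v = 0 ↔ v = 0 := by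
  unfold two
  split_ifs <;> simp_all

theorem add_self' (v : Fin d → ZMod 2) : v + v = 0 := by
  funext j
  exact CharTwo.add_self_eq_zero _

/-- A sum of two basis vectors is special only for consecutive indices. -/
theorem pair_special (hd : 6 ≤ d) {a b : ℕ} (ha : a < d) (hb : b < d) (hab : a ≠ b)
    (h : Special (E 2 d a + E 2 d b)) : b = a + 1 ∨ b + 1 = a := by
  haveI : Fact (1 < 2) := ⟨one_lt_two⟩
  rcases h with ⟨l, hl, e⟩ | ⟨l, hl, e⟩ | e
  · exfalso
    rcases eq_or_ne a l with rfl | hne
    · exact E_ne_zero hb (add_eq_left.1 e)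
    · have := congrFun e ⟨a, ha⟩
      simp [E, hab, hne] at this
  · exact sum_eq ha hb hab e
  · exfalso
    obtain ⟨j, hj, j1, j2, j3⟩ : ∃ j < d, j ≠ 2 ∧ j ≠ a ∧ j ≠ b := by
      by_contra hc
      push Not at hc
      have h0 := hc 0 (by omega)
      have h1 := hc 1 (by omega)
      have h3 := hc 3 (by omega)
      omega
    have := congrFun e ⟨j, hj⟩
    simp [E, apex, j1, j2, j3] at this

theorem two_rigid (hd : 6 ≤ d) (T : (Fin d → ZMod 2) →+ (Fin d → ZMod 2))
    (hT : Function.Injective T) (hf : ∀ v, two (T v) = two v) (v : Fin d → ZMod 2) : T v = v := by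
  haveI : Fact (1 < 2) := ⟨one_lt_two⟩
  refine eq_id_of_fix T ?_ v
  let Ez := E 2 d
  have hS0 : ∀ v : Fin d → ZMod 2, Special v → v ≠ 0 := by
    rintro (v : Fin d → ZMod 2) (⟨l, hl, rfl⟩ | ⟨l, hl, rfl⟩ | rfl)
    · exact E_ne_zero hl
    · exact sum_ne_zero hl
    · intro h
      have := congrFun h ⟨0, by omega⟩
      simp [apex] at this
  have hiff : ∀ v : Fin d → ZMod 2, Special (T v) ↔ Special v := by
    intro v
    have h := hf v
    unfold two at h
    by_cases hv : v = 0
    · subst hv; rw [map_zero]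
    have hTv : T v ≠ 0 := fun e => hv (hT (e.trans (map_zero T).symm))
    rw [if_neg hv, if_neg hTv] at h
    split_ifs at h with a b <;> simp_all
  -- coordinates of members
  have hsupp : ∀ v : Fin d → ZMod 2, Special v → v ≠ apex 2 d →
      ∃ a b, ∀ j : Fin d, v j = 1 → (j : ℕ) = a ∨ (j : ℕ) = b := by
    rintro v (⟨l, hl, rfl⟩ | ⟨l, hl, rfl⟩ | rfl) hne
    · exact ⟨l, l, fun j hj => Or.inl (by by_contra c; simp [E, c] at hj)⟩
    · exact ⟨l, l + 1, fun j hj => by
        by_contra c
        push Not at c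
        simp [E, c.1, c.2] at hj⟩
    · exact absurd rfl hne
  have hnot : ∀ v : Fin d → ZMod 2, Special v → v + apex 2 d ≠ 0 → ¬ Special (v + apex 2 d) := by
    intro v hv h0 hs
    by_cases hva : v = apex 2 d
    · exact h0 (by rw [hva, add_self'])
    obtain ⟨a, b, hab⟩ := hsupp v hv hva
    by_cases hwa : v + apex 2 d = apex 2 d
    · exact hS0 v hv (add_eq_right.1 hwa)
    obtain ⟨a', b', hab'⟩ := hsupp _ hs hwa
    obtain ⟨j, hj, hj'⟩ : ∃ j < d, j ∉ ({a, b, a', b', 2} : Finset ℕ) := by
      by_contra hc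
      push Not at hc
      have := Finset.card_le_card (fun j hj => hc j (Finset.mem_range.1 hj) :
        Finset.range d ⊆ ({a, b, a', b', 2} : Finset ℕ))
      rw [Finset.card_range] at this
      have : ({a, b, a', b', 2} : Finset ℕ).card ≤ 5 := Finset.card_le_five
      omega
    simp only [Finset.mem_insert, Finset.mem_singleton, not_or] at hj'
    have h1 : v ⟨j, hj⟩ = 0 :=
      (two_cases _).resolve_right fun h => (hab _ h).elim hj'.1 hj'.2.1
    refine (hab' ⟨j, hj⟩ ?_).elim hj'.2.2.1 hj'.2.2.2.1
    show v ⟨j, hj⟩ + apex 2 d ⟨j, hj⟩ = 1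
    rw [h1, zero_add, apex_one (show ((⟨j, hj⟩ : Fin d) : ℕ) ≠ 2 from hj'.2.2.2.2)]
  -- triangles
  have hadd : ∀ u w : Fin d → ZMod 2, Special u → Special w → Special (u + w) →
      ∃ i, i + 1 < d ∧ (u = Ez i ∨ u = Ez (i + 1) ∨ u = Ez i + Ez (i + 1)) ∧
        (w = Ez i ∨ w = Ez (i + 1) ∨ w = Ez i + Ez (i + 1)) := by
    intro u w hu hw huw
    have hune : u ≠ apex 2 d := by
      rintro rfl
      exact hnot w hw (by rw [add_comm]; exact hS0 _ huw) (by rwa [add_comm])
    have hwne : w ≠ apex 2 d := by
      rintro rfl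
      exact hnot u hu (hS0 _ huw) huw
    have hsne : u + w ≠ apex 2 d := by
      intro e
      refine hnot u hu ?_ ?_ <;> rw [← e, ← add_assoc, add_self', zero_add]
      · exact hS0 w hw
      · exact hw
    rcases hu with ⟨a, ha, rfl⟩ | ⟨a, ha, rfl⟩ | rfl
    · rcases hw with ⟨b, hb, rfl⟩ | ⟨b, hb, rfl⟩ | rfl
      · rcases pair_special hd ha hb (fun e => hS0 _ huw (by rw [e, add_self'])) huw with rfl | rfl
        · exact ⟨a, hb, Or.inl rfl, Or.inr (Or.inl rfl)⟩
        · exact ⟨b, ha, Or.inr (Or.inl rfl), Or.inl rfl⟩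
      · by_cases hc : a = b ∨ a = b + 1
        · rcases hc with rfl | rfl
          · exact ⟨_, hb, Or.inl rfl, Or.inr (Or.inr rfl)⟩
          · exact ⟨b, hb, Or.inr (Or.inl rfl), Or.inr (Or.inr rfl)⟩
        · exfalso
          push Not at hc
          obtain ⟨p, q, hpq⟩ := hsupp _ huw hsne
          have h1 := hpq ⟨a, ha⟩ (by simp [E, hc.1, hc.2])
          have h2 := hpq ⟨b, by omega⟩ (by simp [E, Ne.symm hc.1])
          have h3 := hpq ⟨b + 1, hb⟩ (by simp [E, Ne.symm hc.2])
          simp only at h1 h2 h3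
          omega
      · exact absurd rfl hwne
    · rcases hw with ⟨b, hb, rfl⟩ | ⟨b, hb, rfl⟩ | rfl
      · by_cases hc : b = a ∨ b = a + 1
        · rcases hc with rfl | rfl
          · exact ⟨_, ha, Or.inr (Or.inr rfl), Or.inl rfl⟩
          · exact ⟨a, ha, Or.inr (Or.inr rfl), Or.inr (Or.inl rfl)⟩
        · exfalso
          push Not at hc
          obtain ⟨p, q, hpq⟩ := hsupp _ huw hsne
          have h1 := hpq ⟨b, hb⟩ (by simp [E, hc.1, hc.2])
          have h2 := hpq ⟨a, by omega⟩ (by simp [E, Ne.symm hc.1])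
          have h3 := hpq ⟨a + 1, ha⟩ (by simp [E, Ne.symm hc.2])
          simp only at h1 h2 h3
          omega
      · exfalso
        have hab : a ≠ b := fun e => hS0 _ huw (by rw [e, add_self'])
        obtain ⟨p, q, hpq⟩ := hsupp _ huw hsne
        have hgap : a + 1 = b ∨ b + 1 = a ∨ (a + 1 ≠ b ∧ b + 1 ≠ a) := by omega
        rcases hgap with e | e | ⟨g1, g2⟩
        · subst e
          rw [add_assoc, ← add_assoc (E 2 d (a + 1)), add_self', zero_add] at huw
          rcases pair_special hd (by omega) hb (by omega) huw with h | h <;> omega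
        · subst e
          rw [add_comm, add_assoc, ← add_assoc (E 2 d (b + 1)), add_self', zero_add] at huw
          rcases pair_special hd (by omega) ha (by omega) huw with h | h <;> omega
        · have h1 := hpq ⟨a, by omega⟩ (by simp [E, hab, Ne.symm g2])
          have h2 := hpq ⟨a + 1, ha⟩ (by simp [E, g1, hab])
          have h3 := hpq ⟨b, by omega⟩ (by simp [E, Ne.symm hab, Ne.symm g1])
          simp only at h1 h2 h3
          omega
      · exact absurd rfl hwne
    · exact absurd rfl hune
  let Nb : (Fin d → ZMod 2) → (Fin d → ZMod 2) → Prop := fun x p =>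
    Special x ∧ Special p ∧ Special (x + p)
  let Mid : (Fin d → ZMod 2) → Prop := fun x =>
    ∃ p q, Nb x p ∧ Nb x q ∧ p ≠ q ∧ ¬ Special (p + q)
  have hnb : ∀ x p, Nb (T x) (T p) ↔ Nb x p := fun x p => by
    simp only [Nb, ← map_add, hiff]
  have hbij : Function.Bijective T := ⟨hT, Finite.surjective_of_injective hT⟩
  have hmid : ∀ x, Mid (T x) ↔ Mid x := by
    intro x
    constructor
    · rintro ⟨p, q, h1, h2, h3, h4⟩
      obtain ⟨p, rfl⟩ := hbij.2 p
      obtain ⟨q, rfl⟩ := hbij.2 q
      exact ⟨p, q, (hnb _ _).1 h1, (hnb _ _).1 h2, fun e => h3 (by rw [e]),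
        fun e => h4 (by rw [← map_add]; exact (hiff _).2 e)⟩
    · rintro ⟨p, q, h1, h2, h3, h4⟩
      exact ⟨T p, T q, (hnb _ _).2 h1, (hnb _ _).2 h2, fun e => h3 (hT e),
        fun e => h4 ((hiff _).1 (by rw [map_add]; exact e))⟩
  have hSe : ∀ i < d, Special (Ez i) := fun i hi => Or.inl ⟨i, hi, rfl⟩
  have hSs : ∀ i, i + 1 < d → Special (Ez i + Ez (i + 1)) := fun i hi => Or.inr (Or.inl ⟨i, hi, rfl⟩)
  have hNe : ∀ i, i + 1 < d → Nb (Ez i) (Ez (i + 1)) ∧ Nb (Ez (i + 1)) (Ez i) := fun i hi =>
    ⟨⟨hSe i (by omega), hSe _ hi, hSs i hi⟩,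
      ⟨hSe _ hi, hSe i (by omega), by rw [add_comm]; exact hSs i hi⟩⟩
  have hmidE : ∀ i, 1 ≤ i → i + 1 < d → Mid (Ez i) := by
    intro i h1 h2
    obtain ⟨k, rfl⟩ : ∃ k, i = k + 1 := ⟨i - 1, by omega⟩
    refine ⟨Ez k, Ez (k + 1 + 1), (hNe k (by omega)).2, (hNe _ h2).1, fun e => ?_, fun e => ?_⟩
    · have := E_inj (by omega) e
      omega
    · rcases pair_special hd (by omega) h2 (by omega) e with h | h <;> omega
  have hmid' : ∀ x, Mid x → ∃ i, 1 ≤ i ∧ i + 1 < d ∧ x = Ez i := by
    rintro x ⟨p, q, ⟨hx, hp, hxp⟩, ⟨-, hq, hxq⟩, hpq, hns⟩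
    obtain ⟨i, hi, xi, pi⟩ := hadd x p hx hp hxp
    obtain ⟨j, hj, xj, qj⟩ := hadd x q hx hq hxq
    have hxp' : x ≠ p := fun e => hS0 _ hxp (by rw [e, add_self'])
    have hxq' : x ≠ q := fun e => hS0 _ hxq (by rw [e, add_self'])
    by_cases hij : i = j
    · subst hij
      refine absurd ?_ hns
      have e1 : Ez i + (Ez i + Ez (i + 1)) = Ez (i + 1) := by
        rw [← add_assoc, add_self', zero_add]
      have e2 : Ez (i + 1) + (Ez i + Ez (i + 1)) = Ez i := by
        rw [add_comm (Ez i), ← add_assoc, add_self', zero_add]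
      rcases xi with rfl | rfl | rfl <;> rcases pi with rfl | rfl | rfl <;>
        rcases qj with rfl | rfl | rfl <;>
        first
          | exact absurd rfl hxp'
          | exact absurd rfl hxq'
          | exact absurd rfl hpq
          | (first | rw [e1] | rw [e2] | rw [add_comm, e1] | rw [add_comm, e2] | skip
             first | exact hSe _ hi | exact hSe _ (by omega) | exact hSs _ hi |
               (rw [add_comm]; exact hSs _ hi))
    · have key : ∀ l, l + 1 < d → ∀ m, x = Ez m →
          (x = Ez l ∨ x = Ez (l + 1) ∨ x = Ez l + Ez (l + 1)) → m = l ∨ m = l + 1 := by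
        intro l hl m hm h
        rcases h with h | h | h
        · exact Or.inl (E_inj (by omega) (h.symm.trans hm)).symm
        · exact Or.inr (E_inj hl (h.symm.trans hm)).symm
        · exact absurd (h.symm.trans hm) (sum_ne_single hl)
      obtain ⟨m, hm⟩ : ∃ m, x = Ez m := by
        rcases xi with h | h | h
        · exact ⟨_, h⟩
        · exact ⟨_, h⟩
        rcases xj with h' | h' | h'
        · exact ⟨_, h'⟩
        · exact ⟨_, h'⟩
        exfalso
        have e' : E 2 d i + E 2 d (i + 1) = E 2 d j + E 2 d (j + 1) := h.symm.trans h'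
        rcases mem_of_sum_eq (i := i) (j := i + 1) (by omega) (by omega) e' with a | a <;>
          rcases mem_of_sum_eq (l := j) (m := j + 1) (j := i) hi (by omega)
            (by rw [add_comm (E 2 d (i + 1))]; exact e') with b | b <;> omega
      have := key i hi m hm xi
      have := key j hj m hm xj
      exact ⟨m, by omega, by omega, hm⟩
  have hadj : ∀ a b, a < d → b < d → Special (Ez a + Ez b) → b = a + 1 ∨ b + 1 = a :=
    fun a b ha hb h => pair_special hd ha hb (fun e => hS0 _ h (by rw [e, add_self'])) h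
  have hσ : ∀ m, 1 ≤ m → m + 1 < d → ∃ i, 1 ≤ i ∧ i + 1 < d ∧ T (Ez m) = Ez i :=
    fun m h1 h2 => hmid' _ ((hmid _).2 (hmidE m h1 h2))
  obtain ⟨j, hj1, hj2, hje⟩ := hσ 1 le_rfl (by omega)
  have hj : j = 1 ∨ j + 2 = d := by
    by_contra hc
    push Not at hc
    obtain ⟨p, hp⟩ := hbij.2 (Ez (j - 1))
    obtain ⟨q, hq⟩ := hbij.2 (Ez (j + 1))
    have hp' : p = Ez 2 := by
      obtain ⟨a, a1, a2, rfl⟩ := hmid' p ((hmid p).1 (by rw [hp]; exact hmidE _ (by omega) (by omega)))
      have h := (hiff (Ez 1 + Ez a)).1 (by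
        rw [map_add, hje, hp]
        have := hSs (j - 1) (by omega)
        rw [show j - 1 + 1 = j by omega] at this
        rwa [add_comm])
      rcases hadj 1 a (by omega) (by omega) h with rfl | h'
      · rfl
      · omega
    have hq' : q = Ez 2 := by
      obtain ⟨a, a1, a2, rfl⟩ := hmid' q ((hmid q).1 (by rw [hq]; exact hmidE _ (by omega) (by omega)))
      have h := (hiff (Ez 1 + Ez a)).1 (by rw [map_add, hje, hq]; exact hSs j (by omega))
      rcases hadj 1 a (by omega) (by omega) h with rfl | h'
      · rfl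
      · omega
    rw [hp'] at hp
    rw [hq'] at hq
    have := E_inj (show j - 1 < d by omega) (hp.symm.trans hq)
    omega
  have hpath : ∀ m, 1 ≤ m → m + 1 < d → ∃ i, T (Ez m) = Ez i ∧ i < d ∧
      ((j = 1 → i = m) ∧ (j + 2 = d → i + m + 1 = d)) := by
    intro m
    induction m using Nat.strong_induction_on with
    | _ m ih =>
    intro h1 h2
    rcases Nat.lt_or_ge m 2 with hlt | hge
    · obtain rfl : m = 1 := by omega
      exact ⟨j, hje, by omega, fun h => h, fun h => by omega⟩
    obtain ⟨k, rfl⟩ : ∃ k, m = k + 1 := ⟨m - 1, by omega⟩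
    obtain ⟨a, ha, had, ha'⟩ := ih k (by omega) (by omega) (by omega)
    obtain ⟨i, hi1, hi2, hie⟩ := hσ (k + 1) h1 h2
    have h := hadj a i had (by omega) (by
      rw [← ha, ← hie, ← map_add, hiff]; exact hSs k (by omega))
    refine ⟨i, hie, by omega, ?_⟩
    rcases Nat.lt_or_ge k 2 with hk | hk
    · obtain rfl : k = 1 := by omega
      constructor <;> intro hh
      · have := ha'.1 hh; omega
      · have := ha'.2 hh; omega
    obtain ⟨b, hb, hbd, hb'⟩ := ih (k - 1) (by omega) (by omega) (by omega)
    have hne : i ≠ b := fun e => by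
      rw [e, ← hb] at hie
      have := E_inj (show k + 1 < d by omega) (hT hie)
      omega
    constructor <;> intro hh
    · have := ha'.1 hh; have := hb'.1 hh; omega
    · have := ha'.2 hh; have := hb'.2 hh; omega
  -- the ends
  have hend : ∀ e m n e' m' n', (e + 1 = m ∧ m + 1 = n ∧ n + 1 < d ∨ n + 1 = m ∧ m + 1 = e ∧ e < d ∧ 1 ≤ n) →
      (e' + 1 = m' ∧ m' + 1 = n' ∧ n' < d ∨ n' + 1 = m' ∧ m' + 1 = e' ∧ e' < d) →
      T (Ez m) = Ez m' → T (Ez n) = Ez n' → T (Ez e) = Ez e' ∨ T (Ez e) = Ez e' + Ez m' := by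
    intro e m n e' m' n' hc hc' hm hn
    have he : e < d := by omega
    have hx : Special (T (Ez e)) := (hiff _).2 (hSe e he)
    have hxm : Special (T (Ez e) + Ez m') := by
      rw [← hm, ← map_add, hiff]
      rcases hc with ⟨a, a', b⟩ | ⟨-, a, b, -⟩ <;> subst a
      · exact hSs e (by omega)
      · rw [add_comm]; exact hSs m b
    have hxn : ¬ Special (T (Ez e) + Ez n') := by
      rw [← hn, ← map_add, hiff]
      intro h
      rcases hadj e n he (by omega) h with h | h <;> omega
    have hne : T (Ez e) ≠ Ez n' := fun h => by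
      rw [← hn] at h
      have := E_inj he (hT h)
      omega
    obtain ⟨i, hi, hxi, hmi⟩ := hadd _ _ hx (hSe m' (by omega)) hxm
    have hmi' : m' = i ∨ m' = i + 1 := by
      rcases hmi with h | h | h
      · exact Or.inl (E_inj (by omega) h)
      · exact Or.inr (E_inj (by omega) h)
      · exact absurd h.symm (sum_ne_single hi)
    have hxm' : T (Ez e) ≠ Ez m' := fun h => by
      rw [h, add_self'] at hxm
      exact hS0 _ hxm rfl
    rcases hmi' with c | c <;> subst m'
    · rcases hxi with h | h | h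
      · exact absurd h hxm'
      · rcases (show i + 1 = e' ∨ i + 1 = n' by omega) with c | c <;> rw [c] at h
        · exact Or.inl h
        · exact absurd h hne
      · rcases (show i + 1 = e' ∨ i + 1 = n' by omega) with c | c <;> rw [c] at h
        · exact Or.inr (h.trans (add_comm _ _))
        · exfalso
          refine hxn ?_
          rw [h, add_assoc, add_self', add_zero]
          exact hSe i (by omega)
    · rcases hxi with h | h | h
      · rcases (show i = e' ∨ i = n' by omega) with c | c <;> rw [c] at h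
        · exact Or.inl h
        · exact absurd h hne
      · exact absurd h hxm'
      · rcases (show i = e' ∨ i = n' by omega) with c | c <;> subst c
        · exact Or.inr h
        · exfalso
          refine hxn ?_
          rw [h, add_comm (Ez i), add_assoc, add_self', add_zero]
          exact hSe _ hi
  -- the apex
  have hap : T (apex 2 d) = apex 2 d := by
    have hs : Special (apex 2 d) := Or.inr (Or.inr rfl)
    have hlone : ∀ p, ¬ Nb (apex 2 d) p := fun p hp => by
      have h := hp.2.2
      rw [add_comm] at h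
      exact hnot p hp.2.1 (hS0 _ h) h
    by_contra hne
    obtain ⟨p, hp⟩ : ∃ p, Nb (T (apex 2 d)) p := by
      rcases (hiff _).2 hs with ⟨l, hl, e⟩ | ⟨l, hl, e⟩ | e
      · rw [e]
        rcases Nat.eq_zero_or_pos l with rfl | hl'
        · exact ⟨_, (hNe 0 (by omega)).1⟩
        · obtain ⟨k, rfl⟩ : ∃ k, l = k + 1 := ⟨l - 1, by omega⟩
          exact ⟨_, (hNe k hl).2⟩
      · refine ⟨Ez l, ?_⟩
        rw [e]
        refine ⟨hSs l hl, hSe l (by omega), ?_⟩
        rw [add_comm (E 2 d l), add_assoc, add_self', add_zero]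
        exact hSe _ hl
      · exact absurd e hne
    obtain ⟨p, rfl⟩ := hbij.2 p
    exact hlone p ((hnb _ _).1 hp)
  have hlinsum : ∀ j, T (apex 2 d) j = ∑ i : Fin d, apex 2 d i * T (Ez i) j := by
    intro j
    have hv : apex 2 d = ∑ i : Fin d, apex 2 d i • Ez i := by
      funext k
      rw [Finset.sum_apply, Finset.sum_eq_single k]
      · simp [Ez, E]
      · intro b _ hb
        have hkb : (k : ℕ) ≠ (b : ℕ) := fun e => hb (Fin.ext e).symm
        simp [Ez, E, hkb]
      · simp
    conv_lhs => rw [hv]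
    show (T.toZModLinearMap 2) _ j = _
    rw [map_sum, Finset.sum_apply]
    exact Finset.sum_congr rfl fun i _ => by rw [map_smul]; rfl
  obtain ⟨a2, ha2, -, ha2'⟩ := hpath 2 (by omega) (by omega)
  obtain ⟨al, hal, -, hal'⟩ := hpath (d - 2) (by omega) (by omega)
  obtain ⟨bl, hbl, -, hbl'⟩ := hpath (d - 3) (by omega) (by omega)
  rcases hj with hj | hj
  · -- the identity
    obtain rfl := ha2'.1 hj
    obtain rfl := hal'.1 hj
    obtain rfl := hbl'.1 hj
    subst hj
    have h0 : T (Ez 0) = Ez 0 := by
      rcases hend 0 1 2 0 1 2 (Or.inl ⟨rfl, rfl, by omega⟩) (Or.inl ⟨rfl, rfl, by omega⟩) hje ha2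
        with h | h
      · exact h
      exfalso
      have hl := hend (d - 1) (d - 2) (d - 3) (d - 1) (d - 2) (d - 3)
        (Or.inr ⟨by omega, by omega, by omega, by omega⟩) (Or.inr ⟨by omega, by omega, by omega⟩)
        hal hbl
      have h1 := hlinsum ⟨1, by omega⟩
      rw [hap, Finset.sum_eq_add ⟨0, by omega⟩ ⟨1, by omega⟩ (by simp [Fin.ext_iff])] at h1
      · simp [apex, Ez, E, h, hje] at h1
      · intro c _ hc
        by_cases hc2 : (c : ℕ) + 1 = d
        · rw [show (c : ℕ) = d - 1 by omega]
          rcases hl with e | e <;> simp [e, Ez, E, show 1 ≠ d - 1 by omega, show 1 ≠ d - 2 by omega]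
        · have hc0 : (c : ℕ) ≠ 0 := fun e => hc.1 (Fin.ext e)
          have hc1 : (c : ℕ) ≠ 1 := fun e => hc.2 (Fin.ext e)
          obtain ⟨i, hi, -, hi'⟩ := hpath c (by omega) (by omega)
          obtain rfl := hi'.1 rfl
          simp [hi, Ez, E, Ne.symm hc1]
      · simp
      · simp
    intro i hi
    rcases Nat.eq_zero_or_pos i with rfl | hi0
    · exact h0
    by_cases hil : i + 1 = d
    · subst hil
      rcases hend i (i - 1) (i - 2) i (i - 1) (i - 2) (Or.inr ⟨by omega, by omega, by omega, by omega⟩)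
        (Or.inr ⟨by omega, by omega, by omega⟩)
        (by rw [show i - 1 = i + 1 - 2 by omega]; exact hal)
        (by rw [show i - 2 = i + 1 - 3 by omega]; exact hbl) with h | h
      · exact h
      exfalso
      have h1 := hlinsum ⟨i - 1, by omega⟩
      rw [hap, Finset.sum_eq_add ⟨i, by omega⟩ ⟨i - 1, by omega⟩
        (by simp [Fin.ext_iff]; omega)] at h1
      · have hm : T (Ez (i - 1)) = Ez (i - 1) := by
          rw [show i - 1 = i + 1 - 2 by omega]; exact hal
        simp [apex, Ez, E, h, hm, show i ≠ 2 by omega, show i - 1 ≠ 2 by omega,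
          show i - 1 ≠ i by omega] at h1
      · intro c _ hc
        have hc0 : (c : ℕ) ≠ i := fun e => hc.1 (Fin.ext e)
        have hc1 : (c : ℕ) ≠ i - 1 := fun e => hc.2 (Fin.ext e)
        rcases Nat.eq_zero_or_pos (c : ℕ) with hz | hz
        · rw [hz, h0]
          simp [Ez, E, show i - 1 ≠ 0 by omega]
        · obtain ⟨l, hl, -, hl'⟩ := hpath c hz (by omega)
          obtain rfl := hl'.1 rfl
          simp [hl, Ez, E, Ne.symm hc1]
      · simp
      · simp
    · obtain ⟨l, hl, -, hl'⟩ := hpath i hi0 (by omega)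
      obtain rfl := hl'.1 rfl
      exact hl
  · -- the reversal
    exfalso
    have hh := ha2'.2 hj
    have hl2 := hal'.2 hj
    have hl3 := hbl'.2 hj
    have e0 := hend 0 1 2 (d - 1) (d - 2) (d - 3) (Or.inl ⟨rfl, rfl, by omega⟩)
      (Or.inr ⟨by omega, by omega, by omega⟩) (by rw [hje]; congr 1; omega)
      (by rw [ha2]; congr 1; omega)
    have el := hend (d - 1) (d - 2) (d - 3) 0 1 2
      (Or.inr ⟨by omega, by omega, by omega, by omega⟩) (Or.inl ⟨rfl, rfl, by omega⟩)
      (by rw [hal]; congr 1; omega) (by rw [hbl]; congr 1; omega)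
    have h1 := hlinsum ⟨d - 3, by omega⟩
    rw [hap, Finset.sum_eq_zero] at h1
    · simp [apex, show d - 3 ≠ 2 by omega] at h1
    intro c _
    rcases Nat.eq_zero_or_pos (c : ℕ) with hz | hz
    · rw [hz]
      rcases e0 with e | e <;>
        simp [e, Ez, E, show d - 3 ≠ d - 1 by omega, show d - 3 ≠ d - 2 by omega]
    by_cases hc2 : (c : ℕ) + 1 = d
    · rw [show (c : ℕ) = d - 1 by omega]
      rcases el with e | e <;> simp [e, Ez, E, show d - 3 ≠ 0 by omega, show d - 3 ≠ 1 by omega]
    obtain ⟨l, hl, -, hl'⟩ := hpath c hz (by omega)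
    have hl'' := hl'.2 hj
    by_cases hc : (c : ℕ) = 2
    · simp [apex, hc]
    · simp [hl, Ez, E, show d - 3 ≠ l by omega]

end Two

end CfsgLib.CoprimeBase.Coord
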