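import Cfsg.Agent.Lib.CoprimeBase.Defs
import Mathlib.RingTheory.RootsOfUnity.PrimitiveRoots
import Mathlib.Algebra.CharP.Lemmas
import Mathlib.Algebra.CharP.Reduced
import Mathlib.Algebra.Module.Submodule.Basic
import Mathlib.Algebra.Field.GeomSum
import Mathlib.Tactic.Group
import Mathlib.Data.Nat.Squarefree

/-!
A class two normal subgroup over the scalars: decomposition along an element of prime order.
-/

set_option autoImplicit false
set_option linter.unusedSectionVars false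

namespace CfsgLib.CoprimeBase

open CfsgLib.OddBase (Good Base)

universe u

/-- A group acting semilinearly with a class two normal subgroup over the scalars. -/
structure Pre (Γ L W : Type u) [Group Γ] [Field L] [AddCommGroup W] [Module L W]
    [DistribMulAction Γ W] (B : Subgroup Γ) : Prop where
  solvable : Group.IsSolvable Γ
  nontrivial : Nontrivial W
  normal : ∀ g : Γ, ∀ b ∈ B, g * b * g⁻¹ ∈ B
  semi : ∀ (g : Γ) (c : L), ∃ d : L, ∀ w : W, g • c • w = d • g • w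
  lin : ∀ b ∈ B, ∀ (c : L) (w : W), b • c • w = c • b • w
  scal : ∀ c : L, c ≠ 0 → ∃ z ∈ B, ∀ w : W, z • w = c • w
  comm : ∀ a ∈ B, ∀ b ∈ B, ∃ c : L, ∀ w : W, a • b • w = c • b • a • w
  centre : ∀ a ∈ B, (∀ b ∈ B, ∀ w : W, a • b • w = b • a • w) → ∃ c : L, ∀ w : W, a • w = c • w
  sqfree : ∃ m : ℕ, Squarefree m ∧ ∀ b ∈ B, ∃ c : L, ∀ w : W, (b ^ m) • w = c • w
  roots : ∀ r : ℕ, r.Prime → (r ≠ 2 ∨ 4 ∣ Nat.card L - 1) → ∀ b ∈ B, ∀ c : L,
    (∀ w : W, (b ^ r) • w = c • w) → ∃ d : L, c = d ^ r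

/-- The coprime situation in odd characteristic. -/
structure Setting (Γ L W : Type u) [Group Γ] [Field L] [AddCommGroup W] [Module L W]
    [DistribMulAction Γ W] (B : Subgroup Γ) : Prop extends Pre Γ L W B where
  coprime : (Nat.card Γ).Coprime (Nat.card W)
  two : (2 : L) ≠ 0

/-- Only elements acting trivially fix `v`. -/
def Free {Γ W : Type*} [Group Γ] [AddCommGroup W] [DistribMulAction Γ W] (B : Subgroup Γ) (v : W) :
    Prop :=
  ∀ b ∈ B, b • v = v → ∀ w : W, b • w = w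

/-- A base whose first vector is free. -/
def Pair {Γ W : Type*} [Group Γ] [AddCommGroup W] [DistribMulAction Γ W] (B : Subgroup Γ) : Prop :=
  ∃ v w : W, Good Γ W (v, w) ∧ v ≠ 0 ∧ Free B v

section

variable {Γ L W : Type u} [Group Γ] [Field L] [AddCommGroup W] [Module L W] [DistribMulAction Γ W]
  {B : Subgroup Γ}

/-- The elements acting as scalars. -/
def scalars (Γ L W : Type u) [Group Γ] [Field L] [AddCommGroup W] [Module L W]
    [DistribMulAction Γ W] [Nontrivial W] : Subgroup Γ where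
  carrier := {g | ∃ c : L, ∀ w : W, g • w = c • w}
  one_mem' := ⟨1, fun w => by rw [one_smul, one_smul]⟩
  mul_mem' := by
    rintro a b ⟨c, hc⟩ ⟨d, hd⟩
    exact ⟨c * d, fun w => by rw [mul_smul, hd, hc, mul_smul]⟩
  inv_mem' := by
    rintro a ⟨c, hc⟩
    refine ⟨c⁻¹, fun w => ?_⟩
    have hc0 : c ≠ 0 := by
      rintro rfl
      obtain ⟨v, hv⟩ := exists_ne (0 : W)
      exact hv ((smul_eq_zero_iff_eq a).1 (by rw [hc, zero_smul]))
    conv_rhs => rw [← smul_inv_smul a w, hc, ← mul_smul, inv_mul_cancel₀ hc0, one_smul]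

theorem scalar_unique [Nontrivial W] {c d : L} (h : ∀ w : W, c • w = d • w) : c = d := by
  obtain ⟨v, hv⟩ := exists_ne (0 : W)
  have h1 : (c - d) • v = 0 := by rw [sub_smul, h, sub_self]
  exact sub_eq_zero.1 ((smul_eq_zero.1 h1).resolve_right hv)

namespace Pre

theorem sqfree_pow (hs : Pre Γ L W B) {x : Γ} (hx : x ∈ B) {r : ℕ} (hr : r.Prime)
    (h : ∃ c : L, ∀ w : W, (x ^ (r * r)) • w = c • w) : ∃ c : L, ∀ w : W, (x ^ r) • w = c • w := by
  haveI := hs.nontrivial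
  obtain ⟨m, hm, hmem⟩ := hs.sqfree
  let S := scalars Γ L W
  have h1 : x ^ (r * r) ∈ S := h
  have h2 : x ^ m ∈ S := hmem x hx
  have hg : Nat.gcd (r * r) m ∣ r := by
    rcases Nat.coprime_or_dvd_of_prime hr m with hc | hd
    · rw [Nat.Coprime.gcd_eq_one (Nat.Coprime.mul_left hc hc)]
      exact one_dvd r
    · obtain ⟨m', rfl⟩ := hd
      have hc : Nat.Coprime r m' := Nat.coprime_of_squarefree_mul hm
      rw [Nat.gcd_mul_left, Nat.Coprime.gcd_eq_one hc, mul_one]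
  have h3 : x ^ Nat.gcd (r * r) m ∈ S := by
    rw [← zpow_natCast, Nat.gcd_eq_gcd_ab, zpow_add, zpow_mul, zpow_mul, zpow_natCast, zpow_natCast]
    exact mul_mem (zpow_mem h1 _) (zpow_mem h2 _)
  obtain ⟨k, hk⟩ := hg
  have h4 := pow_mem h3 k
  rwa [← pow_mul, ← hk] at h4

theorem exists_elt_or_free [Finite Γ] (hs : Pre Γ L W B) :
    (∃ y ∈ B, ∃ r : ℕ, r.Prime ∧ (∀ w : W, (y ^ r) • w = w) ∧ ¬ ∃ c : L, ∀ w : W, y • w = c • w) ∨
      ∀ v : W, v ≠ 0 → Free B v := by
  haveI := hs.nontrivial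
  by_contra hcon
  rw [not_or] at hcon
  obtain ⟨hno, hnf⟩ := hcon
  refine hnf fun v hv b hb hbv => ?_
  by_contra hbn
  let K : Subgroup Γ :=
    { carrier := {g | ∀ w : W, g • w = w}
      one_mem' := fun w => one_smul _ _
      mul_mem' := fun {a b} ha hb w => by rw [mul_smul, hb, ha]
      inv_mem' := fun {a} ha w => by rw [inv_smul_eq_iff, ha] }
  obtain ⟨j, ⟨hj0, hj⟩, hjmin⟩ :=
    wellFounded_lt.has_min {j : ℕ | 0 < j ∧ b ^ j ∈ K}
      ⟨orderOf b, orderOf_pos b, by rw [pow_orderOf_eq_one]; exact one_mem K⟩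
  have hj1 : j ≠ 1 := by
    rintro rfl
    rw [pow_one] at hj
    exact hbn hj
  obtain ⟨r, hr, k, rfl⟩ := Nat.exists_prime_and_dvd hj1
  have hk0 : 0 < k := Nat.pos_of_mul_pos_left hj0
  have hlt : k < r * k := lt_mul_of_one_lt_left hk0 hr.one_lt
  refine hno ⟨b ^ k, B.pow_mem hb k, r, hr, fun w => ?_, fun ⟨c, hc⟩ => ?_⟩
  · rw [← pow_mul, mul_comm]
    exact hj w
  · have hle : Subgroup.zpowers b ≤ MulAction.stabilizer Γ v := Subgroup.zpowers_le.2 hbv
    have hfix : (b ^ k) • v = v := hle (Subgroup.npow_mem_zpowers b k)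
    have hc1 : c = 1 := by
      rw [hc] at hfix
      have h1 : (c - 1) • v = 0 := by rw [sub_smul, one_smul, hfix, sub_self]
      exact sub_eq_zero.1 ((smul_eq_zero.1 h1).resolve_right hv)
    exact hjmin k ⟨hk0, fun w => by rw [hc, hc1, one_smul]⟩ hlt

end Pre

/-- The data of a splitting element. -/
structure Step (hs : Pre Γ L W B) (y b : Γ) (r : ℕ) (ζ d : L) : Prop where
  mem_y : y ∈ B
  mem_b : b ∈ B
  prime : r.Prime
  root : IsPrimitiveRoot ζ r
  natCast_ne : (r : L) ≠ 0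
  pow_y : ∀ w : W, (y ^ r) • w = w
  not_scalar : ¬ ∃ c : L, ∀ w : W, y • w = c • w
  comm_yb : ∀ w : W, y • b • w = ζ • b • y • w
  pow_b : ∀ w : W, (b ^ r) • w = d • w
  pow_b_one : r ≠ 2 → d = 1

theorem Pre.exists_step (hs : Pre Γ L W B) {y : Γ} (hy : y ∈ B) {r : ℕ} (hr : r.Prime)
    (hyr : ∀ w : W, (y ^ r) • w = w) (hyn : ¬ ∃ c : L, ∀ w : W, y • w = c • w) :
    ∃ b ζ d, Step hs y b r ζ d := by
  classical
  haveI := hs.nontrivial
  obtain ⟨a, ha, hne⟩ : ∃ a ∈ B, ∃ w : W, y • a • w ≠ a • y • w := by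
    by_contra h
    push Not at h
    exact hyn (hs.centre y hy h)
  obtain ⟨c, hc⟩ := hs.comm y hy a ha
  have hc1 : c ≠ 1 := by
    rintro rfl
    obtain ⟨w, hw⟩ := hne
    exact hw (by rw [hc, one_smul])
  have hypow : ∀ (i : ℕ) (w : W), (y ^ i) • a • w = c ^ i • a • (y ^ i) • w := by
    intro i
    induction i with
    | zero => intro w; simp
    | succ i ih =>
      intro w
      rw [pow_succ' y i, mul_smul, ih, hs.lin y hy, hc, ← mul_smul (c ^ i) c, ← pow_succ,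
        ← mul_smul y (y ^ i) w]
  have hcr : c ^ r = 1 := by
    refine (scalar_unique (W := W) fun w => ?_).symm
    have h1 := hypow r (a⁻¹ • w)
    rw [smul_inv_smul, hyr, hyr, smul_inv_smul] at h1
    rw [one_smul]
    exact h1
  have hord : orderOf c = r := orderOf_eq_prime (hp := ⟨hr⟩) hcr hc1
  have hrL : (r : L) ≠ 0 := by
    intro h0
    haveI := Fact.mk hr
    haveI : CharP L r := (CharP.charP_iff_prime_eq_zero hr).2 h0
    exact hc1 (sub_eq_zero.1 ((pow_eq_zero_iff hr.ne_zero).1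
      (by rw [sub_pow_char, one_pow, hcr, sub_self])))
  obtain ⟨m, hm, hmem⟩ := hs.sqfree
  have hapow : ∀ (i : ℕ) (w : W), y • (a ^ i) • w = c ^ i • (a ^ i) • y • w := by
    intro i
    induction i with
    | zero => intro w; simp
    | succ i ih =>
      intro w
      rw [pow_succ' a i, mul_smul, hc, ih, hs.lin a ha, ← mul_smul c (c ^ i), ← pow_succ',
        ← mul_smul a (a ^ i)]
  have hrm : r ∣ m := by
    rw [← hord]
    refine orderOf_dvd_of_pow_eq_one (scalar_unique (W := W) fun w => ?_)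
    obtain ⟨e, he⟩ := hmem a ha
    have h1 := hapow m (y⁻¹ • w)
    rw [smul_inv_smul, he, hs.lin y hy, smul_inv_smul, he] at h1
    have he0 : e ≠ 0 := by
      rintro rfl
      obtain ⟨v, hv⟩ := exists_ne (0 : W)
      exact hv ((smul_eq_zero_iff_eq (a ^ m)).1 (by rw [he, zero_smul]))
    rw [smul_comm] at h1
    rw [one_smul]
    exact ((IsUnit.mk0 e he0).smul_left_cancel).1 h1.symm
  obtain ⟨m', rfl⟩ := hrm
  have hcop : Nat.Coprime r m' := Nat.coprime_of_squarefree_mul hm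
  have hz : IsPrimitiveRoot (c ^ m') r :=
    (IsPrimitiveRoot.pow_of_coprime (hord ▸ IsPrimitiveRoot.orderOf c) m' hcop.symm)
  obtain ⟨e, he⟩ := hmem a ha
  have her : ∀ w : W, ((a ^ m') ^ r) • w = e • w := fun w => by rw [← pow_mul, mul_comm]; exact he w
  by_cases hr2 : r = 2
  · exact ⟨a ^ m', c ^ m', e, hy, B.pow_mem ha _, hr, hz, hrL, hyr, hyn, hapow m', her,
      fun h => absurd hr2 h⟩
  obtain ⟨f, hf⟩ := hs.roots r hr (Or.inl hr2) _ (B.pow_mem ha m') e her
  have he0 : e ≠ 0 := by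
    rintro rfl
    obtain ⟨v, hv⟩ := exists_ne (0 : W)
    exact hv ((smul_eq_zero_iff_eq ((a ^ m') ^ r)).1 (by rw [her, zero_smul]))
  have hf0 : f ≠ 0 := by
    rintro rfl
    exact he0 (by rw [hf, zero_pow hr.ne_zero])
  obtain ⟨z, hz', hzw⟩ := hs.scal f⁻¹ (inv_ne_zero hf0)
  refine ⟨z * a ^ m', c ^ m', 1, hy, B.mul_mem hz' (B.pow_mem ha _), hr, hz, hrL, hyr, hyn,
    fun w => ?_, fun w => ?_, fun _ => rfl⟩
  · rw [mul_smul, hzw, hs.lin y hy, hapow, mul_smul, hzw, smul_comm]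
  · have key : ∀ i : ℕ, ∀ w : W, ((z * a ^ m') ^ i) • w = f⁻¹ ^ i • ((a ^ m') ^ i) • w := by
      intro i
      induction i with
      | zero => intro w; simp
      | succ i ih =>
        intro w
        rw [pow_succ (z * a ^ m'), mul_smul, ih, mul_smul, hzw,
          hs.lin _ (B.pow_mem (B.pow_mem ha m') i), ← mul_smul, ← pow_succ,
          ← mul_smul ((a ^ m') ^ i), ← pow_succ]
    rw [key, her, ← mul_smul, hf, ← mul_pow, inv_mul_cancel₀ hf0, one_pow]

namespace Step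

variable {hs : Pre Γ L W B} {y b : Γ} {r : ℕ} {ζ d : L}

/-- The fixed space. -/
def W0 (S : Step hs y b r ζ d) : Submodule L W where
  carrier := {w | y • w = w}
  zero_mem' := smul_zero y
  add_mem' := fun {p q} (hp : y • p = p) (hq : y • q = q) => show y • (p + q) = p + q by
    rw [smul_add, hp, hq]
  smul_mem' := fun c p (hp : y • p = p) => show y • c • p = c • p by rw [hs.lin y S.mem_y, hp]

variable (S : Step hs y b r ζ d)
include S

theorem pow_comm (i : ℕ) (w : W) : y • (b ^ i) • w = ζ ^ i • (b ^ i) • y • w := by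
  induction i generalizing w with
  | zero => simp
  | succ i ih =>
    rw [pow_succ' b i, mul_smul, S.comm_yb, ih, hs.lin b S.mem_b, ← mul_smul ζ (ζ ^ i), ← pow_succ',
      ← mul_smul b (b ^ i)]

/-- Eigenvectors. -/
def Eig (_S : Step hs y b r ζ d) (ε : L) (w : W) : Prop := y • w = ε • w

theorem eig_iff {w : W} : S.Eig 1 w ↔ w ∈ S.W0 := by
  show y • w = (1 : L) • w ↔ y • w = w
  rw [one_smul]

theorem eig_pow {ε : L} {w : W} (h : S.Eig ε w) (j : ℕ) : (y ^ j) • w = ε ^ j • w := by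
  induction j with
  | zero => simp
  | succ j ih => rw [pow_succ y, mul_smul, h, hs.lin _ (B.pow_mem S.mem_y j), ih, ← mul_smul, pow_succ']

theorem eig_shift (i : ℕ) {u : W} (hu : u ∈ S.W0) : S.Eig (ζ ^ i) ((b ^ i) • u) := by
  show y • (b ^ i) • u = _
  rw [S.pow_comm, show y • u = u from hu]

theorem eig_b {u : W} (hu : u ∈ S.W0) : S.Eig ζ (b • u) := by
  simpa using S.eig_shift 1 hu

theorem eig_smul {ε c : L} {w : W} (h : S.Eig ε w) : S.Eig ε (c • w) := by
  show y • c • w = ε • c • w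
  rw [hs.lin y S.mem_y, h, smul_comm]

/-- The projections. -/
noncomputable def proj (ε : L) : W →+ W :=
  (r : L)⁻¹ • ∑ j ∈ Finset.range r, (ε⁻¹ ^ j) • DistribSMul.toAddMonoidHom W (y ^ j)

omit S in
theorem proj_apply (ε : L) (w : W) :
    proj (y := y) (r := r) ε w = (r : L)⁻¹ • ∑ j ∈ Finset.range r, (ε⁻¹ ^ j) • (y ^ j) • w := by
  simp [proj, AddMonoidHom.finset_sum_apply]

theorem proj_of_eig {ε : L} (hε : ε ^ r = 1) {w : W} (h : S.Eig ε w) :
    proj (y := y) (r := r) ε w = w := by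
  have hε0 : ε ≠ 0 := fun e => by rw [e, zero_pow S.prime.ne_zero] at hε; exact zero_ne_one hε
  rw [proj_apply, Finset.sum_congr rfl (g := fun _ => w) fun j _ => by
    rw [S.eig_pow h, ← mul_smul, ← mul_pow, inv_mul_cancel₀ hε0, one_pow, one_smul]]
  rw [Finset.sum_const, Finset.card_range, ← Nat.cast_smul_eq_nsmul L, smul_smul,
    inv_mul_cancel₀ S.natCast_ne, one_smul]

theorem proj_of_eig_ne {ε δ : L} (hε : ε ^ r = 1) (hδ : δ ^ r = 1) {w : W} (h : S.Eig δ w)
    (hne : δ ≠ ε) : proj (y := y) (r := r) ε w = 0 := by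
  have hε0 : ε ≠ 0 := fun e => by rw [e, zero_pow S.prime.ne_zero] at hε; exact zero_ne_one hε
  rw [proj_apply, Finset.sum_congr rfl (g := fun j => (δ * ε⁻¹) ^ j • w) fun j _ => by
    rw [S.eig_pow h, ← mul_smul, ← mul_pow, mul_comm], ← Finset.sum_smul, ← mul_smul]
  have hx : δ * ε⁻¹ ≠ 1 := fun e => hne (by
    calc δ = δ * ε⁻¹ * ε := by rw [mul_assoc, inv_mul_cancel₀ hε0, mul_one]
      _ = ε := by rw [e, one_mul])
  rw [geom_sum_eq hx, mul_pow, hδ, inv_pow, hε, inv_one, one_mul, sub_self, zero_div, mul_zero,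
    zero_smul]

theorem proj_eig {ε : L} (hε : ε ^ r = 1) (w : W) : S.Eig ε (proj (y := y) (r := r) ε w) := by
  have hε0 : ε ≠ 0 := fun e => by rw [e, zero_pow S.prime.ne_zero] at hε; exact zero_ne_one hε
  show y • _ = ε • _
  rw [proj_apply, hs.lin y S.mem_y, smul_comm ε]
  congr 1
  rw [Finset.smul_sum, Finset.smul_sum]
  simp only [hs.lin y S.mem_y]
  let f : ℕ → W := fun j => (ε * ε⁻¹ ^ j) • (y ^ j) • w
  have e1 : ∀ j, ε⁻¹ ^ j • y • (y ^ j) • w = f (j + 1) := fun j => by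
    show _ = (ε * ε⁻¹ ^ (j + 1)) • (y ^ (j + 1)) • w
    rw [pow_succ' ε⁻¹, ← mul_assoc, mul_inv_cancel₀ hε0, one_mul, pow_succ' y, mul_smul]
  have e2 : ∀ j, ε • ε⁻¹ ^ j • (y ^ j) • w = f j := fun j => by
    show _ = (ε * ε⁻¹ ^ j) • (y ^ j) • w
    rw [mul_smul]
  simp only [e1, e2]
  have h1 := Finset.sum_range_succ f r
  have h2 := Finset.sum_range_succ' f r
  have h3 : f r = f 0 := by
    show (ε * ε⁻¹ ^ r) • (y ^ r) • w = (ε * ε⁻¹ ^ 0) • (y ^ 0) • w
    rw [inv_pow, hε, inv_one, S.pow_y, pow_zero, pow_zero, one_smul]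
  rw [h3, h2] at h1
  exact add_right_cancel h1

theorem sum_proj (w : W) : ∑ i ∈ Finset.range r, proj (y := y) (r := r) (ζ ^ i) w = w := by
  classical
  simp only [proj_apply]
  rw [← Finset.smul_sum, Finset.sum_comm]
  rw [Finset.sum_eq_single 0]
  · simp [S.natCast_ne, ← Nat.cast_smul_eq_nsmul L, smul_smul]
  · intro j hj hj0
    rw [← Finset.sum_smul]
    have hx : (ζ ^ j)⁻¹ ≠ 1 := fun e =>
      S.root.pow_ne_one_of_pos_of_lt hj0 (Finset.mem_range.1 hj) (inv_eq_one.1 e)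
    rw [Finset.sum_congr rfl (g := fun i => ((ζ ^ j)⁻¹) ^ i) fun i _ => by
      rw [inv_pow, inv_pow, ← pow_mul, ← pow_mul, mul_comm],
      geom_sum_eq hx, inv_pow, ← pow_mul, mul_comm, pow_mul, S.root.pow_eq_one, one_pow, inv_one,
      sub_self, zero_div, zero_smul]
  · intro h
    exact absurd (Finset.mem_range.2 S.prime.pos) h

theorem exists_shift {i : ℕ} {w : W} (h : S.Eig (ζ ^ i) w) : ∃ u ∈ S.W0, w = (b ^ i) • u := by
  refine ⟨(b ^ i)⁻¹ • w, ?_, (smul_inv_smul _ _).symm⟩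
  show y • _ = _
  have h1 := S.pow_comm i ((b ^ i)⁻¹ • w)
  rw [smul_inv_smul, show y • w = ζ ^ i • w from h] at h1
  have hz : ζ ^ i ≠ 0 := pow_ne_zero _ (S.root.ne_zero S.prime.ne_zero)
  exact eq_inv_smul_iff.2 (((IsUnit.mk0 _ hz).smul_left_cancel).1 h1).symm

/-- Extensionality along the components. -/
theorem ext_comp {g h : Γ} (he : ∀ i < r, ∀ u ∈ S.W0, g • (b ^ i) • u = h • (b ^ i) • u) (w : W) :
    g • w = h • w := by
  rw [← S.sum_proj w, Finset.smul_sum, Finset.smul_sum]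
  refine Finset.sum_congr rfl fun i hi => ?_
  obtain ⟨u, hu, e⟩ := S.exists_shift (S.proj_eig (ε := ζ ^ i)
    (by rw [← pow_mul, mul_comm, pow_mul, S.root.pow_eq_one, one_pow]) w)
  rw [e]
  exact he i (Finset.mem_range.1 hi) u hu

theorem nontrivial_W0 : Nontrivial S.W0 := by
  haveI := hs.nontrivial
  by_contra hn
  rw [not_nontrivial_iff_subsingleton] at hn
  obtain ⟨v, hv⟩ := exists_ne (0 : W)
  refine hv ?_
  rw [← S.sum_proj v]
  refine Finset.sum_eq_zero fun i _ => ?_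
  obtain ⟨u, hu, e⟩ := S.exists_shift (S.proj_eig (ε := ζ ^ i)
    (by rw [← pow_mul, mul_comm, pow_mul, S.root.pow_eq_one, one_pow]) v)
  rw [e, show u = 0 from congrArg Subtype.val (hn.elim ⟨u, hu⟩ 0), smul_zero]

theorem card_lt [Finite W] : Nat.card S.W0 < Nat.card W := by
  refine lt_of_le_of_ne (Nat.card_le_card_of_injective _ Subtype.val_injective) fun e => ?_
  obtain ⟨u, hu⟩ := @exists_ne S.W0 S.nontrivial_W0 0
  obtain ⟨u', hu'⟩ := ((Nat.bijective_iff_injective_and_card (Subtype.val : S.W0 → W)).2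
    ⟨Subtype.val_injective, e⟩).2 (b • (u : W))
  have h1 : S.Eig 1 (b • (u : W)) := S.eig_iff.2 (hu' ▸ u'.2)
  have h2 := S.eig_b u.2
  have h3 : (ζ - 1) • (b • (u : W)) = 0 := by
    rw [sub_smul, sub_eq_zero]
    exact h2.symm.trans h1
  rcases smul_eq_zero.1 h3 with h | h
  · exact S.root.ne_one S.prime.one_lt (sub_eq_zero.1 h)
  · exact hu (Subtype.ext ((smul_eq_zero_iff_eq b).1 h))

/-- The elements preserving the fixed space. -/
def N : Subgroup Γ where
  carrier := {g | ∀ w : W, g • w ∈ S.W0 ↔ w ∈ S.W0}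
  one_mem' := fun w => by rw [one_smul]
  mul_mem' := fun {g h} hg hh w => by rw [mul_smul, hg, hh]
  inv_mem' := fun {g} hg w => by rw [← hg, smul_inv_smul]

theorem mem_N_of_comm {x : Γ} (h : ∀ w : W, y • x • w = x • y • w) : x ∈ S.N := fun w =>
  ⟨fun (hw : y • x • w = x • w) => show y • w = w from smul_left_cancel x ((h w).symm.trans hw),
    fun (hw : y • w = w) => show y • x • w = x • w by rw [h, hw]⟩

theorem comm_of_fix {x : Γ} (hx : x ∈ B) {v : W} (hv : v ∈ S.W0) (hv0 : v ≠ 0)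
    (hxv : x • v ∈ S.W0) (w : W) : y • x • w = x • y • w := by
  obtain ⟨c, hc⟩ := hs.comm y S.mem_y x hx
  have h1 := hc v
  rw [show y • x • v = x • v from hxv, show y • v = v from hv] at h1
  have h2 : (c - 1) • x • v = 0 := by rw [sub_smul, one_smul, ← h1, sub_self]
  rcases smul_eq_zero.1 h2 with e | e
  · rw [hc, sub_eq_zero.1 e, one_smul]
  · exact absurd ((smul_eq_zero_iff_eq x).1 e) hv0

theorem comm_of_mem_N {x : Γ} (hx : x ∈ B) (hxN : x ∈ S.N) (w : W) : y • x • w = x • y • w := by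
  obtain ⟨u, hu⟩ := @exists_ne S.W0 S.nontrivial_W0 0
  exact S.comm_of_fix hx u.2 (fun e => hu (Subtype.ext e)) ((hxN u).2 u.2) w

/-- How an element of `B` moves across `b`. -/
theorem exists_phase {x : Γ} (hx : x ∈ B) :
    ∃ k : ℕ, ∀ w : W, x • b • w = ζ ^ k • b • x • w := by
  haveI := hs.nontrivial
  haveI : NeZero r := ⟨S.prime.ne_zero⟩
  obtain ⟨c, hc⟩ := hs.comm x hx b S.mem_b
  have hpow : ∀ (i : ℕ) (w : W), x • (b ^ i) • w = c ^ i • (b ^ i) • x • w := by
    intro i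
    induction i with
    | zero => intro w; simp
    | succ i ih =>
      intro w
      rw [pow_succ' b i, mul_smul, hc, ih, hs.lin b S.mem_b, ← mul_smul c, ← pow_succ',
        ← mul_smul b (b ^ i)]
  have hcr : c ^ r = 1 := by
    refine (scalar_unique (W := W) fun w => ?_).symm
    have h1 := hpow r (x⁻¹ • w)
    rw [S.pow_b, hs.lin x hx, smul_inv_smul, S.pow_b] at h1
    have hd0 : d ≠ 0 := by
      rintro rfl
      obtain ⟨v, hv⟩ := exists_ne (0 : W)
      exact hv ((smul_eq_zero_iff_eq (b ^ r)).1 (by rw [S.pow_b, zero_smul]))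
    rw [smul_comm] at h1
    rw [one_smul]
    exact ((IsUnit.mk0 d hd0).smul_left_cancel).1 h1
  obtain ⟨k, -, hk⟩ := S.root.eq_pow_of_pow_eq_one hcr
  exact ⟨k, by rw [hk]; exact hc⟩

theorem phase_pow {x : Γ} {k : ℕ} (h : ∀ w : W, x • b • w = ζ ^ k • b • x • w) (i : ℕ) (w : W) :
    x • (b ^ i) • w = ζ ^ (k * i) • (b ^ i) • x • w := by
  induction i generalizing w with
  | zero => simp
  | succ i ih =>
    rw [pow_succ' b i, mul_smul, h, ih, hs.lin b S.mem_b, ← mul_smul (ζ ^ k), ← pow_add,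
      show k + k * i = k * (i + 1) by ring, ← mul_smul b (b ^ i)]

theorem y_phase (k : ℕ) (w : W) : (y ^ k) • b • w = ζ ^ k • b • (y ^ k) • w := by
  induction k generalizing w with
  | zero => simp
  | succ k ih =>
    rw [pow_succ' y k, mul_smul, ih, hs.lin y S.mem_y, S.comm_yb, ← mul_smul (ζ ^ k), ← pow_succ,
      ← mul_smul y (y ^ k)]

theorem y_pow_fix {u : W} (hu : u ∈ S.W0) (k : ℕ) : (y ^ k) • u = u := by
  simpa using S.eig_pow (S.eig_iff.2 hu) k

theorem y_mem_N : y ∈ S.N := S.mem_N_of_comm fun _ => rfl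

/-- An element of `B` fixing the fixed space pointwise is a power of `y`. -/
theorem eq_pow_of_fix {x : Γ} (hx : x ∈ B) (h : ∀ u ∈ S.W0, x • u = u) :
    ∃ k : ℕ, ∀ w : W, x • w = (y ^ k) • w := by
  obtain ⟨k, hk⟩ := S.exists_phase hx
  refine ⟨k, fun w => S.ext_comp (fun i _ u hu => ?_) w⟩
  rw [S.phase_pow hk, h u hu, S.phase_pow (S.y_phase k), S.y_pow_fix hu]

theorem y_pow_scalar {k : ℕ} (h : ∃ c : L, ∀ w : W, (y ^ k) • w = c • w) : r ∣ k := by
  haveI := hs.nontrivial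
  by_contra hd
  refine S.not_scalar ?_
  show y ∈ scalars Γ L W
  have h2 : y ^ r ∈ scalars Γ L W := ⟨1, fun w => by rw [S.pow_y, one_smul]⟩
  have h3 : y ^ (Nat.gcd k r) ∈ scalars Γ L W := by
    rw [← zpow_natCast, Nat.gcd_eq_gcd_ab, zpow_add, zpow_mul, zpow_mul, zpow_natCast, zpow_natCast]
    exact mul_mem (zpow_mem h _) (zpow_mem h2 _)
  rwa [Nat.coprime_comm.1 (S.prime.coprime_iff_not_dvd.2 hd), pow_one] at h3

end Step

end

end CfsgLib.CoprimeBase
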