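import Cfsg.Agent.Lib.OddBase.Basic
import Mathlib.GroupTheory.Solvable
import Mathlib.Data.Nat.Prime.Basic

/-!
Coprime solvable groups acting on finite abelian groups of squarefree exponent: definitions.
-/

set_option autoImplicit false

namespace CfsgLib.CoprimeBase

open CfsgLib.OddBase

universe u v

/-- No element has order divisible by the square of a prime. -/
def SqFree (V : Type*) [AddCommGroup V] : Prop :=
  ∀ p : ℕ, p.Prime → ∀ v : V, (p * p) • v = 0 → p • v = 0

theorem SqFree.addSubgroup {V : Type*} [AddCommGroup V] (h : SqFree V) (U : AddSubgroup V) :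
    SqFree ↥U :=
  fun p hp x hx => Subtype.ext (h p hp (x : V) (congrArg Subtype.val hx))

theorem SqFree.of_prime {V : Type*} [AddCommGroup V] {q : ℕ} (hq : q.Prime)
    (h : ∀ v : V, q • v = 0) : SqFree V := by
  intro p hp v hv
  by_cases hpq : p = q
  · rw [hpq]; exact h v
  have hcop : Nat.Coprime (p * p) q :=
    Nat.Coprime.mul_left ((Nat.coprime_primes hp hq).2 hpq) ((Nat.coprime_primes hp hq).2 hpq)
  have h1 : addOrderOf v ∣ 1 := by
    rw [← hcop.gcd_eq_one]
    exact Nat.dvd_gcd (addOrderOf_dvd_of_nsmul_eq_zero hv) (addOrderOf_dvd_of_nsmul_eq_zero (h v))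
  rw [Nat.dvd_one, AddMonoid.addOrderOf_eq_one_iff] at h1
  rw [h1, nsmul_zero]

theorem SqFree.prod {V W : Type*} [AddCommGroup V] [AddCommGroup W] (h : SqFree V) (h' : SqFree W) :
    SqFree (V × W) :=
  fun p hp x hx => Prod.ext (h p hp x.1 (congrArg Prod.fst hx)) (h' p hp x.2 (congrArg Prod.snd hx))

theorem SqFree.pi {ι : Type*} {V : ι → Type*} [∀ i, AddCommGroup (V i)] (h : ∀ i, SqFree (V i)) :
    SqFree (∀ i, V i) :=
  fun p hp x hx => funext fun i => h i p hp (x i) (congrFun hx i)

/-- The induction hypothesis: bases exist for all modules of order less than `n`. -/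
def Hyp (n : ℕ) : Prop :=
  ∀ (A V : Type u) [Group A] [Finite A] [AddCommGroup V] [Finite V] [DistribMulAction A V],
    Nat.card V < n → Group.IsSolvable A → (Nat.card A).Coprime (Nat.card V) → SqFree V → Base A V

theorem Hyp.mono {n m : ℕ} (h : Hyp.{u} n) (hmn : m ≤ n) : Hyp.{u} m := by
  intro A V _ _ _ _ _ hV
  exact h A V (lt_of_lt_of_le hV hmn)

end CfsgLib.CoprimeBase
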