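import Cfsg.Agent.Lib.CoprimeBase.Leaves
import Cfsg.Agent.Lib.CoprimeBase.CertFive
import Cfsg.Agent.Lib.CoprimeBase.CertThreePlus
import Cfsg.Agent.Lib.CoprimeBase.CertThreeMinus
import Mathlib.GroupTheory.PGroup

/-!
Settings over three or five elements, and the primitive case in general.
-/

set_option autoImplicit false
set_option linter.unusedSectionVars false

namespace CfsgLib.CoprimeBase

open CfsgLib.OddBase (Good Base)

universe u

variable {Γ L W : Type u} [Group Γ] [Field L] [AddCommGroup W] [Module L W] [DistribMulAction Γ W]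
  {B : Subgroup Γ}

/-- The small settings. -/
inductive Small : ℕ → Model → Prop
  | three0 : Small 3 (Model.scal 3)
  | three1 : Small 3 (Model.scal 3).double
  | three2 : Small 3 (Model.scal 3).double.double
  | three3 : Small 3 Cert.threePlusModel
  | minus1 : Small 3 Model.quat
  | minus2 : Small 3 Model.quat.double
  | minus3 : Small 3 Cert.threeMinusModel
  | five0 : Small 5 (Model.scal 5)
  | five1 : Small 5 (Model.scal 5).double
  | five2 : Small 5 Cert.fiveModel

/-- What holds for every setting over a small field. -/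
def Status {Γ : Type u} [Group Γ] (B : Subgroup Γ) (W : Type u) [AddCommGroup W]
    [DistribMulAction Γ W] (q : ℕ) : Prop :=
  (Pair (W := W) B ∧ Big B W) ∨ ∃ M, Small q M ∧ Nonempty (Rep M B W)

theorem Pre.exists_step_one [Finite Γ] [Finite L] (hs : Pre Γ L W B) {q : ℕ}
    (hq : q = 3 ∨ q = 5) (hL : Nat.card L = q) {y : Γ} (hy : y ∈ B) {r : ℕ} (hr : r.Prime)
    (hyr : ∀ w : W, (y ^ r) • w = w) (hyn : ¬ ∃ c : L, ∀ w : W, y • w = c • w) :
    ∃ b ζ, Step hs y b 2 ζ 1 ∧ ∀ w : W, (b ^ 2) • w = w := by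
  haveI := hs.nontrivial
  obtain ⟨b, ζ, d, S⟩ := hs.exists_step hy hr hyr hyn
  obtain rfl : r = 2 := by
    have h := S.dvd_card_sub_one
    rw [hL] at h
    have h1 := hr.two_le
    have h2 : r ≤ 4 := (Nat.le_of_dvd (by omega) h).trans (by omega)
    interval_cases r
    · rfl
    · omega
    · norm_num at hr
  have hd0 : d ≠ 0 := by
    rintro rfl
    obtain ⟨v, hv⟩ := exists_ne (0 : W)
    exact hv ((smul_eq_zero_iff_eq (b ^ 2)).1 (by rw [S.pow_b, zero_smul]))
  have mk : ∀ b' ∈ B, (∀ w : W, y • b' • w = ζ • b' • y • w) → (∀ w : W, (b' ^ 2) • w = w) →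
      ∃ b ζ, Step hs y b 2 ζ 1 ∧ ∀ w : W, (b ^ 2) • w = w := fun b' hb' h1 h2 =>
    ⟨b', ζ, ⟨S.mem_y, hb', hr, S.root, S.natCast_ne, S.pow_y, S.not_scalar, h1,
      fun w => by rw [h2, one_smul], fun h => absurd rfl h⟩, h2⟩
  rcases hq with rfl | rfl
  · haveI := charP_of_card Nat.prime_three hL
    have h3 : (3 : L) = 0 := by exact_mod_cast (CharP.cast_eq_zero L 3)
    obtain ⟨k, hk, rfl⟩ := exists_cast Nat.prime_three hL d
    interval_cases k
    · exact absurd Nat.cast_zero hd0
    · exact mk b S.mem_b S.comm_yb fun w => by rw [S.pow_b, Nat.cast_one, one_smul]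
    · have hd : ((2 : ℕ) : L) = -1 := by push_cast; linear_combination h3
      refine mk (b * y) (B.mul_mem S.mem_b S.mem_y) (fun w => ?_) fun w => ?_
      · rw [mul_smul, mul_smul, S.comm_yb]
      · have h1 := S.pow_b w
        rw [pow_two, mul_smul, hd, neg_one_smul] at h1
        rw [pow_two, mul_smul, mul_smul, mul_smul, S.comm_yb, ← mul_smul y y, ← pow_two, S.pow_y,
          S.zeta_eq, neg_one_smul, smul_neg, h1, neg_neg]
  · obtain ⟨e, he⟩ := hs.roots 2 Nat.prime_two (Or.inr (by rw [hL])) b S.mem_b d S.pow_b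
    have he0 : e ≠ 0 := fun h => hd0 (by rw [he, h, zero_pow two_ne_zero])
    obtain ⟨z, hz, hzw⟩ := hs.scal e⁻¹ (inv_ne_zero he0)
    refine mk (z * b) (B.mul_mem hz S.mem_b) (fun w => ?_) fun w => ?_
    · rw [mul_smul, mul_smul, hzw, hzw, hs.lin y S.mem_y, S.comm_yb, smul_comm]
    · rw [pow_two, mul_smul, mul_smul, mul_smul, hzw, hzw, hs.lin b S.mem_b, ← mul_smul b b,
        ← pow_two, S.pow_b, ← mul_smul, ← mul_smul, he,
        show e⁻¹ * e⁻¹ * e ^ 2 = 1 by field_simp, one_smul]

/-- The top of each chain of models. -/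
theorem Small.next {q : ℕ} {M : Model} (h : Small q M) :
    Small q M.double ∨ M = Cert.fiveModel ∨ M = Cert.threePlusModel ∨ M = Cert.threeMinusModel := by
  cases h
  exacts [Or.inl .three1, Or.inl .three2, Or.inl .three3, Or.inr (Or.inr (Or.inl rfl)),
    Or.inl .minus2, Or.inl .minus3, Or.inr (Or.inr (Or.inr rfl)), Or.inl .five1, Or.inl .five2,
    Or.inr (Or.inl rfl)]

theorem top_models {M : Model}
    (hM : M = Cert.fiveModel ∨ M = Cert.threePlusModel ∨ M = Cert.threeMinusModel)
    [Finite Γ] [Finite W] (hs : Setting Γ L W B) (R : Rep M B W) :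
    Pair (W := W) B ∧ Rich B W ∧ 4 * M.S + 1 ≤ M.P := by
  rcases hM with rfl | rfl | rfl
  exacts [⟨Cert.five_pair hs R, Cert.five_rich R, by decide⟩,
    ⟨Cert.threePlus_pair hs R, Cert.threePlus_rich R, by decide⟩,
    ⟨Cert.threeMinus_pair hs R, Cert.threeMinus_rich R, by decide⟩]

theorem status [Finite L] {q : ℕ} (hq : q = 3 ∨ q = 5) (hL : Nat.card L = q) {n : ℕ}
    (hyp : Hyp.{u} n) :
    ∀ (Γ W : Type u) [Group Γ] [Finite Γ] [AddCommGroup W] [Finite W] [Module L W]
      [DistribMulAction Γ W] (B : Subgroup Γ), Setting Γ L W B → Nat.card W < n → Status B W q := by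
  intro Γ W _ _ _ _ _ _ B hs hn
  induction hc : Nat.card W using Nat.strong_induction_on generalizing Γ W with
  | _ c ih =>
  subst hc
  have hqp : q.Prime := by rcases hq with rfl | rfl <;> norm_num
  rcases hs.exists_elt_or_free with ⟨y, hy, r, hr, hyr, hyn⟩ | hfree
  · obtain ⟨b, ζ, S, hb⟩ := hs.exists_step_one hq hL hy hr hyr hyn
    letI := S.act
    rcases ih _ S.card_lt _ _ S.B0 (S.sub_setting hs) (S.card_lt.trans hn) rfl with
      ⟨hp, hbig⟩ | ⟨M, hM, ⟨R⟩⟩
    · exact Or.inl ⟨S.pair_of_sub hs.two hp (Or.inr (Or.inr ((S.sub_setting hs).rich_of_big hbig))),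
        S.big_of_big hbig⟩
    · rcases hM.next with h | h
      · exact Or.inr ⟨_, h, S.rep_double hb R⟩
      · obtain ⟨hp, hrich, harith⟩ := top_models h (S.sub_setting hs) R
        refine Or.inl ⟨S.pair_of_sub hs.two hp (Or.inr (Or.inr hrich)), S.big_of_sub R.img_le ?_⟩
        rwa [R.card_eq]
  · have hp := hs.pair_of_free hfree hyp hn
    by_cases hsc : ∀ b ∈ B, ∃ c : L, ∀ w : W, b • w = c • w
    · rcases hs.scalar_case hqp hL hsc with h | h
      · exact Or.inl ⟨hp, h⟩
      · rcases hq with rfl | rfl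
        exacts [Or.inr ⟨_, .three0, h⟩, Or.inr ⟨_, .five0, h⟩]
    · push Not at hsc
      obtain ⟨b, hb, hbn⟩ := hsc
      have hne : ∃ b ∈ B, ¬ ∃ c : L, ∀ w : W, b • w = c • w :=
        ⟨b, hb, fun ⟨c, hc⟩ => by obtain ⟨w, hw⟩ := hbn c; exact hw (hc w)⟩
      rcases hq with rfl | rfl
      · rcases hs.quat_case hL hfree hne with h | h
        exacts [Or.inl ⟨hp, h⟩, Or.inr ⟨_, .minus1, h⟩]
      · exact absurd (hs.quaternion hfree hne).1 (by rw [hL]; norm_num)

namespace Cert

/-- The model of the exceptional top setting. -/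
def topModel : Model := (Model.scal 3).double.double

/-- Whether the class squares to the identity. -/
def invol (k : ℕ) : Bool :=
  topModel.units.all fun u => decide (topModel.act (2 * k) (topModel.act (2 * k) u) = u)

def sing : List ℕ := (List.range 16).filter fun k => decide (k ≠ 0) && invol k

def xorClass (k k' : ℕ) : Bool :=
  (List.range 2).any fun c => topModel.units.all fun u =>
    decide (topModel.act (2 * k) (topModel.act (2 * k') u) = topModel.act (2 * (k ^^^ k') + c) u)

/-- A map of classes given by the images of the four generators. -/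
def lift4 (a b c d k : ℕ) : ℕ :=
  (if k.testBit 0 then a else 0) ^^^ (if k.testBit 1 then b else 0) ^^^
    (if k.testBit 2 then c else 0) ^^^ (if k.testBit 3 then d else 0)

def preserves (a b c d : ℕ) : Bool :=
  (List.range 16).all fun k => invol (lift4 a b c d k) == invol k

def twelve (a b c d : ℕ) : Bool :=
  sing.all fun k => decide ((lift4 a b c d)^[12] k = k)

def autCheck : Bool :=
  sing.all fun a => sing.all fun b => sing.all fun c => sing.all fun d =>
    !preserves a b c d || twelve a b c d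

theorem xorClass_all : ((List.range 16).all fun k => (List.range 16).all (xorClass k)) = true := by
  decide +kernel

theorem autCheck_true : autCheck = true := by
  decide +kernel

theorem scalar_class : (List.range 32).all (fun e => (List.range 2).all fun c =>
    !(topModel.units.all fun u => decide (topModel.act e u = topModel.act c u)) || decide (e / 2 = 0)) =
      true := by
  decide +kernel

theorem distinct : (List.range 32).all (fun e => (List.range 32).all fun e' =>
    !(topModel.units.all fun u => decide (topModel.act e u = topModel.act e' u)) || decide (e = e')) =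
      true := by
  decide +kernel

theorem commClass : (List.range 32).all (fun e => (List.range 32).all fun e' =>
    !(decide (e / 2 = e' / 2) || decide (e / 2 = 0) || decide (e' / 2 = 0)) ||
      topModel.units.all fun u =>
        decide (topModel.act e (topModel.act e' u) = topModel.act e' (topModel.act e u))) = true := by
  decide +kernel

theorem sing_length : sing.length = 9 ∧ sing.Nodup := by
  decide +kernel

end Cert

open Cert in
/-- The exceptional setting of dimension four is not primitive. -/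
theorem top_not_small [Finite Γ] [Finite L] (ht : Top Γ L W B) (hL : Nat.card L = 3)
    (R : Rep Cert.topModel B W) : False := by
  classical
  have hs := ht.setting
  haveI := hs.nontrivial
  haveI := ht.faithful
  haveI := charP_of_card Nat.prime_three hL
  haveI : Finite W := Finite.of_surjective (fun x : Fin Cert.topModel.P => R.ι x) fun w => by
    obtain ⟨x, hx, e⟩ := R.exists_code w
    exact ⟨⟨x, hx⟩, e⟩
  have hxor := xorClass_all
  have haut := autCheck_true
  have hscl := scalar_class
  have hdist := distinct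
  have hcomm := commClass
  simp only [List.all_eq_true, List.mem_range, Bool.or_eq_true, Bool.not_eq_true', decide_eq_true_eq,
    xorClass, List.any_eq_true, autCheck, twelve, preserves, beq_iff_eq] at hxor haut hscl hdist hcomm
  have hS : topModel.S = 32 := rfl
  have hops : ∀ e < 32, ∀ e' < 32, (∀ w : W, R.φ e • w = R.φ e' • w) → e = e' := by
    intro e he e' he' h
    refine (hdist e he e' he').resolve_left fun h1 => ?_
    have h2 : (topModel.units.all fun u => decide (topModel.act e u = topModel.act e' u)) = true := by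
      simp only [List.all_eq_true, decide_eq_true_eq]
      intro u hu
      have := h (R.ι u)
      rw [(R.act_eq e (hS ▸ he) u (R.units_lt u hu)).2,
        (R.act_eq e' (hS ▸ he') u (R.units_lt u hu)).2] at this
      exact R.inj _ (R.act_eq e (hS ▸ he) u (R.units_lt u hu)).1 _
        (R.act_eq e' (hS ▸ he') u (R.units_lt u hu)).1 this
    rw [h1] at h2
    exact Bool.false_ne_true h2
  -- composing on the units
  have hcomp : ∀ e < 32, ∀ e' < 32, ∀ u ∈ topModel.units,
      R.φ e • R.φ e' • R.ι u = R.ι (topModel.act e (topModel.act e' u)) := by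
    intro e he e' he' u hu
    obtain ⟨h1, h2⟩ := R.act_eq e' (hS ▸ he') u (R.units_lt u hu)
    rw [h2, (R.act_eq e (hS ▸ he) _ h1).2]
  have hmul : ∀ e < 32, ∀ e' < 32, ∀ e'' < 32,
      (∀ u ∈ topModel.units, topModel.act e (topModel.act e' u) = topModel.act e'' u) →
      ∀ w : W, R.φ e • R.φ e' • w = R.φ e'' • w := by
    intro e he e' he' e'' he'' h w
    rw [← mul_smul]
    refine R.ext_units (fun u hu => ?_) w
    rw [mul_smul, hcomp e he e' he' u hu, h u hu, (R.act_eq e'' (hS ▸ he'') u (R.units_lt u hu)).2]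
  -- the class of an element
  have hcls : ∀ b ∈ B, ∃ e < 32, ∀ w : W, b • w = R.φ e • w := R.cover
  have hmulcls : ∀ e < 32, ∀ e' < 32, ∃ e'' < 32, e'' / 2 = (e / 2) ^^^ (e' / 2) ∧
      ∀ w : W, R.φ e • R.φ e' • w = R.φ e'' • w := by
    intro e he e' he'
    obtain ⟨e'', he'', hcov⟩ := hcls _ (B.mul_mem (R.mem e (hS ▸ he)) (R.mem e' (hS ▸ he')))
    refine ⟨e'', he'', ?_, fun w => by rw [← hcov, mul_smul]⟩
    -- the sign classes multiply by exclusive or
    have key : ∀ a < 32, ∀ k < 2, ∃ k' < 2, ∀ w : W,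
        R.φ a • w = R.φ k' • R.φ (2 * (a / 2)) • w ∧ R.φ k • R.φ a • w = R.φ a • R.φ k • w := by
      intro a ha k hk
      refine ⟨a % 2, Nat.mod_lt _ two_pos, fun w => ⟨?_, ?_⟩⟩
      · refine (hmul (a % 2) (by omega) (2 * (a / 2)) (by omega) a ha (fun u hu => ?_) w).symm
        revert u
        interval_cases a <;> decide
      · rw [← mul_smul, ← mul_smul]
        refine R.ext_units (fun u hu => ?_) w
        rw [mul_smul, mul_smul, hcomp k (by omega) a ha u hu, hcomp a ha k (by omega) u hu]
        have h3 : k / 2 = 0 := by omega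
        rw [((hcomm k (by omega) a ha).resolve_left fun h4 => by simp [h3] at h4) u hu]
    obtain ⟨c, hc2, hc⟩ := hxor (e / 2) (by omega) (e' / 2) (by omega)
    have hk16 : (e / 2) ^^^ (e' / 2) < 16 := Nat.xor_lt_two_pow (n := 4) (by omega) (by omega)
    have hprod := hmul (2 * (e / 2)) (by omega) (2 * (e' / 2)) (by omega)
      (2 * ((e / 2) ^^^ (e' / 2)) + c) (by omega) fun u hu => hc u hu
    obtain ⟨k1, hk1, h1⟩ := key e he 0 two_pos
    obtain ⟨k2, hk2, h2⟩ := key e' he' 0 two_pos
    have h1' : ∀ w : W, R.φ k2 • R.φ (2 * (e / 2)) • w = R.φ (2 * (e / 2)) • R.φ k2 • w := fun w =>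
      ((key (2 * (e / 2)) (by omega) k2 hk2).choose_spec.2 w).2
    obtain ⟨k3, hk3, h3⟩ := key e'' he'' 0 two_pos
    -- compare up to signs
    obtain ⟨f, hf, hf2, hfw⟩ : ∃ f < 32, f / 2 = (e / 2) ^^^ (e' / 2) ∧
        ∀ w : W, R.φ k1 • R.φ k2 • R.φ (2 * ((e / 2) ^^^ (e' / 2)) + c) • w = R.φ f • w := by
      have hfin : ∀ a < 2, ∀ b < 2, ∀ g < 32, ∃ f < 32, f / 2 = g / 2 ∧ ∀ u ∈ topModel.units,
          topModel.act a (topModel.act b (topModel.act g u)) = topModel.act f u := by decide +kernel
      obtain ⟨f, hf, hf2, hfu⟩ := hfin k1 hk1 k2 hk2 (2 * ((e / 2) ^^^ (e' / 2)) + c) (by omega)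
      refine ⟨f, hf, by omega, fun w => ?_⟩
      rw [← mul_smul, ← mul_smul]
      refine R.ext_units (fun u hu => ?_) w
      rw [mul_smul, mul_smul, hcomp k2 (by omega) _ (by omega) u hu]
      obtain ⟨g1, -⟩ := R.act_eq (2 * ((e / 2) ^^^ (e' / 2)) + c) (hS ▸ (by omega)) u (R.units_lt u hu)
      obtain ⟨g2, -⟩ := R.act_eq k2 (hS ▸ (by omega)) _ g1
      rw [(R.act_eq k1 (hS ▸ (by omega)) _ g2).2, (R.act_eq f (hS ▸ hf) u (R.units_lt u hu)).2,
        hfu u hu]
    rw [← hf2, hops e'' he'' f hf fun w => ?_]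
    rw [← hfw, ← hprod, h1', ← (h2 w).1, ← (h1 _).1, ← hcov, mul_smul]
  have hcls_uniq : ∀ e < 32, ∀ e' < 32, (∀ w : W, R.φ e • w = R.φ e' • w) → e / 2 = e' / 2 :=
    fun e he e' he' h => by rw [hops e he e' he' h]
  -- conjugation on classes
  have hconj : ∀ (g : Γ) (k : ℕ), k < 16 → ∃ e < 32, ∀ w : W, g • R.φ (2 * k) • w = R.φ e • g • w :=
    fun g k hk => R.conj hs.toPre g (hS ▸ (by omega))
  choose E hE hEw using hconj
  let σ : Γ → ℕ → ℕ := fun g k => if h : k < 16 then E g k h / 2 else k
  have hσlt : ∀ g k, k < 16 → σ g k < 16 := fun g k hk => by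
    simp only [σ, dif_pos hk]
    have := hE g k hk
    omega
  have hσ_eq : ∀ g k, k < 16 → ∀ e < 32, (∀ w : W, g • R.φ (2 * k) • w = R.φ e • g • w) →
      σ g k = e / 2 := by
    intro g k hk e he h
    simp only [σ, dif_pos hk]
    refine hcls_uniq _ (hE g k hk) e he fun w => ?_
    rw [← smul_inv_smul g w, ← hEw g k hk, h]
  -- conjugates of arbitrary codes
  have hσ_code : ∀ g, ∀ e < 32, ∃ e' < 32, e' / 2 = σ g (e / 2) ∧
      ∀ w : W, g • R.φ e • w = R.φ e' • g • w := by
    intro g e he
    obtain ⟨z, hz, hzw⟩ := R.conj hs.toPre g (e := e % 2) (hS ▸ (by omega))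
    obtain ⟨f, hf, hfc, hfw⟩ := hmulcls z hz _ (hE g (e / 2) (by omega))
    refine ⟨f, hf, ?_, fun w => ?_⟩
    · rw [hfc, hσ_eq g (e / 2) (by omega) _ (hE g (e / 2) (by omega)) (hEw g (e / 2) (by omega))]
      have hz0 : z / 2 = 0 := by
        obtain ⟨c, hc⟩ : ∃ c : L, ∀ w : W, R.φ z • w = c • w := by
          obtain ⟨c, hc⟩ : ∃ c : L, ∀ w : W, R.φ (e % 2) • w = c • w := by
            refine ⟨((e % 2 + 1 : ℕ) : L), fun w => ?_⟩
            rw [Nat.cast_smul_eq_nsmul]
            refine R.gen
              { carrier := {w | R.φ (e % 2) • w = (e % 2 + 1) • w}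
                zero_mem' := by simp
                add_mem' := fun {p q} (hp : R.φ (e % 2) • p = _) (hq : R.φ (e % 2) • q = _) =>
                  show R.φ (e % 2) • (p + q) = _ by rw [smul_add, hp, hq, nsmul_add]
                neg_mem' := fun {p} (hp : R.φ (e % 2) • p = _) =>
                  show R.φ (e % 2) • (-p) = _ by rw [smul_neg, hp, neg_nsmul] }
              (fun u hu => ?_) w
            show R.φ (e % 2) • R.ι u = (e % 2 + 1) • R.ι u
            rw [(R.act_eq (e % 2) (hS ▸ (by omega)) u (R.units_lt u hu)).2]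
            have hu' := R.units_lt u hu
            rcases (by omega : e % 2 = 0 ∨ e % 2 = 1) with h | h <;> rw [h]
            · rw [one_nsmul]
              congr 1
              revert u
              decide
            · rw [two_nsmul, (R.add_eq u hu' u hu').2]
              congr 1
              revert u
              decide
          obtain ⟨d, hd⟩ := hs.semi g c
          refine ⟨d, fun w => ?_⟩
          rw [← smul_inv_smul g w, ← hzw, hc, hd]
        obtain ⟨k, hk, rfl⟩ := exists_cast Nat.prime_three hL c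
        have hk0 : k ≠ 0 := fun h => by
          obtain ⟨v, hv⟩ := exists_ne (0 : W)
          exact hv ((smul_eq_zero_iff_eq (R.φ z)).1 (by rw [hc, h, Nat.cast_zero, zero_smul]))
        refine (hscl z hz (k - 1) (by omega)).resolve_left fun h1 => ?_
        have h2 : (topModel.units.all fun u =>
            decide (topModel.act z u = topModel.act (k - 1) u)) = true := by
          simp only [List.all_eq_true, decide_eq_true_eq]
          intro u hu
          have hu' := R.units_lt u hu
          refine R.inj _ (R.act_eq z (hS ▸ hz) u hu').1 _ (R.act_eq (k - 1) (hS ▸ (by omega)) u hu').1 ?_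
          rw [← (R.act_eq z (hS ▸ hz) u hu').2, hc, Nat.cast_smul_eq_nsmul]
          interval_cases k
          · omega
          · rw [one_nsmul]
            congr 1
            revert u
            decide
          · rw [two_nsmul, (R.add_eq u hu' u hu').2]
            congr 1
            revert u
            decide
        rw [h1] at h2
        exact Bool.false_ne_true h2
      rw [hz0, Nat.zero_xor]
    · have he2 : ∀ w : W, R.φ e • w = R.φ (e % 2) • R.φ (2 * (e / 2)) • w := fun w =>
        (hmul (e % 2) (by omega) (2 * (e / 2)) (by omega) e he (fun u hu => by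
          revert u
          interval_cases e <;> decide) w).symm
      rw [he2, hzw, hEw g (e / 2) (by omega), hfw]
  have hσmul : ∀ g h k, k < 16 → σ (g * h) k = σ g (σ h k) := by
    intro g h k hk
    obtain ⟨e', he', hcls', hw'⟩ := hσ_code g _ (hE h k hk)
    rw [hσ_eq (g * h) k hk e' he' fun w => by rw [mul_smul, hEw h k hk, hw', mul_smul], hcls']
    simp only [σ, dif_pos hk]
  have hσone : ∀ k, k < 16 → σ 1 k = k := fun k hk => by
    rw [hσ_eq 1 k hk (2 * k) (by omega) fun w => by rw [one_smul, one_smul]]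
    omega
  have hσxor : ∀ g k k', k < 16 → k' < 16 → σ g (k ^^^ k') = σ g k ^^^ σ g k' := by
    intro g k k' hk hk'
    obtain ⟨f, hf, hfc, hfw⟩ := hmulcls (2 * k) (by omega) (2 * k') (by omega)
    obtain ⟨e1, he1, hc1, hw1⟩ := hσ_code g f hf
    obtain ⟨e2, he2, hc2, hw2⟩ := hmulcls _ (hE g k hk) _ (hE g k' hk')
    have h12 : e1 / 2 = e2 / 2 := hcls_uniq _ he1 _ he2 fun w => by
      rw [← smul_inv_smul g w, ← hw1, ← hfw, hEw g k hk, hEw g k' hk', hw2]
    rw [hfc, show 2 * k / 2 = k by omega, show 2 * k' / 2 = k' by omega] at hc1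
    rw [← hc1, h12, hc2]
    simp only [σ, dif_pos hk, dif_pos hk']
  -- squares
  have hinv : ∀ g k, k < 16 → invol (σ g k) = invol k := by
    have hinvol : ∀ e < 32, (invol (e / 2) = true ↔ ∀ w : W, R.φ e • R.φ e • w = w) := by
      intro e he
      have hsame : ∀ e < 32, ∀ u ∈ topModel.units, topModel.act e (topModel.act e u) =
          topModel.act (2 * (e / 2)) (topModel.act (2 * (e / 2)) u) := by decide +kernel
      simp only [invol, List.all_eq_true, decide_eq_true_eq]
      constructor
      · intro h w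
        rw [← mul_smul, R.ext_units (g := R.φ e * R.φ e) (h := 1) (fun u hu => ?_) w, one_smul]
        rw [one_smul, mul_smul, hcomp e he e he u hu, hsame e he u hu, h u hu]
      · intro h u hu
        have hu' := R.units_lt u hu
        rw [← hsame e he u hu]
        obtain ⟨h1, -⟩ := R.act_eq e (hS ▸ he) u hu'
        exact R.inj _ (R.act_eq e (hS ▸ he) _ h1).1 _ hu' (by rw [← hcomp e he e he u hu, h])
    intro g k hk
    simp only [σ, dif_pos hk]
    rw [Bool.eq_iff_iff, hinvol _ (hE g k hk)]
    conv_rhs => rw [show k = 2 * k / 2 by omega, hinvol (2 * k) (by omega)]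
    refine ⟨fun h w => smul_left_cancel g ?_, fun h w => ?_⟩
    · rw [hEw g k hk, hEw g k hk, h]
    · rw [← smul_inv_smul g w, ← hEw g k hk, ← hEw g k hk, h]
  have hσ0 : ∀ g, σ g 0 = 0 := fun g => by
    have h := hσxor g 0 0 (by norm_num) (by norm_num)
    rwa [Nat.xor_self, Nat.xor_self] at h
  have hback : ∀ g k, k < 16 → σ g⁻¹ (σ g k) = k := fun g k hk => by
    rw [← hσmul _ _ k hk, inv_mul_cancel, hσone k hk]
  have hsing : ∀ g, ∀ k ∈ sing, σ g k ∈ sing := by
    intro g k hk
    simp only [sing, List.mem_filter, List.mem_range, Bool.and_eq_true, decide_eq_true_eq] at hk ⊢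
    refine ⟨hσlt g k hk.1, fun h => hk.2.1 ?_, by rw [hinv g k hk.1]; exact hk.2.2⟩
    rw [← hback g k hk.1, h, hσ0]
  have hs16 : ∀ k ∈ sing, k < 16 := fun k hk => List.mem_range.1 (List.mem_filter.1 hk).1
  letI act9 : MulAction Γ {k // k ∈ sing} :=
    { smul := fun g k => ⟨σ g k, hsing g k k.2⟩
      one_smul := fun k => Subtype.ext (hσone k (hs16 k k.2))
      mul_smul := fun g h k => Subtype.ext (hσmul g h k (hs16 k k.2)) }
  haveI : Fintype {k // k ∈ sing} := List.Subtype.fintype sing
  have hpg : IsPGroup 2 ↥(MulAction.toPermHom Γ {k // k ∈ sing}).range := by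
    rintro ⟨_, g, rfl⟩
    refine ⟨2, Subtype.ext ?_⟩
    set π := MulAction.toPermHom Γ {k // k ∈ sing} g with hπ
    show π ^ 2 ^ 2 = 1
    obtain ⟨a, ha, hσa⟩ : ∃ a, a = σ g 1 ∧ a ∈ sing := ⟨_, rfl, hsing g 1 (by decide)⟩
    obtain ⟨b, hb, hσb⟩ : ∃ b, b = σ g 2 ∧ b ∈ sing := ⟨_, rfl, hsing g 2 (by decide)⟩
    obtain ⟨c, hc, hσc⟩ : ∃ c, c = σ g 4 ∧ c ∈ sing := ⟨_, rfl, hsing g 4 (by decide)⟩
    obtain ⟨d, hd, hσd⟩ : ∃ d, d = σ g 8 ∧ d ∈ sing := ⟨_, rfl, hsing g 8 (by decide)⟩
    have hlift : ∀ k < 16, σ g k = lift4 a b c d k := by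
      have hdec : ∀ k < 16, k = lift4 1 2 4 8 k := by decide
      have hx : ∀ (p : Bool) (m : ℕ), m < 16 →
          σ g (if p then m else 0) = if p then σ g m else 0 := fun p m _ => by
        cases p <;> simp [hσ0]
      have hlt : ∀ (p : Bool) (m : ℕ), m < 16 → (if p then m else 0) < 16 := fun p m hm => by
        cases p <;> simp [hm]
      intro k hk
      conv_lhs => rw [hdec k hk]
      simp only [lift4]
      rw [hσxor g _ _ (Nat.xor_lt_two_pow (n := 4) (Nat.xor_lt_two_pow (n := 4)
          (hlt _ 1 (by norm_num)) (hlt _ 2 (by norm_num))) (hlt _ 4 (by norm_num))) (hlt _ 8 (by norm_num)),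
        hσxor g _ _ (Nat.xor_lt_two_pow (n := 4) (hlt _ 1 (by norm_num)) (hlt _ 2 (by norm_num)))
          (hlt _ 4 (by norm_num)),
        hσxor g _ _ (hlt _ 1 (by norm_num)) (hlt _ 2 (by norm_num)),
        hx _ 1 (by norm_num), hx _ 2 (by norm_num), hx _ 4 (by norm_num), hx _ 8 (by norm_num),
        ← ha, ← hb, ← hc, ← hd]
    have hit : ∀ (n : ℕ) (k : {k // k ∈ sing}),
        (((π ^ n) k : {k // k ∈ sing}) : ℕ) = (lift4 a b c d)^[n] k := by
      intro n
      induction n with
      | zero => intro k; simp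
      | succ n ih =>
        intro k
        rw [pow_succ', Equiv.Perm.mul_apply, Function.iterate_succ_apply', ← ih,
          ← hlift _ (hs16 _ ((π ^ n) k).2)]
        rfl
    have h12 : π ^ 12 = 1 := by
      refine Equiv.ext fun k => Subtype.ext ?_
      rw [hit, Equiv.Perm.one_apply]
      refine (haut a hσa b hσb c hσc d hσd).resolve_left (fun hno => ?_) k k.2
      have hyes : ((List.range 16).all fun k => invol (lift4 a b c d k) == invol k) = true := by
        simp only [List.all_eq_true, List.mem_range, beq_iff_eq]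
        intro k hk
        rw [← hlift k hk, hinv g k hk]
      rw [hno] at hyes
      exact Bool.false_ne_true hyes
    have hgN : π ^ Nat.card Γ = 1 := by rw [hπ, ← map_pow, pow_card_eq_one', map_one]
    have h3 : ¬ 3 ∣ Nat.card Γ := fun h => by
      have h' : 3 ∣ Nat.card W := by rw [R.card_eq]; decide
      have := Nat.le_of_dvd one_pos (hs.coprime.gcd_eq_one ▸ Nat.dvd_gcd h h')
      omega
    have hord : orderOf π ∣ 2 ^ 2 := by
      refine Nat.Coprime.dvd_of_dvd_mul_right (k := orderOf π) (n := 3) ?_ ?_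
      · refine ((Nat.coprime_comm.1 (Nat.prime_three.coprime_iff_not_dvd.2 h3)).coprime_dvd_left
          (orderOf_dvd_of_pow_eq_one hgN))
      · exact orderOf_dvd_of_pow_eq_one h12
    exact orderOf_dvd_iff_pow_eq_one.1 hord
  haveI : Fact (2 : ℕ).Prime := ⟨Nat.prime_two⟩
  letI : MulAction ↥(MulAction.toPermHom Γ {k // k ∈ sing}).range {k // k ∈ sing} :=
    MulAction.compHom _ (MulAction.toPermHom Γ {k // k ∈ sing}).range.subtype
  have hmod := hpg.card_modEq_card_fixedPoints {k // k ∈ sing}
  obtain ⟨⟨⟨k, hk⟩, hfix⟩⟩ : Nonempty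
      (MulAction.fixedPoints ↥(MulAction.toPermHom Γ {k // k ∈ sing}).range {k // k ∈ sing}) := by
    by_contra h
    rw [not_nonempty_iff] at h
    have h9 : Nat.card {k // k ∈ sing} = 9 := by
      rw [Nat.subtype_card sing.toFinset fun k => List.mem_toFinset,
        List.toFinset_card_of_nodup sing_length.2, sing_length.1]
    rw [h9, Nat.card_eq_zero.2 (Or.inl h)] at hmod
    exact absurd hmod (by decide)
  have hkfix : ∀ g, σ g k = k := fun g =>
    congrArg Subtype.val (hfix ⟨_, g, rfl⟩)
  have hk16 : k < 16 := hs16 k hk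
  have hk0 : k ≠ 0 := by
    simp only [sing, List.mem_filter, Bool.and_eq_true, decide_eq_true_eq] at hk
    exact hk.2.1
  -- the subgroup above a fixed class
  let Y : Subgroup Γ :=
    { carrier := {b | b ∈ B ∧ ∀ e < 32, (∀ w : W, b • w = R.φ e • w) → e / 2 = 0 ∨ e / 2 = k}
      one_mem' := by
        refine ⟨B.one_mem, fun e he h => Or.inl ?_⟩
        obtain ⟨f, hf, hfc, hfw⟩ := hmulcls e he e he
        rw [Nat.xor_self] at hfc
        rw [← hfc, hops f hf e he fun w => by rw [← hfw, ← h, one_smul]]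
      mul_mem' := by
        rintro a b ⟨ha, ha'⟩ ⟨hb, hb'⟩
        refine ⟨B.mul_mem ha hb, fun e he h => ?_⟩
        obtain ⟨ea, hea, hwa⟩ := hcls a ha
        obtain ⟨eb, heb, hwb⟩ := hcls b hb
        obtain ⟨f, hf, hfc, hfw⟩ := hmulcls ea hea eb heb
        have e1 := hcls_uniq e he f hf fun w => by rw [← h, ← hfw, mul_smul, hwa, hwb]
        rw [e1, hfc]
        rcases ha' ea hea hwa with h1 | h1 <;> rcases hb' eb heb hwb with h2 | h2 <;> simp [h1, h2]
      inv_mem' := by
        rintro a ⟨ha, ha'⟩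
        refine ⟨B.inv_mem ha, fun e he h => ?_⟩
        obtain ⟨ea, hea, hwa⟩ := hcls a ha
        obtain ⟨f, hf, hfc, hfw⟩ := hmulcls ea hea e he
        obtain ⟨g, hg, hgc, hgw⟩ := hmulcls f hf f hf
        rw [Nat.xor_self] at hgc
        have e1 : f / 2 = 0 := by
          have hf1 : ∀ w : W, R.φ f • w = w := fun w => by
            rw [← hfw, ← h, ← hwa, smul_inv_smul]
          rw [← hgc]
          exact hcls_uniq f hf g hg fun w => by rw [← hgw, hf1 (R.φ f • w)]
        rw [e1] at hfc
        have : e / 2 = ea / 2 := by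
          have h' := congrArg (ea / 2 ^^^ ·) hfc
          simpa [← Nat.xor_assoc] using h'.symm
        rw [this]
        exact ha' ea hea hwa }
  have hYB : Y ≤ B := fun b hb => hb.1
  have hYc : ∀ a ∈ Y, ∀ b ∈ Y, a * b = b * a := by
    intro a ha b hb
    obtain ⟨ea, hea, hwa⟩ := hcls a ha.1
    obtain ⟨eb, heb, hwb⟩ := hcls b hb.1
    refine FaithfulSMul.eq_of_smul_eq_smul (α := W) fun w => R.ext_units (fun u hu => ?_) w
    rw [mul_smul, mul_smul, hwb, hwa, hwa, hwb, hcomp ea hea eb heb u hu, hcomp eb heb ea hea u hu,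
      ((hcomm ea hea eb heb).resolve_left fun h => by
        rcases ha.2 ea hea hwa with h1 | h1 <;> rcases hb.2 eb heb hwb with h2 | h2 <;>
          simp [h1, h2] at h) u hu]
  have hYn : ∀ g : Γ, ∀ a ∈ Y, g * a * g⁻¹ ∈ Y := by
    intro g a ha
    refine ⟨hs.normal g a ha.1, fun e he h => ?_⟩
    obtain ⟨ea, hea, hwa⟩ := hcls a ha.1
    obtain ⟨f, hf, hfc, hfw⟩ := hσ_code g ea hea
    have e1 := hcls_uniq e he f hf fun w => by
      rw [← h, mul_smul, mul_smul, hwa, hfw, smul_inv_smul]
    rw [e1, hfc]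
    rcases ha.2 ea hea hwa with h1 | h1
    · exact Or.inl (by rw [h1, hσ0])
    · exact Or.inr (by rw [h1, hkfix])
  have hmem : R.φ (2 * k) ∈ Y := ⟨R.mem _ (hS ▸ (by omega)), fun e he h => Or.inr (by
    rw [← hops (2 * k) (by omega) e he h]; omega)⟩
  obtain ⟨c, hc⟩ := ht.max Y hYB hYc hYn _ hmem
  obtain ⟨j, hj, rfl⟩ := exists_cast Nat.prime_three hL c
  have hj0 : j ≠ 0 := fun h => by
    obtain ⟨v, hv⟩ := exists_ne (0 : W)
    exact hv ((smul_eq_zero_iff_eq (R.φ (2 * k))).1 (by rw [hc, h, Nat.cast_zero, zero_smul]))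
  refine hk0 ?_
  have h0 := (hscl (2 * k) (by omega) (j - 1) (by omega)).resolve_left fun h1 => by
    have h2 : (topModel.units.all fun u =>
        decide (topModel.act (2 * k) u = topModel.act (j - 1) u)) = true := by
      simp only [List.all_eq_true, decide_eq_true_eq]
      intro u hu
      have hu' := R.units_lt u hu
      refine R.inj _ (R.act_eq _ (hS ▸ (by omega)) u hu').1 _
        (R.act_eq (j - 1) (hS ▸ (by omega)) u hu').1 ?_
      rw [← (R.act_eq _ (hS ▸ (by omega)) u hu').2, hc, Nat.cast_smul_eq_nsmul]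
      interval_cases j
      · omega
      · rw [one_nsmul]
        congr 1
        revert u
        decide
      · rw [two_nsmul, (R.add_eq u hu' u hu').2]
        congr 1
        revert u
        decide
    rw [h1] at h2
    exact Bool.false_ne_true h2
  omega

theorem top_statement : TopStatement.{u} := by
  intro Γ L W _ _ _ _ _ _ _ _ B ht hyp
  have hs := ht.setting
  haveI := hs.nontrivial
  rcases hs.exists_elt_or_free with ⟨y, hy, r, hr, hyr, hyn⟩ | hfree
  swap
  · exact base_of_free ht hfree hyp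
  by_cases hL5 : 5 < Nat.card L
  · obtain ⟨b, ζ, d, S⟩ := hs.exists_step hy hr hyr hyn
    letI := S.act
    exact S.base_of_sub hs.two (pair_large hL5 hyp _ _ S.B0 (S.sub_setting hs) S.card_lt)
  obtain ⟨q, hq, hL⟩ : ∃ q, (q = 3 ∨ q = 5) ∧ Nat.card L = q := by
    refine ⟨_, ?_, rfl⟩
    obtain ⟨k, hk⟩ := hs.odd_card
    have : 1 < Nat.card L := Finite.one_lt_card
    omega
  obtain ⟨b, ζ, S, hb⟩ := hs.exists_step_one hq hL hy hr hyr hyn
  letI := S.act
  rcases status hq hL hyp _ _ S.B0 (S.sub_setting hs) S.card_lt with ⟨hp, -⟩ | ⟨M, hM, ⟨R⟩⟩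
  · exact S.base_of_sub hs.two hp
  have hbase : ∀ {M : Model}, Pair (W := W) B → Rep M B W → Base Γ W := by
    rintro M ⟨v, w, hgood, -, -⟩ -
    exact ⟨_, hgood⟩
  cases hM with
  | three0 =>
    exact S.base_of_sub hs.two (R.pair_of_units 1 1 (by decide) (by decide) (by decide) (by decide))
  | three1 =>
    obtain ⟨R'⟩ := S.rep_double hb R
    exact (top_not_small ht hL R').elim
  | three2 =>
    obtain ⟨R'⟩ := S.rep_double hb R
    exact hbase (Cert.threePlus_pair hs R') R'
  | three3 => exact S.base_of_sub hs.two (Cert.threePlus_pair (S.sub_setting hs) R)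
  | minus1 =>
    exact S.base_of_sub hs.two (R.pair_of_units 1 3 (by decide) (by decide) (by decide) (by decide))
  | minus2 =>
    obtain ⟨R'⟩ := S.rep_double hb R
    exact hbase (Cert.threeMinus_pair hs R') R'
  | minus3 => exact S.base_of_sub hs.two (Cert.threeMinus_pair (S.sub_setting hs) R)
  | five0 =>
    exact S.base_of_sub hs.two (R.pair_of_units 1 1 (by decide) (by decide) (by decide) (by decide))
  | five1 =>
    obtain ⟨R'⟩ := S.rep_double hb R
    exact hbase (Cert.five_pair hs R') R'
  | five2 => exact S.base_of_sub hs.two (Cert.five_pair (S.sub_setting hs) R)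

theorem hyp_all (n : ℕ) : Hyp.{u} n :=
  hyp_all_of (quasi_of_top top_statement) n

end CfsgLib.CoprimeBase
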