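import Cfsg.Agent.Lib.CoprimeBase.Quasi
import Cfsg.Agent.Lib.CoprimeBase.Circle
import Mathlib.GroupTheory.Perm.Fin
import Mathlib.Data.Fintype.Perm
import Mathlib.Tactic.Module

/-!
The case of a quaternion group acting freely.
-/

set_option autoImplicit false
set_option linter.unusedSectionVars false

namespace CfsgLib.CoprimeBase

open CfsgLib.OddBase (Good Base)

universe u

variable {Γ L W : Type u} [Group Γ] [Field L] [AddCommGroup W] [Module L W] [DistribMulAction Γ W]
  {B : Subgroup Γ}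

namespace Pre

/-- A freely acting `B` has no non-scalar element whose prime power is a matching power of a scalar. -/
theorem scalar_of_pow [Finite Γ] (hs : Pre Γ L W B) (hfree : ∀ v : W, v ≠ 0 → Free B v) {b : Γ}
    (hb : b ∈ B) {r : ℕ} (hr : r.Prime) {d : L} (h : ∀ w : W, (b ^ r) • w = d ^ r • w) :
    ∃ c : L, ∀ w : W, b • w = c • w := by
  haveI := hs.nontrivial
  by_contra hn
  have hd : d ≠ 0 := by
    rintro rfl
    obtain ⟨v, hv⟩ := exists_ne (0 : W)
    exact hv ((smul_eq_zero_iff_eq (b ^ r)).1 (by rw [h, zero_pow hr.ne_zero, zero_smul]))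
  obtain ⟨z, hz, hzw⟩ := hs.scal d⁻¹ (inv_ne_zero hd)
  have hpow : ∀ (i : ℕ) (w : W), ((z * b) ^ i) • w = d⁻¹ ^ i • (b ^ i) • w := by
    intro i
    induction i with
    | zero => intro w; simp
    | succ i ih =>
      intro w
      rw [pow_succ (z * b), mul_smul, mul_smul, ih, hzw, hs.lin _ (B.pow_mem hb i), ← mul_smul,
        ← pow_succ, ← mul_smul (b ^ i), ← pow_succ]
  have hyr : ∀ w : W, ((z * b) ^ r) • w = w := fun w => by
    rw [hpow, h, ← mul_smul, ← mul_pow, inv_mul_cancel₀ hd, one_pow, one_smul]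
  have hyn : ¬ ∃ c : L, ∀ w : W, (z * b) • w = c • w := by
    rintro ⟨c, hc⟩
    refine hn ⟨d * c, fun w => ?_⟩
    have := hc w
    rw [mul_smul, hzw] at this
    rw [mul_smul, ← this, ← mul_smul, mul_inv_cancel₀ hd, one_smul]
  obtain ⟨b', ζ, e, S⟩ := hs.exists_step (B.mul_mem hz hb) hr hyr hyn
  obtain ⟨u, hu⟩ := @exists_ne S.W0 S.nontrivial_W0 0
  exact hyn ⟨1, fun w => by
    rw [one_smul]
    exact hfree (u : W) (fun e => hu (Subtype.ext e)) _ (B.mul_mem hz hb) u.2 w⟩

theorem square_scalar [Finite Γ] (hs : Pre Γ L W B) (hfree : ∀ v : W, v ≠ 0 → Free B v) {b : Γ}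
    (hb : b ∈ B) : ∃ c : L, ∀ w : W, (b ^ 2) • w = c • w := by
  haveI := hs.nontrivial
  obtain ⟨m, hm, hmem⟩ := hs.sqfree
  have key : ∀ k : ℕ, ¬ 2 ∣ k → ∀ x ∈ B, (∃ c : L, ∀ w : W, (x ^ k) • w = c • w) →
      ∃ c : L, ∀ w : W, x • w = c • w := by
    intro k
    induction k using Nat.strong_induction_on with
    | _ k ih =>
      intro hk x hx hxk
      by_cases hk1 : k = 1
      · rw [hk1, pow_one] at hxk
        exact hxk
      obtain ⟨r, hr, k', rfl⟩ := Nat.exists_prime_and_dvd hk1
      have hr2 : r ≠ 2 := fun e => hk (e ▸ dvd_mul_right r k')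
      obtain ⟨c, hc⟩ := hxk
      have hc' : ∀ w : W, ((x ^ k') ^ r) • w = c • w := fun w => by
        rw [← pow_mul, mul_comm]
        exact hc w
      obtain ⟨d, rfl⟩ := hs.roots r hr (Or.inl hr2) _ (B.pow_mem hx k') c hc'
      have hk0 : k' ≠ 0 := fun e => hk (by rw [e, mul_zero]; exact dvd_zero 2)
      exact ih k' (lt_mul_of_one_lt_left (Nat.pos_of_ne_zero hk0) hr.one_lt)
        (fun h => hk (Dvd.dvd.mul_left h r)) x hx (hs.scalar_of_pow hfree (B.pow_mem hx k') hr hc')
  by_cases h2 : 2 ∣ m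
  · obtain ⟨m', rfl⟩ := h2
    have hodd : ¬ 2 ∣ m' := fun h => by
      have := Nat.coprime_of_squarefree_mul hm
      rw [Nat.Prime.coprime_iff_not_dvd Nat.prime_two] at this
      exact this h
    exact key m' hodd _ (B.pow_mem hb 2) (by
      obtain ⟨c, hc⟩ := hmem b hb
      exact ⟨c, fun w => by rw [← pow_mul]; exact hc w⟩)
  · obtain ⟨c, hc⟩ := key m h2 b hb (hmem b hb)
    exact ⟨c * c, fun w => by rw [pow_two, mul_smul, hc, hc, mul_smul]⟩

/-- A freely acting non-scalar `B` needs odd characteristic. -/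
theorem two_of_free [Finite Γ] [Finite L] (hs : Pre Γ L W B)
    (hfree : ∀ v : W, v ≠ 0 → Free B v) (hne : ∃ b ∈ B, ¬ ∃ c : L, ∀ w : W, b • w = c • w) :
    (2 : L) ≠ 0 := by
  intro h2
  obtain ⟨b, hb, hbn⟩ := hne
  obtain ⟨c, hc⟩ := hs.square_scalar hfree hb
  have hchar : ringChar L = 2 := by
    haveI : CharP L 2 := (CharP.charP_iff_prime_eq_zero Nat.prime_two).2 (by exact_mod_cast h2)
    exact ringChar.eq L 2
  obtain ⟨d, rfl⟩ := FiniteField.isSquare_of_char_two hchar c
  exact hbn (hs.scalar_of_pow hfree hb Nat.prime_two fun w => by rw [hc, pow_two d])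

/-- A freely acting `B` with a non-scalar element is a quaternion group with scalars. -/
theorem quaternion [Finite Γ] [Finite L] (hs : Pre Γ L W B)
    (hfree : ∀ v : W, v ≠ 0 → Free B v) (hne : ∃ b ∈ B, ¬ ∃ c : L, ∀ w : W, b • w = c • w) :
    Nat.card L % 4 = 3 ∧ ∃ i ∈ B, ∃ j ∈ B, (∀ w : W, i • i • w = -w) ∧ (∀ w : W, j • j • w = -w) ∧
      (∀ w : W, j • i • w = -(i • j • w)) ∧
      ∀ b ∈ B, ∃ c : L, (∀ w : W, b • w = c • w) ∨ (∀ w : W, b • w = c • i • w) ∨
        (∀ w : W, b • w = c • j • w) ∨ ∀ w : W, b • w = c • i • j • w := by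
  classical
  haveI := hs.nontrivial
  haveI := Fintype.ofFinite L
  have htwo := hs.two_of_free hfree hne
  have hchar : ringChar L ≠ 2 := fun h => htwo (by
    haveI : CharP L 2 := h ▸ ringChar.charP L
    exact_mod_cast (CharP.cast_eq_zero L 2))
  obtain ⟨b0, hb0, hb0n⟩ := hne
  have h43 : Nat.card L % 4 = 3 := by
    by_contra h
    have h4 : 4 ∣ Nat.card L - 1 := by
      obtain ⟨k, hk⟩ := odd_card_of_two htwo
      omega
    obtain ⟨c, hc⟩ := hs.square_scalar hfree hb0
    obtain ⟨d, rfl⟩ := hs.roots 2 Nat.prime_two (Or.inr h4) b0 hb0 c hc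
    exact hb0n (hs.scalar_of_pow hfree hb0 Nat.prime_two hc)
  have hns : ¬ IsSquare (-1 : L) := by
    rw [FiniteField.isSquare_neg_one_iff, ← Nat.card_eq_fintype_card]
    omega
  -- normalisation
  have hnorm : ∀ b ∈ B, (¬ ∃ c : L, ∀ w : W, b • w = c • w) →
      ∃ e : L, ∃ i ∈ B, (∀ w : W, i • i • w = -w) ∧ ∀ w : W, b • w = e • i • w := by
    intro b hb hn
    obtain ⟨c, hc⟩ := hs.square_scalar hfree hb
    have hc0 : c ≠ 0 := by
      rintro rfl
      obtain ⟨v, hv⟩ := exists_ne (0 : W)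
      exact hv ((smul_eq_zero_iff_eq (b ^ 2)).1 (by rw [hc, zero_smul]))
    obtain ⟨e, he⟩ : IsSquare (-c) := by
      by_cases hsq : IsSquare c
      · obtain ⟨d, rfl⟩ := hsq
        exact absurd (hs.scalar_of_pow hfree hb Nat.prime_two
          (fun w => by rw [hc, pow_two])) hn
      · rw [← quadraticChar_one_iff_isSquare (neg_ne_zero.2 hc0), neg_eq_neg_one_mul, map_mul,
          quadraticChar_neg_one_iff_not_isSquare.2 hns, quadraticChar_neg_one_iff_not_isSquare.2 hsq]
        norm_num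
    have he0 : e ≠ 0 := by
      rintro rfl
      rw [mul_zero, neg_eq_zero] at he
      exact hc0 he
    obtain ⟨z, hz, hzw⟩ := hs.scal e⁻¹ (inv_ne_zero he0)
    refine ⟨e, z * b, B.mul_mem hz hb, fun w => ?_, fun w => ?_⟩
    · rw [mul_smul, mul_smul, hzw, hzw, hs.lin b hb, ← mul_smul b b, ← pow_two, hc, ← mul_smul,
        ← mul_smul, show e⁻¹ * e⁻¹ * c = -1 by
          rw [show c = -(e * e) by rw [← he, neg_neg]]
          field_simp, neg_one_smul]
    · rw [mul_smul, hzw, ← mul_smul, mul_inv_cancel₀ he0, one_smul]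
  -- commuting elements
  have hcom : ∀ i ∈ B, (∀ w : W, i • i • w = -w) → ∀ b ∈ B, (∀ w : W, i • b • w = b • i • w) →
      ∃ c : L, (∀ w : W, b • w = c • w) ∨ ∀ w : W, b • w = c • i • w := by
    intro i hi hii b hb hcomm
    by_cases hn : ∃ c : L, ∀ w : W, b • w = c • w
    · obtain ⟨c, hc⟩ := hn
      exact ⟨c, Or.inl hc⟩
    obtain ⟨e, j, hj, hjj, hbj⟩ := hnorm b hb hn
    have he0 : e ≠ 0 := by
      rintro rfl
      obtain ⟨v, hv⟩ := exists_ne (0 : W)
      exact hv ((smul_eq_zero_iff_eq b).1 (by rw [hbj, zero_smul]))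
    have hij : ∀ w : W, i • j • w = j • i • w := fun w => by
      have h1 := hcomm w
      rw [hbj, hbj, hs.lin i hi] at h1
      exact ((IsUnit.mk0 e he0).smul_left_cancel).1 h1
    obtain ⟨c, hc⟩ := hs.scalar_of_pow (d := (1 : L)) hfree (B.mul_mem hi hj) Nat.prime_two fun w => by
      rw [pow_two, one_pow, one_smul, mul_smul, mul_smul, mul_smul, ← hij (j • w), hii, hjj, neg_neg]
    refine ⟨e * -c, Or.inr fun w => ?_⟩
    rw [hbj, mul_smul]
    congr 1
    have h1 := hc w
    rw [mul_smul] at h1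
    have h2 := congrArg (fun x => i • x) h1
    rw [hii, hs.lin i hi] at h2
    rw [neg_smul, ← h2, neg_neg]
  obtain ⟨e0, i, hi, hii, hbi⟩ := hnorm b0 hb0 hb0n
  have hin : ¬ ∃ c : L, ∀ w : W, i • w = c • w := fun ⟨c, hc⟩ =>
    hb0n ⟨e0 * c, fun w => by rw [hbi, hc, mul_smul]⟩
  have hsign : ∀ i ∈ B, (∀ w : W, i • i • w = -w) → ∀ b ∈ B, (∀ w : W, i • b • w = b • i • w) ∨
      ∀ w : W, i • b • w = -(b • i • w) := by
    intro i hi hii b hb
    obtain ⟨c, hc⟩ := hs.comm i hi b hb
    have h1 : c * c = 1 := by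
      refine (scalar_unique (W := W) fun w => ?_).symm
      obtain ⟨u, rfl⟩ : ∃ u, b • u = w := ⟨b⁻¹ • w, smul_inv_smul _ _⟩
      have h := congrArg (fun x => i • x) (hc u)
      rw [hii, hs.lin i hi, hc, hii, smul_neg] at h
      rw [one_smul, mul_smul]
      simpa using h
    rcases mul_self_eq_one_iff.1 h1 with rfl | rfl
    · exact Or.inl fun w => by rw [hc, one_smul]
    · exact Or.inr fun w => by rw [hc, neg_one_smul]
  obtain ⟨a, ha, han⟩ : ∃ a ∈ B, ¬ ∀ w : W, i • a • w = a • i • w := by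
    by_contra h
    push Not at h
    exact hin (hs.centre i hi h)
  have han' : ¬ ∃ c : L, ∀ w : W, a • w = c • w := fun ⟨c, hc⟩ => han fun w => by
    rw [hc, hc, hs.lin i hi]
  obtain ⟨e1, j, hj, hjj, haj⟩ := hnorm a ha han'
  have hjn : ¬ ∀ w : W, i • j • w = j • i • w := fun h => han fun w => by
    rw [haj, haj, hs.lin i hi, h]
  have hji : ∀ w : W, j • i • w = -(i • j • w) := fun w => by
    have h := (hsign i hi hii j hj).resolve_left hjn w
    rw [h, neg_neg]
  refine ⟨h43, i, hi, j, hj, hii, hjj, hji, fun b hb => ?_⟩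
  -- correct the commutation
  have hij : ∀ w : W, i • j • w = -(j • i • w) := fun w => by rw [hji, neg_neg]
  rcases hsign i hi hii b hb with h1 | h1
  · obtain ⟨c, hc | hc⟩ := hcom i hi hii b hb h1
    · exact ⟨c, Or.inl hc⟩
    · exact ⟨c, Or.inr (Or.inl hc)⟩
  · have hjb : ∀ w : W, i • (j * b) • w = (j * b) • i • w := fun w => by
      rw [mul_smul, mul_smul, hij, h1, smul_neg, neg_neg]
    obtain ⟨c, hc | hc⟩ := hcom i hi hii (j * b) (B.mul_mem hj hb) hjb
    · refine ⟨-c, Or.inr (Or.inr (Or.inl fun w => ?_))⟩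
      have h2 := congrArg (fun x => j • x) (hc w)
      rw [mul_smul, hjj, hs.lin j hj] at h2
      rw [neg_smul, ← h2, neg_neg]
    · refine ⟨c, Or.inr (Or.inr (Or.inr fun w => ?_))⟩
      have h2 := congrArg (fun x => j • x) (hc w)
      rw [mul_smul, hjj, hs.lin j hj, hji] at h2
      rw [← neg_inj, h2, smul_neg]

end Pre

/-- Bases when `B` acts freely in the primitive situation. -/
theorem base_of_free [Finite Γ] [Finite L] [Finite W] (ht : Top Γ L W B)
    (hfree : ∀ v : W, v ≠ 0 → Free B v) (hyp : Hyp.{u} (Nat.card W)) : Base Γ W := by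
  classical
  have hs := ht.setting
  haveI := hs.nontrivial
  haveI := ht.faithful
  haveI := Fintype.ofFinite L
  obtain ⟨h43, i, hi, j, hj, hii, hjj, hji, hB⟩ := hs.quaternion hfree ht.nonscalar
  have hij : ∀ w : W, i • j • w = -(j • i • w) := fun w => by rw [hji, neg_neg]
  have h2 := hs.two
  by_cases hq : Nat.card L = 3
  · -- the field with three elements: an invariant cyclic subgroup
    exfalso
    let q : Fin 3 → Γ := ![i, j, i * j]
    have hqB : ∀ t, q t ∈ B := by
      intro t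
      fin_cases t
      exacts [hi, hj, B.mul_mem hi hj]
    have hqn : ∀ t, ¬ ∃ c : L, ∀ w : W, q t • w = c • w := by
      rintro t ⟨c, hc⟩
      obtain ⟨v, hv⟩ := exists_ne (0 : W)
      have h0 : (2 : L) • v ≠ 0 := fun e => hv ((smul_eq_zero.1 e).resolve_left h2)
      fin_cases t
      · have h1 : ∀ w, i • w = c • w := hc
        have := hij v
        rw [h1, h1, hs.lin j hj] at this
        refine h0 ?_
        rw [two_smul]
        nth_rewrite 1 [← one_smul L v]
        have h3 : c • j • v + c • j • v = 0 := eq_neg_iff_add_eq_zero.1 this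
        have hc0 : c ≠ 0 := fun e => hv ((smul_eq_zero_iff_eq i).1 (by rw [h1, e, zero_smul]))
        rw [← smul_add, smul_eq_zero, or_iff_right hc0, ← smul_add, smul_eq_zero_iff_eq] at h3
        rw [one_smul]
        exact h3
      · have h1 : ∀ w, j • w = c • w := hc
        have := hji v
        rw [h1, h1, hs.lin i hi] at this
        refine h0 ?_
        rw [two_smul]
        have h3 : c • i • v + c • i • v = 0 := eq_neg_iff_add_eq_zero.1 this
        have hc0 : c ≠ 0 := fun e => hv ((smul_eq_zero_iff_eq j).1 (by rw [h1, e, zero_smul]))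
        rw [← smul_add, smul_eq_zero, or_iff_right hc0, ← smul_add, smul_eq_zero_iff_eq] at h3
        exact h3
      · have h1 : ∀ w : W, i • j • w = c • w := fun w => (mul_smul i j w).symm.trans (hc w)
        have hc0 : c ≠ 0 := fun e => hv (by
          have h' := h1 v
          rw [e, zero_smul, smul_eq_zero_iff_eq, smul_eq_zero_iff_eq] at h'
          exact h')
        have h3 : i • (i • j • v) = -((i • j • (i • v))) := by
          rw [hji v, smul_neg, neg_neg]
        rw [h1, h1, hs.lin i hi] at h3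
        have h4 : c • i • v + c • i • v = 0 := eq_neg_iff_add_eq_zero.1 h3
        rw [← smul_add, smul_eq_zero, or_iff_right hc0, ← smul_add, smul_eq_zero_iff_eq] at h4
        refine h0 ?_
        rw [two_smul]
        exact h4
    have a2 : ∀ w : W, i • (i * j) • w = -((i * j) • i • w) := fun w => by
      rw [mul_smul, mul_smul, hji, smul_neg, neg_neg]
    have a2' : ∀ w : W, (i * j) • i • w = -(i • (i * j) • w) := fun w => by rw [a2, neg_neg]
    have a3 : ∀ w : W, j • (i * j) • w = -((i * j) • j • w) := fun w => by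
      rw [mul_smul, mul_smul, hji]
    have a3' : ∀ w : W, (i * j) • j • w = -(j • (i * j) • w) := fun w => by rw [a3, neg_neg]
    have hanti : ∀ s t : Fin 3, s ≠ t → ∀ w : W, q s • q t • w = -(q t • q s • w) := by
      intro s t hne w
      fin_cases s <;> fin_cases t <;>
        first | exact absurd rfl hne | exact hij w | exact hji w | exact a2 w | exact a2' w |
          exact a3 w | exact a3' w
    have hcases : ∀ b ∈ B, (∃ c : L, ∀ w : W, b • w = c • w) ∨
        ∃ (c : L) (t : Fin 3), ∀ w : W, b • w = c • q t • w := by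
      intro b hb
      obtain ⟨c, h | h | h | h⟩ := hB b hb
      · exact Or.inl ⟨c, h⟩
      · exact Or.inr ⟨c, 0, h⟩
      · exact Or.inr ⟨c, 1, h⟩
      · exact Or.inr ⟨c, 2, fun w => by rw [h, show q 2 = i * j from rfl, mul_smul]⟩
    have huniq : ∀ (s t : Fin 3) (c d : L), c ≠ 0 → (∀ w : W, c • q s • w = d • q t • w) → s = t := by
      intro s t c d hc h
      by_contra hst
      have key := hanti
      obtain ⟨v, hv⟩ := exists_ne (0 : W)
      have h1 := congrArg (fun x => q s • x) (h v)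
      have h2' := h (q s • v)
      simp only [hs.lin (q s) (hqB s)] at h1
      rw [key s t hst, smul_neg, ← h2'] at h1
      have h3 : c • q s • q s • v + c • q s • q s • v = 0 := eq_neg_iff_add_eq_zero.1 h1
      rw [← smul_add, smul_eq_zero, or_iff_right hc, ← two_smul L, smul_eq_zero, or_iff_right h2] at h3
      exact hv ((smul_eq_zero_iff_eq _).1 ((smul_eq_zero_iff_eq _).1 h3))
    have hperm : ∀ (g : Γ) (t : Fin 3), ∃ s : Fin 3, ∃ c : L, c ≠ 0 ∧
        ∀ w : W, g • q t • g⁻¹ • w = c • q s • w := by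
      intro g t
      rcases hcases _ (hs.normal g _ (hqB t)) with ⟨c, hc⟩ | ⟨c, s, hc⟩
      · exfalso
        refine hqn t ?_
        obtain ⟨d, hd⟩ := hs.semi g⁻¹ c
        refine ⟨d, fun w => ?_⟩
        have h1 := hc (g • w)
        rw [mul_smul, mul_smul, inv_smul_smul] at h1
        rw [← inv_smul_smul g (q t • w), h1, hd, inv_smul_smul]
      · refine ⟨s, c, ?_, fun w => by rw [← hc, mul_smul, mul_smul]⟩
        rintro rfl
        obtain ⟨v, hv⟩ := exists_ne (0 : W)
        exact hv ((smul_eq_zero_iff_eq (g * q t * g⁻¹)).1 (by rw [hc, zero_smul]))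
    choose σ κ hκ hσ using hperm
    have hσeq : ∀ g t s (c : L), (∀ w : W, g • q t • g⁻¹ • w = c • q s • w) → σ g t = s :=
      fun g t s c h => huniq _ _ (κ g t) c (hκ g t) fun w => (hσ g t w).symm.trans (h w)
    have hmul : ∀ g h t, σ (g * h) t = σ g (σ h t) := by
      intro g h t
      obtain ⟨e, he⟩ := hs.semi g (κ h t)
      refine hσeq _ _ _ (e * κ g (σ h t)) fun w => ?_
      rw [mul_smul, mul_inv_rev, mul_smul, hσ, he, hσ, mul_smul]
    have hone : ∀ t, σ 1 t = t := fun t => hσeq 1 t t 1 fun w => by simp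
    let φ : Γ →* Equiv.Perm (Fin 3) := MonoidHom.mk'
      (fun g => ⟨σ g, σ g⁻¹, fun t => by rw [← hmul, inv_mul_cancel, hone],
        fun t => by rw [← hmul, mul_inv_cancel, hone]⟩)
      fun g h => Equiv.ext fun t => hmul g h t
    have hW3 : 3 ∣ Nat.card W := by
      obtain ⟨v, hv⟩ := exists_ne (0 : W)
      have h3 : ((3 : ℕ) : L) = 0 := by
        have := FiniteField.cast_card_eq_zero L
        rwa [← Nat.card_eq_fintype_card, hq] at this
      have h1 : addOrderOf v = 3 := addOrderOf_eq_prime (hp := ⟨Nat.prime_three⟩)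
        (by rw [← Nat.cast_smul_eq_nsmul L, h3, zero_smul]) hv
      exact h1 ▸ addOrderOf_dvd_natCard v
    have hΓ3 : ¬ 3 ∣ Nat.card Γ := fun h =>
      Nat.prime_three.not_dvd_one (hs.coprime ▸ Nat.dvd_gcd h hW3)
    have hr2 : Nat.card φ.range ≤ 2 := by
      have h1 : Nat.card φ.range ∣ 6 := by
        have := Subgroup.card_subgroup_dvd_card φ.range
        rwa [Nat.card_eq_fintype_card (α := Equiv.Perm (Fin 3)), Fintype.card_perm, Fintype.card_fin]
          at this
      have h3 : ¬ 3 ∣ Nat.card φ.range := fun h => hΓ3 (h.trans (Subgroup.card_range_dvd φ))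
      have := Nat.le_of_dvd (by norm_num) h1
      interval_cases hc : Nat.card φ.range <;> omega
    obtain ⟨t, ht'⟩ : ∃ t : Fin 3, ∀ g, σ g t = t := by
      have hdec : ∀ p : Equiv.Perm (Fin 3), p * p = 1 → ∃ t, p t = t := by decide
      by_cases htriv : ∀ g, φ g = 1
      · exact ⟨0, fun g => congrArg (fun p : Equiv.Perm (Fin 3) => p 0) (htriv g)⟩
      push Not at htriv
      obtain ⟨g0, hg0⟩ := htriv
      have hcase : ∀ g, φ g = 1 ∨ φ g = φ g0 := by
        intro g
        by_contra hc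
        push Not at hc
        have hsub : ({1, φ g0, φ g} : Finset (Equiv.Perm (Fin 3))).card ≤ Nat.card φ.range := by
          rw [← Nat.card_eq_finsetCard]
          exact Nat.card_le_card_of_injective
            (fun p => (⟨p.1, by
              have := p.2
              simp only [Finset.mem_insert, Finset.mem_singleton] at this
              rcases this with e | e | e <;> rw [e]
              exacts [one_mem _, ⟨g0, rfl⟩, ⟨g, rfl⟩]⟩ : φ.range))
            fun p p' e => Subtype.ext (congrArg (fun x : φ.range => (x : Equiv.Perm (Fin 3))) e)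
        rw [Finset.card_insert_of_notMem, Finset.card_pair hc.2.symm] at hsub
        · omega
        · simp [hg0.symm, hc.1.symm]
      have hg2 : φ g0 * φ g0 = 1 := by
        rcases hcase (g0 * g0) with e | e <;> rw [map_mul] at e
        · exact e
        · exact absurd (mul_eq_left.1 e) hg0
      obtain ⟨t, ht'⟩ := hdec _ hg2
      exact ⟨t, fun g => (hcase g).elim (fun e => congrArg (fun p : Equiv.Perm (Fin 3) => p t) e)
        fun e => (congrArg (fun p : Equiv.Perm (Fin 3) => p t) e).trans ht'⟩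
    let Y : Subgroup Γ :=
      { carrier := {g | g ∈ B ∧ ∀ w : W, g • q t • w = q t • g • w}
        one_mem' := ⟨B.one_mem, fun w => by rw [one_smul, one_smul]⟩
        mul_mem' := fun {a b} ha hb => ⟨B.mul_mem ha.1 hb.1, fun w => by
          rw [mul_smul, hb.2, ha.2, mul_smul]⟩
        inv_mem' := fun {a} ha => ⟨B.inv_mem ha.1, fun w => by
          rw [inv_smul_eq_iff, ha.2, smul_inv_smul]⟩ }
    have hform : ∀ a ∈ Y, ∃ c : L, (∀ w : W, a • w = c • w) ∨ ∀ w : W, a • w = c • q t • w := by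
      rintro a ⟨haB, ha⟩
      rcases hcases a haB with ⟨c, h⟩ | ⟨c, s, h⟩
      · exact ⟨c, Or.inl h⟩
      · by_cases hst : s = t
        · exact ⟨c, Or.inr (hst ▸ h)⟩
        exfalso
        obtain ⟨v, hv⟩ := exists_ne (0 : W)
        have key := hanti s t hst
        have hc0 : c ≠ 0 := fun e => hv ((smul_eq_zero_iff_eq a).1 (by rw [h, e, zero_smul]))
        have h1 := ha v
        rw [h, h, hs.lin (q t) (hqB t), key, smul_neg] at h1
        have h3 : c • q t • q s • v + c • q t • q s • v = 0 := eq_neg_iff_add_eq_zero.1 h1.symm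
        rw [← smul_add, smul_eq_zero, or_iff_right hc0, ← two_smul L, smul_eq_zero,
          or_iff_right h2] at h3
        exact hv ((smul_eq_zero_iff_eq _).1 ((smul_eq_zero_iff_eq _).1 h3))
    refine hqn t (ht.max Y (fun a ha => ha.1) (fun a ha b hb => ?_) (fun g a ha => ?_) (q t)
      ⟨hqB t, fun w => rfl⟩)
    · refine FaithfulSMul.eq_of_smul_eq_smul (α := W) fun w => ?_
      rw [mul_smul, mul_smul]
      obtain ⟨c, hc | hc⟩ := hform a ha
      · rw [hc, hc, hs.lin b hb.1]
      · rw [hc, hc, ← hb.2, hs.lin b hb.1]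
    · refine ⟨hs.normal g a ha.1, fun w => ?_⟩
      have h1 : ∀ x : W, g • q t • g⁻¹ • x = κ g t • q t • x := fun x => by
        have := hσ g t x
        rwa [ht' g] at this
      have h2' : ∀ x : W, q t • g⁻¹ • x = g⁻¹ • κ g t • q t • x := fun x => by
        rw [← h1, inv_smul_smul]
      have hk := hκ g t
      have h4 : ∀ x : W, q t • x = (κ g t)⁻¹ • g • q t • g⁻¹ • x := fun x => by
        rw [h1, ← mul_smul, inv_mul_cancel₀ hk, one_smul]
      have hlin : (g * a * g⁻¹) • (κ g t)⁻¹ • (g • q t • g⁻¹ • w) =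
          (κ g t)⁻¹ • (g * a * g⁻¹) • (g • q t • g⁻¹ • w) :=
        hs.lin _ (hs.normal g a ha.1) _ _
      rw [h4, hlin, h4 ((g * a * g⁻¹) • w)]
      congr 1
      simp only [mul_smul, inv_smul_smul]
      rw [ha.2]
  have hq5 : 5 < Nat.card L := by
    obtain ⟨k, hk⟩ := hs.odd_card
    have : 1 < Nat.card L := Finite.one_lt_card
    omega
  obtain ⟨Y, Z, hYZ, hY1, hZ1⟩ := exists_circle h43 hq5
  let u : W → W := fun w => Y • j • w + Z • i • j • w
  have hadd : ∀ v w : W, u (v + w) = u v + u w := fun v w => by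
    simp only [u, smul_add]; abel
  have hlinu : ∀ (c : L) (w : W), u (c • w) = c • u w := fun c w => by
    simp only [u, hs.lin j hj, hs.lin i hi, smul_add, smul_comm c]
  have hiu : ∀ w : W, i • u w = -u (i • w) := fun w => by
    simp only [u, smul_add, hs.lin i hi, hii, hji, smul_neg, neg_add_rev, neg_neg]
    abel
  have hju : ∀ w : W, j • u w = -(Y • w) + Z • i • w := fun w => by
    simp only [u, smul_add, hs.lin j hj, hjj, hji, smul_neg, neg_neg]
  have huu : ∀ w : W, u (u w) = w := fun w => by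
    have e1 : u (u w) = Y • j • u w + Z • i • j • u w := rfl
    rw [e1, hju, smul_add i, smul_neg i, hs.lin i hi, hs.lin i hi, hii]
    generalize i • w = a
    match_scalars
    · linear_combination -hYZ
    · ring
  let W0 : AddSubgroup W :=
    { carrier := {w | u w = w}
      zero_mem' := by simp [u]
      add_mem' := fun {v w} (hv : u v = v) (hw : u w = w) => show u (v + w) = v + w by
        rw [hadd, hv, hw]
      neg_mem' := fun {v} (hv : u v = v) => show u (-v) = -v by
        rw [← neg_one_smul L v, hlinu, hv] }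
  have hW0 : ∀ {w}, w ∈ W0 ↔ u w = w := Iff.rfl
  have hsplit : ∀ w : W, ∃ a ∈ W0, ∃ c ∈ W0, w = a + i • c := by
    intro w
    refine ⟨(2 : L)⁻¹ • (w + u w), ?_, -(i • ((2 : L)⁻¹ • (w - u w))), ?_, ?_⟩
    · rw [hW0, hlinu, hadd, huu, add_comm]
    · have hneg : ∀ v, u (-v) = -u v := fun v => by rw [← neg_one_smul L v, hlinu, neg_one_smul]
      have hx : u ((2 : L)⁻¹ • (w - u w)) = -((2 : L)⁻¹ • (w - u w)) := by
        rw [hlinu, sub_eq_add_neg, hadd, hneg, huu, ← smul_neg, neg_add_rev, neg_neg]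
      rw [hW0, hneg, neg_inj]
      exact neg_inj.1 ((hiu _).symm.trans (by rw [hx, smul_neg]))
    · rw [smul_neg, hii, neg_neg, ← smul_add, add_add_sub_cancel, ← two_smul L, ← mul_smul,
        inv_mul_cancel₀ h2, one_smul]
  have hdis : ∀ w ∈ W0, i • w ∈ W0 → w = 0 := by
    intro w hw hiw
    have h := hiu w
    rw [hW0.1 hw, hW0.1 hiw, eq_neg_iff_add_eq_zero, ← two_smul L] at h
    exact (smul_eq_zero_iff_eq i).1 ((smul_eq_zero.1 h).resolve_left h2)
  have hlt : Nat.card W0 < Nat.card W := by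
    refine lt_of_le_of_ne (Nat.card_le_card_of_injective _ Subtype.val_injective) fun e => ?_
    obtain ⟨v, hv⟩ := exists_ne (0 : W)
    have htop := W0.eq_top_of_card_eq e
    exact hv (hdis v (htop ▸ AddSubgroup.mem_top v) (htop ▸ AddSubgroup.mem_top _))
  haveI : Nontrivial W0 := by
    by_contra hn
    rw [not_nontrivial_iff_subsingleton] at hn
    obtain ⟨v, hv⟩ := exists_ne (0 : W)
    obtain ⟨a, ha, c, hc, e⟩ := hsplit v
    rw [show a = 0 from congrArg Subtype.val (hn.elim ⟨a, ha⟩ 0),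
      show c = 0 from congrArg Subtype.val (hn.elim ⟨c, hc⟩ 0), smul_zero, add_zero] at e
    exact hv e
  let H : Subgroup Γ :=
    { carrier := {g | ∀ w, g • w ∈ W0 ↔ w ∈ W0}
      one_mem' := fun w => by rw [one_smul]
      mul_mem' := fun {g h} hg hh w => by rw [mul_smul, hg, hh]
      inv_mem' := fun {g} hg w => by rw [← hg, smul_inv_smul] }
  letI := CfsgLib.OddBase.actOn (A := ↥H) W0 fun g w hw => (g.2 w).2 hw
  haveI := hs.solvable
  obtain ⟨⟨p1, p2⟩, hp⟩ := hyp ↥H ↥W0 hlt inferInstance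
    ((hs.coprime.coprime_dvd_left H.card_subgroup_dvd_card).coprime_dvd_right
      (AddSubgroup.card_addSubgroup_dvd_card W0)) (sqFree_module (L := L) |>.addSubgroup W0)
  obtain ⟨⟨r1, hr1m⟩, ⟨r2, hr2m⟩, hr1, hgood⟩ : ∃ r1 r2 : W0, r1 ≠ 0 ∧ Good ↥H ↥W0 (r1, r2) := by
    by_cases hp1 : p1 = 0
    · by_cases hp2 : p2 = 0
      · obtain ⟨z, hz⟩ := exists_ne (0 : W0)
        subst hp1 hp2
        exact ⟨z, 0, hz, fun a _ _ => hp a (smul_zero a) (smul_zero a)⟩
      · exact ⟨p2, p1, hp2, hp.swap⟩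
    · exact ⟨p1, p2, hp1, hp⟩
  have hr1' : r1 ≠ 0 := fun e => hr1 (Subtype.ext e)
  -- the action of `B` on the fixed space
  have hju0 : ∀ w ∈ W0, j • w = -(Y • w) + Z • i • w := fun w hw => by
    conv_lhs => rw [← hW0.1 hw]
    exact hju w
  have hij0 : ∀ w ∈ W0, i • j • w = -(Z • w) + -(Y • i • w) := fun w hw => by
    rw [hju0 w hw, smul_add, smul_neg, hs.lin i hi, hs.lin i hi, hii, smul_neg, add_comm]
  have hBW0 : ∀ b ∈ B, ∃ α β : L, ∀ w ∈ W0, b • w = α • w + β • i • w := by
    intro b hb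
    obtain ⟨c, h | h | h | h⟩ := hB b hb
    · exact ⟨c, 0, fun w _ => by rw [h, zero_smul, add_zero]⟩
    · exact ⟨0, c, fun w _ => by rw [h, zero_smul, zero_add]⟩
    · exact ⟨-(c * Y), c * Z, fun w hw => by
        rw [h, hju0 w hw, smul_add, smul_neg, neg_smul, mul_smul, mul_smul]⟩
    · exact ⟨-(c * Z), -(c * Y), fun w hw => by
        rw [h, hij0 w hw, smul_add, smul_neg, smul_neg, neg_smul, neg_smul, mul_smul, mul_smul]⟩
  have hcoef : ∀ α β α' β' : L, α • r1 + β • i • r1 = α' • r1 + β' • i • r1 → α = α' ∧ β = β' := by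
    intro α β α' β' h
    have h' : (α - α') • r1 + (β - β') • i • r1 = 0 := by
      rw [sub_smul, sub_smul, sub_add_sub_comm, sub_eq_zero]
      exact h
    have h1 := congrArg u h'
    rw [hadd, hlinu, hlinu, hW0.1 hr1m] at h1
    have h3 := hiu r1
    rw [hW0.1 hr1m, eq_neg_iff_add_eq_zero, add_comm, ← eq_neg_iff_add_eq_zero] at h3
    rw [h3, show u 0 = 0 by simp [u], smul_neg, ← sub_eq_add_neg, sub_eq_zero] at h1
    rw [h1, ← two_smul L, smul_eq_zero, or_iff_right h2, smul_eq_zero,
      or_iff_left (fun e => hr1' ((smul_eq_zero_iff_eq i).1 e))] at h'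
    rw [h', zero_smul, smul_eq_zero, or_iff_left hr1'] at h1
    exact ⟨sub_eq_zero.1 h1, sub_eq_zero.1 h'⟩
  refine ⟨(r1, r2 + i • r1), fun g hg1 hg2 => ?_⟩
  change g • r1 = r1 at hg1
  change g • (r2 + i • r1) = r2 + i • r1 at hg2
  -- the conjugated element fixes the fixed space
  have hconj : ∀ g : Γ, g • r1 = r1 → ∀ w ∈ W0, g⁻¹ • w ∈ W0 := by
    intro g hg w hw
    obtain ⟨eY, heY⟩ := hs.semi g Y
    obtain ⟨eZ, heZ⟩ := hs.semi g Z
    obtain ⟨α1, β1, h1⟩ := hBW0 _ (hs.normal g j hj)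
    obtain ⟨α2, β2, h2'⟩ := hBW0 _ (hs.normal g (i * j) (B.mul_mem hi hj))
    have hF : ∀ x ∈ W0, g • u (g⁻¹ • x) =
        (eY * α1 + eZ * α2) • x + (eY * β1 + eZ * β2) • i • x := by
      intro x hx
      simp only [u, smul_add, heY, heZ]
      rw [show g • j • g⁻¹ • x = α1 • x + β1 • i • x by rw [← h1 x hx, mul_smul, mul_smul],
        show g • i • j • g⁻¹ • x = α2 • x + β2 • i • x by
          rw [← h2' x hx, mul_smul, mul_smul, mul_smul]]
      simp only [smul_add, ← mul_smul, add_smul]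
      abel
    have hr : g • u (g⁻¹ • r1) = r1 := by rw [inv_smul_eq_iff.2 hg.symm, hW0.1 hr1m, hg]
    rw [hF r1 hr1m] at hr
    obtain ⟨ha, hb'⟩ := hcoef _ _ 1 0 (hr.trans (by rw [one_smul, zero_smul, add_zero]))
    have hw' := hF w hw
    rw [ha, hb', one_smul, zero_smul, add_zero] at hw'
    rw [hW0]
    exact eq_inv_smul_iff.2 hw'
  have hgH : g ∈ H := fun w => ⟨fun h => by
      have := hconj g hg1 _ h
      rwa [inv_smul_smul] at this, fun h => by
      have := hconj g⁻¹ (inv_smul_eq_iff.2 hg1.symm) w h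
      rwa [inv_inv] at this⟩
  have hg' : ∀ w ∈ W0, g • w ∈ W0 := fun w hw => (hgH w).2 hw
  -- the image of `i`
  obtain ⟨c, hc⟩ := hB _ (hs.normal g i hi)
  have hsq : ∀ w : W, (g * i * g⁻¹) • (g * i * g⁻¹) • w = -w := fun w => by
    simp only [mul_smul, inv_smul_smul, hii, smul_neg, smul_inv_smul]
  have hir : (g * i * g⁻¹) • r1 = g • i • r1 := by
    rw [mul_smul, mul_smul, inv_smul_eq_iff.2 hg1.symm]
  have hsum : g • r2 + g • i • r1 = r2 + i • r1 := by rw [← smul_add]; exact hg2
  have hbeta : ∀ α β : L, g • i • r1 = α • r1 + β • i • r1 → β = 1 := by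
    intro α β hab
    rw [hab] at hsum
    have hmem : (β - 1) • i • r1 = r2 - g • r2 - α • r1 := by
      rw [sub_smul, one_smul]
      linear_combination (norm := abel) hsum
    have h1 : (β - 1) • i • r1 ∈ W0 := by
      rw [hmem]
      exact W0.sub_mem (W0.sub_mem hr2m (hg' r2 hr2m)) (by rw [hW0, hlinu, hW0.1 hr1m])
    rw [← hs.lin i hi] at h1
    have h3 := hdis _ (by rw [hW0, hlinu, hW0.1 hr1m]) h1
    exact sub_eq_zero.1 ((smul_eq_zero.1 h3).resolve_right hr1')
  obtain ⟨v, hv⟩ := exists_ne (0 : W)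
  have hcc : ∀ x : W, x ≠ 0 → (c * c) • x = -x → False := fun x hx h => by
    have h1 : (c * c + 1) • x = 0 := by rw [add_smul, one_smul, h, neg_add_cancel]
    have hns : ¬ IsSquare (-1 : L) := by
      rw [FiniteField.isSquare_neg_one_iff, ← Nat.card_eq_fintype_card]
      omega
    exact hns ⟨c, by linear_combination -((smul_eq_zero.1 h1).resolve_right hx)⟩
  have hc2 : ∀ x : W, x ≠ 0 → (c * c) • x = x → c = 1 ∨ c = -1 := fun x hx h => by
    have h1 : (c * c - 1) • x = 0 := by rw [sub_smul, one_smul, h, sub_self]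
    exact mul_self_eq_one_iff.1 (sub_eq_zero.1 ((smul_eq_zero.1 h1).resolve_right hx))
  have hgi : ∀ w : W, (g * i * g⁻¹) • w = i • w := by
    rcases hc with h | h | h | h
    · exfalso
      refine hcc v hv ?_
      have := hsq v
      rw [h, h, ← mul_smul] at this
      exact this
    · have h1 : (c * c) • (i • i • v) = -v := by
        have := hsq v
        rwa [h, h, hs.lin i hi, ← mul_smul] at this
      rw [hii, smul_neg, neg_inj] at h1
      have hb := hbeta 0 c (by rw [← hir, h, zero_smul, zero_add])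
      exact fun w => by rw [h, hb, one_smul]
    · exfalso
      have h1 : (c * c) • (j • j • v) = -v := by
        have := hsq v
        rwa [h, h, hs.lin j hj, ← mul_smul] at this
      rw [hjj, smul_neg, neg_inj] at h1
      have hb := hbeta (-(c * Y)) (c * Z) (by
        rw [← hir, h, hju0 r1 hr1m, smul_add, smul_neg, neg_smul, mul_smul, mul_smul])
      rcases hc2 v hv h1 with rfl | rfl
      · exact hZ1 (by rw [one_mul] at hb; rw [hb, one_pow])
      · exact hZ1 (by linear_combination (Z - 1) * hb * (-1))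
    · exfalso
      have h1 : (c * c) • (i • j • i • j • v) = -v := by
        have := hsq v
        rwa [h, h, hs.lin j hj, hs.lin i hi, ← mul_smul] at this
      rw [hji, smul_neg, hii, neg_neg, hjj, smul_neg, neg_inj] at h1
      have hb := hbeta (-(c * Z)) (-(c * Y)) (by
        rw [← hir, h, hij0 r1 hr1m, smul_add, smul_neg, smul_neg, neg_smul, neg_smul, mul_smul,
          mul_smul])
      rcases hc2 v hv h1 with rfl | rfl
      · exact hY1 (by linear_combination (1 - Y) * hb)
      · exact hY1 (by linear_combination (Y + 1) * hb)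
  have hgr2 : g • r2 = r2 := by
    rw [show g • i • r1 = i • r1 by rw [← hir, hgi]] at hsum
    exact add_right_cancel hsum
  have htriv : ∀ w ∈ W0, g • w = w := fun w hw => congrArg Subtype.val
    (hgood ⟨g, hgH⟩ (Subtype.ext hg1) (Subtype.ext hgr2) ⟨w, hw⟩)
  intro w
  obtain ⟨a, ha, c', hc', rfl⟩ := hsplit w
  rw [smul_add, htriv a ha]
  congr 1
  have := hgi c'
  rwa [mul_smul, mul_smul, inv_smul_eq_iff.2 (htriv c' hc').symm] at this

end CfsgLib.CoprimeBase
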