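import Cfsg.Agent.Lib.CoprimeBase.Defs
import Cfsg.Agent.Lib.Solvable.CoprimeAction
import Mathlib.GroupTheory.SemidirectProduct
import Mathlib.GroupTheory.Frattini
import Cfsg.Agent.Lib.PGroup.Basic
import Mathlib.GroupTheory.Sylow

/-!
A solvable group acting coprimely on a group has the same fixed point counts as on a suitable abelian
group of squarefree exponent.
-/

set_option autoImplicit false
set_option linter.unusedSectionVars false

open scoped Pointwise commutatorElement

namespace CfsgLib.CoprimeBase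

open CfsgLib.OddBase

universe u v

variable {A : Type u} {K : Type v} [Group A] [Group K] [MulDistribMulAction A K]

/-- The fixed subgroup. -/
def fixPts (A : Type u) (K : Type v) [Group A] [Group K] [MulDistribMulAction A K] : Subgroup K where
  carrier := {k | ∀ a : A, a • k = k}
  one_mem' := fun a => smul_one a
  mul_mem' := fun {x y} hx hy a => by rw [smul_mul', hx a, hy a]
  inv_mem' := fun {x} hx a => by rw [smul_inv', hx a]

theorem mem_fixPts {k : K} : k ∈ fixPts A K ↔ ∀ a : A, a • k = k := Iff.rfl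

/-- The action on an invariant subgroup. -/
@[reducible] def subAct (N : Subgroup K) (hN : ∀ a : A, ∀ x ∈ N, a • x ∈ N) : MulDistribMulAction A ↥N where
  smul a x := ⟨a • (x : K), hN a x x.2⟩
  one_smul x := Subtype.ext (one_smul A (x : K))
  mul_smul a b x := Subtype.ext (mul_smul a b (x : K))
  smul_mul a x y := Subtype.ext (smul_mul' a (x : K) (y : K))
  smul_one a := Subtype.ext (smul_one a)

/-- The action on an invariant quotient. -/
@[reducible] def quotAct (N : Subgroup K) [N.Normal] (hN : ∀ a : A, ∀ x ∈ N, a • x ∈ N) :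
    MulDistribMulAction A (K ⧸ N) where
  smul a := QuotientGroup.map N N (MulDistribMulAction.toMonoidHom K a) (fun x hx => hN a x hx)
  one_smul x := by
    obtain ⟨k, rfl⟩ := QuotientGroup.mk_surjective x
    exact congrArg _ (one_smul A k)
  mul_smul a b x := by
    obtain ⟨k, rfl⟩ := QuotientGroup.mk_surjective x
    exact congrArg _ (mul_smul a b k)
  smul_mul a x y := map_mul _ x y
  smul_one a := map_one _

section Semidirect

variable [Finite A] [Finite K]

/-- The semidirect product of the action. -/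
abbrev Semi (A : Type u) (K : Type v) [Group A] [Group K] [MulDistribMulAction A K] :=
  K ⋊[MulDistribMulAction.toMulAut A K] A

theorem semi_conj (a : A) (k : K) :
    (SemidirectProduct.inr a : Semi A K) * SemidirectProduct.inl k * (SemidirectProduct.inr a)⁻¹ =
      SemidirectProduct.inl (a • k) := by
  rw [← map_inv]
  exact (SemidirectProduct.inl_aut (φ := MulDistribMulAction.toMulAut A K) a k).symm

instance finite_semi : Finite (Semi A K) := Finite.of_equiv _ SemidirectProduct.equivProd.symm

theorem semi_normalizer (N : Subgroup K) (hN : ∀ a : A, ∀ x ∈ N, a • x ∈ N) :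
    (SemidirectProduct.inr : A →* Semi A K).range ≤
      Subgroup.normalizer ((N.map (SemidirectProduct.inl : K →* Semi A K) : Subgroup (Semi A K)) :
        Set (Semi A K)) := by
  refine CfsgLib.Solvable.le_normalizer_of_conj_mem ?_
  rintro _ ⟨a, rfl⟩ _ ⟨x, hx, rfl⟩
  exact ⟨a • x, hN a x hx, (semi_conj a x).symm⟩

theorem semi_coprime (hcop : (Nat.card A).Coprime (Nat.card K)) (N : Subgroup K) :
    (Nat.card ↥(SemidirectProduct.inr : A →* Semi A K).range).Coprime
      (Nat.card ↥(N.map (SemidirectProduct.inl : K →* Semi A K))) := by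
  rw [← Nat.card_congr (MonoidHom.ofInjective (f := (SemidirectProduct.inr : A →* Semi A K))
    SemidirectProduct.inr_injective).toEquiv, Subgroup.card_map_of_injective SemidirectProduct.inl_injective]
  exact hcop.coprime_dvd_right N.card_subgroup_dvd_card

theorem semi_solvable [Group.IsSolvable A] :
    Group.IsSolvable ↥(SemidirectProduct.inr : A →* Semi A K).range :=
  Group.isSolvable_of_surjective (f := (SemidirectProduct.inr : A →* Semi A K).rangeRestrict)
    (MonoidHom.rangeRestrict_surjective _)

theorem semi_centralizer (x : K) :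
    (SemidirectProduct.inl x : Semi A K) ∈
      Subgroup.centralizer ((SemidirectProduct.inr : A →* Semi A K).range : Set (Semi A K)) ↔
    ∀ a : A, a • x = x := by
  constructor
  · intro h a
    apply SemidirectProduct.inl_injective (φ := MulDistribMulAction.toMulAut A K)
    rw [← semi_conj, Subgroup.mem_centralizer_iff.1 h _ ⟨a, rfl⟩, mul_inv_cancel_right]
  · intro h
    rw [Subgroup.mem_centralizer_iff]
    rintro _ ⟨a, rfl⟩
    calc (SemidirectProduct.inr a : Semi A K) * SemidirectProduct.inl x
        = SemidirectProduct.inr a * SemidirectProduct.inl x * (SemidirectProduct.inr a)⁻¹ *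
          SemidirectProduct.inr a := by group
      _ = SemidirectProduct.inl x * SemidirectProduct.inr a := by rw [semi_conj, h a]

/-- A fixed coset contains a fixed element. -/
theorem exists_fixed_mul [Group.IsSolvable A] (hcop : (Nat.card A).Coprime (Nat.card K))
    (N : Subgroup K) (hN : ∀ a : A, ∀ x ∈ N, a • x ∈ N) (k : K)
    (hk : ∀ a : A, (a • k) * k⁻¹ ∈ N) : ∃ n ∈ N, ∀ a : A, a • (n * k) = n * k := by
  obtain ⟨_, ⟨n, hn, rfl⟩, hc⟩ := CfsgLib.Solvable.exists_mul_mem_centralizer
    (SemidirectProduct.inr : A →* Semi A K).range (N.map (SemidirectProduct.inl : K →* Semi A K))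
    (semi_normalizer N hN) (semi_coprime hcop N) (Or.inl semi_solvable) (SemidirectProduct.inl k) (by
      rintro _ ⟨a, rfl⟩
      refine ⟨(a • k) * k⁻¹, hk a, ?_⟩
      rw [map_mul, ← semi_conj, map_inv, commutatorElement_def])
  rw [← map_mul, semi_centralizer] at hc
  exact ⟨n, hn, hc⟩

theorem exists_invariant_sylow' [Group.IsSolvable A] (hcop : (Nat.card A).Coprime (Nat.card K))
    (p : ℕ) [Fact p.Prime] : ∃ P : Sylow p K, ∀ a : A, ∀ x ∈ (P : Subgroup K), a • x ∈ (P : Subgroup K) := by
  set T := ((⊤ : Subgroup K).map (SemidirectProduct.inl : K →* Semi A K)) with hT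
  obtain ⟨P, hP⟩ := CfsgLib.Solvable.exists_invariant_sylow
    (SemidirectProduct.inr : A →* Semi A K).range T (semi_normalizer ⊤ fun _ _ _ => Subgroup.mem_top _)
    (semi_coprime hcop ⊤) (Or.inl semi_solvable) p
  set P' := ((P : Subgroup T).map T.subtype).comap (SemidirectProduct.inl : K →* Semi A K) with hP'
  have hc : Nat.card P' = p ^ (Nat.card K).factorization p := by
    have h1 : P'.map (SemidirectProduct.inl : K →* Semi A K) = (P : Subgroup T).map T.subtype := by
      rw [hP', Subgroup.map_comap_eq, inf_eq_right]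
      rintro _ ⟨x, -, rfl⟩
      obtain ⟨k, -, hk⟩ := x.2
      exact ⟨k, hk⟩
    have h2 := congrArg (fun H : Subgroup (Semi A K) => Nat.card H) h1
    simp only [Subgroup.card_map_of_injective SemidirectProduct.inl_injective,
      CfsgLib.Solvable.card_sylow_map] at h2
    rw [h2, P.card_eq_multiplicity, hT,
      Subgroup.card_map_of_injective SemidirectProduct.inl_injective, Subgroup.card_top]
  refine ⟨Sylow.ofCard P' hc, fun a x hx => ?_⟩
  show SemidirectProduct.inl (a • x) ∈ (P : Subgroup T).map T.subtype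
  rw [← semi_conj]
  exact (Subgroup.mem_normalizer_iff.1 (hP ⟨a, rfl⟩) _).1 hx

/-- The fixed points in an invariant Sylow subgroup form a Sylow subgroup of the fixed points. -/
theorem card_fix_sylow [Group.IsSolvable A] (hcop : (Nat.card A).Coprime (Nat.card K))
    (p : ℕ) [hp : Fact p.Prime] (P : Sylow p K)
    (hP : ∀ a : A, ∀ x ∈ (P : Subgroup K), a • x ∈ (P : Subgroup K)) :
    Nat.card ↥((P : Subgroup K) ⊓ fixPts A K) = p ^ (Nat.card ↥(fixPts A K)).factorization p := by
  set F := fixPts A K with hF
  have hPF : IsPGroup p ↥((P : Subgroup K) ⊓ F) := P.2.to_le inf_le_left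
  obtain ⟨i, hi⟩ := hPF.exists_card_eq
  obtain ⟨R⟩ : Nonempty (Sylow p ↥F) := inferInstance
  have hR := R.card_eq_multiplicity
  refine Nat.dvd_antisymm ?_ ?_
  · rw [hi]
    have h1 : Nat.card ↥((P : Subgroup K) ⊓ F) ∣ Nat.card ↥F := Subgroup.card_dvd_of_le inf_le_right
    rw [hi] at h1
    exact Nat.pow_dvd_pow p ((Nat.Prime.pow_dvd_iff_le_factorization hp.out Nat.card_pos.ne').1 h1)
  set T := ((⊤ : Subgroup K).map (SemidirectProduct.inl : K →* Semi A K)) with hT
  set A' := (SemidirectProduct.inr : A →* Semi A K).range with hA'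
  have hAT : A' ≤ Subgroup.normalizer (T : Set (Semi A K)) :=
    semi_normalizer ⊤ fun _ _ _ => Subgroup.mem_top _
  have hcT := semi_coprime (A := A) hcop ⊤
  set U := ((R : Subgroup ↥F).map F.subtype) with hU
  obtain ⟨Q, hUQ, hQ⟩ := CfsgLib.Solvable.exists_invariant_sylow_ge hAT hcT (Or.inl semi_solvable) p
    (U := U.map (SemidirectProduct.inl : K →* Semi A K)) (Subgroup.map_mono le_top)
    ((R.2.map _).map _) (semi_normalizer U fun a x hx => by
      obtain ⟨y, hy, rfl⟩ := hx
      rw [Subgroup.coe_subtype, y.2 a]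
      exact ⟨y, hy, rfl⟩)
  obtain ⟨P₁, hP₁⟩ : ∃ P₁ : Sylow p ↥T,
      (P₁ : Subgroup T).map T.subtype = (P : Subgroup K).map (SemidirectProduct.inl : K →* Semi A K) := by
    refine CfsgLib.Solvable.exists_sylow_map_eq (Subgroup.map_mono le_top) Q ?_
    rw [Subgroup.card_map_of_injective SemidirectProduct.inl_injective, P.card_eq_multiplicity,
      Q.card_eq_multiplicity, hT, Subgroup.card_map_of_injective SemidirectProduct.inl_injective,
      Subgroup.card_top]
  obtain ⟨c, ⟨⟨k, -, rfl⟩, hck⟩, hconj⟩ := CfsgLib.Solvable.exists_centralizer_conj_sylow A' T hAT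
    hcT (Or.inl semi_solvable) P₁ Q (by rw [hP₁]; exact semi_normalizer _ hP) hQ
  replace hck := (semi_centralizer k).1 hck
  rw [hP₁] at hconj
  have hle : U.map (MulAut.conj k⁻¹).toMonoidHom ≤ (P : Subgroup K) ⊓ F := by
    rintro _ ⟨u, hu, rfl⟩
    have hu' : (SemidirectProduct.inl u : Semi A K) ∈
        MulAut.conj (SemidirectProduct.inl k : Semi A K) •
          (P : Subgroup K).map (SemidirectProduct.inl : K →* Semi A K) := by
      rw [hconj]; exact hUQ ⟨u, hu, rfl⟩
    rw [CfsgLib.Solvable.mem_conj_smul_iff] at hu'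
    obtain ⟨y, hy, hye⟩ := hu'
    have hyk : y = k⁻¹ * u * k := by
      apply SemidirectProduct.inl_injective (φ := MulDistribMulAction.toMulAut A K)
      rw [hye, map_mul, map_mul, map_inv]
    obtain ⟨w, hw, rfl⟩ := hu
    simp only [MulEquiv.coe_toMonoidHom, MulAut.conj_apply, inv_inv, Subgroup.coe_subtype] at hyk ⊢
    refine ⟨hyk ▸ hy, F.mul_mem (F.mul_mem (F.inv_mem hck) w.2) hck⟩
  have h2 := Subgroup.card_dvd_of_le hle
  rwa [Subgroup.card_map_of_injective (MulEquiv.injective _), hU,
    Subgroup.card_map_of_injective F.subtype_injective, hR] at h2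

end Semidirect

section Model

/-- An abelian group of squarefree exponent with the fixed point counts of `K`. -/
def HasModel (A : Type u) (K : Type v) [Group A] [Group K] [MulDistribMulAction A K] : Prop :=
  ∃ (V : Type v) (_ : AddCommGroup V) (_ : Finite V) (_ : DistribMulAction A V),
    SqFree V ∧ Nat.card V = Nat.card K ∧
      ∀ B : Subgroup A, Nat.card {v : V // ∀ b ∈ B, b • v = v} = Nat.card ↥(fixPts ↥B K)

variable [Finite A]

theorem fixPts_quot [Finite K] [Group.IsSolvable A] (hcop : (Nat.card A).Coprime (Nat.card K))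
    (N : Subgroup K) [N.Normal] (hN : ∀ a : A, ∀ x ∈ N, a • x ∈ N) :
    Nat.card ↥(fixPts A K) =
      Nat.card ↥((subAct N hN : MulDistribMulAction A ↥N) |> fun i => @fixPts A ↥N _ _ i) *
        Nat.card ↥((quotAct N hN : MulDistribMulAction A (K ⧸ N)) |> fun i => @fixPts A (K ⧸ N) _ _ i) := by
  letI := subAct N hN
  letI := quotAct N hN
  let f : ↥(fixPts A K) →* ↥(fixPts A (K ⧸ N)) :=
    ((QuotientGroup.mk' N).comp (fixPts A K).subtype).codRestrict _ fun x a =>
      congrArg (QuotientGroup.mk (s := N)) (x.2 a)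
  have hsurj : Function.Surjective f := by
    rintro ⟨y, hy⟩
    obtain ⟨k, rfl⟩ := QuotientGroup.mk_surjective y
    obtain ⟨n, hn, hfix⟩ := exists_fixed_mul hcop N hN k fun a => by
      have h := hy a
      change ((a • k : K) : K ⧸ N) = (k : K ⧸ N) at h
      rw [QuotientGroup.eq] at h
      have h2 := ‹N.Normal›.conj_mem _ (N.inv_mem h) k
      simpa [mul_assoc] using h2
    refine ⟨⟨n * k, hfix⟩, Subtype.ext ?_⟩
    show ((n * k : K) : K ⧸ N) = (k : K ⧸ N)
    rw [QuotientGroup.eq]
    simpa [mul_assoc] using ‹N.Normal›.conj_mem _ (N.inv_mem hn) k⁻¹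
  let e : ↥f.ker ≃ ↥(fixPts A ↥N) :=
    { toFun := fun x => ⟨⟨(x.1 : K), (QuotientGroup.eq_one_iff _).1 (congrArg Subtype.val x.2)⟩,
        fun a => Subtype.ext (x.1.2 a)⟩
      invFun := fun y => ⟨⟨(y.1 : K), fun a => congrArg Subtype.val (y.2 a)⟩,
        Subtype.ext ((QuotientGroup.eq_one_iff _).2 y.1.2)⟩
      left_inv := fun x => rfl
      right_inv := fun y => rfl }
  rw [← Nat.card_congr e, ← f.ker.card_mul_index, Subgroup.index_ker,
    MonoidHom.range_eq_top.2 hsurj, Subgroup.card_top]

/-- Restriction of an action on an invariant object to a subgroup. -/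
theorem card_fix_congr {X Y : Type*} (e : X ≃ Y) (P : X → Prop) (Q : Y → Prop) (h : ∀ x, P x ↔ Q (e x)) :
    Nat.card {x // P x} = Nat.card {y // Q y} :=
  Nat.card_congr (e.subtypeEquiv h)

theorem card_fixPts_sub (B : Subgroup A) :
    Nat.card {k : K // ∀ b ∈ B, b • k = k} = Nat.card ↥(fixPts ↥B K) :=
  card_fix_congr (Equiv.refl K) _ _ fun k => ⟨fun h b => h b b.2, fun h b hb => h ⟨b, hb⟩⟩

theorem model_elementary [Finite K] {p : ℕ} (hp : p.Prime) (hab : ∀ x y : K, x * y = y * x)
    (hexp : ∀ x : K, x ^ p = 1) : HasModel A K := by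
  letI : CommGroup K := { ‹Group K› with mul_comm := hab }
  letI : DistribMulAction A (Additive K) :=
    { smul := fun a x => Additive.ofMul (a • x.toMul)
      one_smul := fun x => congrArg Additive.ofMul (one_smul A x.toMul)
      mul_smul := fun a b x => congrArg Additive.ofMul (mul_smul a b x.toMul)
      smul_zero := fun a => congrArg Additive.ofMul (smul_one a)
      smul_add := fun a x y => congrArg Additive.ofMul (smul_mul' a x.toMul y.toMul) }
  refine ⟨Additive K, inferInstance, inferInstanceAs (Finite K), inferInstance,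
    SqFree.of_prime hp (fun v => hexp v.toMul), rfl, fun B => ?_⟩
  rw [← card_fixPts_sub B]
  rfl

theorem model_of_pGroup [Group.IsSolvable A] (p : ℕ) [hp : Fact p.Prime] :
    ∀ (K : Type v) [Group K] [Finite K] [MulDistribMulAction A K],
      (Nat.card A).Coprime (Nat.card K) → IsPGroup p K → HasModel A K := by
  intro K
  induction hn : Nat.card K using Nat.strong_induction_on generalizing K with
  | _ n ih =>
  intro _ _ _ hcop hK
  subst hn
  by_cases hone : Nat.card K = 1
  · haveI : Subsingleton K := (Nat.card_eq_one_iff_unique.1 hone).1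
    exact model_elementary hp.out (fun x y => Subsingleton.elim _ _) fun x => Subsingleton.elim _ _
  haveI : Nontrivial K := by
    rw [← not_subsingleton_iff_nontrivial]
    intro h
    exact hone (Nat.card_eq_one_iff_unique.mpr ⟨h, ⟨1⟩⟩)
  let N := frattini K
  have hN : ∀ a : A, ∀ x ∈ N, a • x ∈ N := fun a x hx => by
    have h : N.comap (MulDistribMulAction.toMulEquiv K a).toMonoidHom = N :=
      frattini_characteristic.fixed _
    rw [← h] at hx
    exact hx
  have hlt : Nat.card ↥N < Nat.card K := by
    refine lt_of_le_of_ne (Subgroup.card_le_card_group N) fun e => ?_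
    exact CfsgLib.PGroup.frattini_ne_top hK (Subgroup.eq_top_of_card_eq _ e)
  letI := subAct N hN
  letI := quotAct N hN
  obtain ⟨V₁, _, _, _, s1, c1, f1⟩ := ih _ hlt ↥N rfl
    (hcop.coprime_dvd_right N.card_subgroup_dvd_card) (hK.to_subgroup N)
  haveI : IsPGroup p (K ⧸ N) := hK.to_quotient N
  obtain ⟨V₂, _, _, _, s2, c2, f2⟩ : HasModel A (K ⧸ N) := by
    refine model_elementary hp.out ?_ ?_
    · intro x y
      exact CfsgLib.PGroup.quotient_frattini_comm hK x y
    · intro x
      exact CfsgLib.PGroup.quotient_frattini_pow hK x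
  refine ⟨V₁ × V₂, inferInstance, inferInstance, inferInstance, s1.prod s2, ?_, fun B => ?_⟩
  · rw [Nat.card_prod, c1, c2, mul_comm]
    exact N.card_eq_card_quotient_mul_card_subgroup.symm
  · haveI : Group.IsSolvable ↥B := inferInstance
    have h := fixPts_quot (A := ↥B) (K := K) (hcop.coprime_dvd_left B.card_subgroup_dvd_card) N
      fun b x hx => hN b x hx
    rw [h]
    have e : {v : V₁ × V₂ // ∀ b ∈ B, b • v = v} ≃
        {v : V₁ // ∀ b ∈ B, b • v = v} × {v : V₂ // ∀ b ∈ B, b • v = v} :=
      { toFun := fun v => (⟨v.1.1, fun b hb => congrArg Prod.fst (v.2 b hb)⟩,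
          ⟨v.1.2, fun b hb => congrArg Prod.snd (v.2 b hb)⟩)
        invFun := fun v => ⟨(v.1.1, v.2.1), fun b hb => Prod.ext (v.1.2 b hb) (v.2.2 b hb)⟩
        left_inv := fun v => rfl
        right_inv := fun v => rfl }
    rw [Nat.card_congr e, Nat.card_prod, f1, f2]
    rfl

end Model

end CfsgLib.CoprimeBase
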