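import Cfsg.Agent.Lib.CoprimeBase.Cert
import Cfsg.Agent.Lib.CoprimeBase.FreeCase

/-!
Large settings and the models at the bottom of the recursion.
-/

set_option autoImplicit false
set_option linter.unusedSectionVars false

namespace CfsgLib.CoprimeBase

open CfsgLib.OddBase (Good Base)

universe u

variable {Γ L W : Type u} [Group Γ] [Field L] [AddCommGroup W] [Module L W] [DistribMulAction Γ W]
  {B : Subgroup Γ}

/-- The maps given by the elements of `B`. -/
def img {Γ : Type u} [Group Γ] (B : Subgroup Γ) (W : Type u) [AddCommGroup W]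
    [DistribMulAction Γ W] : Set (W → W) :=
  Set.range fun b : ↥B => fun w : W => (b : Γ) • w

/-- Few elements compared with the vectors. -/
def Big {Γ : Type u} [Group Γ] (B : Subgroup Γ) (W : Type u) [AddCommGroup W]
    [DistribMulAction Γ W] : Prop :=
  (Nat.card (img B W) + 1) ^ 2 ≤ Nat.card W

theorem Pre.rich_of_big [Finite Γ] [Finite W] (hs : Pre Γ L W B) (hbig : Big B W) :
    Rich B W := by
  classical
  haveI := hs.nontrivial
  haveI := Fintype.ofFinite W
  intro x
  by_contra hcon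
  push Not at hcon
  set F : Finset (W → W) := (img B W).toFinset with hF
  set n := F.card with hn
  set s := Nat.sqrt (Fintype.card W) with hs'
  have hns : n + 1 ≤ s := by
    rw [hs', Nat.le_sqrt', hn, hF, Set.toFinset_card, ← Nat.card_eq_fintype_card,
      ← Nat.card_eq_fintype_card]
    exact hbig
  have hfix : ∀ f ∈ F, f ≠ id → (Finset.univ.filter fun u : W => f u = u).card ≤ s := by
    intro f hf hfid
    obtain ⟨⟨b, hb⟩, rfl⟩ := Set.mem_toFinset.1 hf
    simp only at hfid ⊢
    set Fx := Finset.univ.filter fun u : W => b • u = u with hFx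
    have hmem : ∀ u, u ∈ Fx ↔ b • u = u := fun u => by simp [hFx]
    rw [hs', Nat.le_sqrt, ← Finset.card_product]
    by_cases hsc : ∃ c : L, ∀ w : W, b • w = c • w
    · obtain ⟨c, hc⟩ := hsc
      have hc1 : c ≠ 1 := by
        rintro rfl
        exact hfid (funext fun w => by rw [hc, one_smul, id_eq])
      have h0 : Fx = {0} := by
        ext u
        rw [hmem, Finset.mem_singleton]
        refine ⟨fun h => ?_, fun h => by rw [h, smul_zero]⟩
        rw [hc] at h
        have h' : (c - 1) • u = 0 := by rw [sub_smul, one_smul, h, sub_self]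
        exact (smul_eq_zero.1 h').resolve_left fun e => hc1 (sub_eq_zero.1 e)
      rw [h0]
      exact Fintype.card_pos
    obtain ⟨a, ha, hne⟩ : ∃ a ∈ B, ∃ w : W, b • a • w ≠ a • b • w := by
      by_contra h
      push Not at h
      exact hsc (hs.centre b hb h)
    obtain ⟨c, hc⟩ := hs.comm b hb a ha
    have hc1 : c ≠ 1 := by
      rintro rfl
      obtain ⟨w, hw⟩ := hne
      exact hw (by rw [hc, one_smul])
    refine Finset.card_le_card_of_injOn (t := Finset.univ) (fun p => p.1 + a • p.2)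
      (fun p _ => Finset.mem_univ _) ?_
    intro p hp p' hp' e
    simp only [Finset.coe_product, Set.mem_prod, Finset.mem_coe, hmem] at hp hp'
    obtain ⟨hp1, hp2⟩ := hp
    obtain ⟨hq1, hq2⟩ := hp'
    simp only at e
    have e' := congrArg (fun u => b • u) e
    simp only [smul_add, hc, hp1, hp2, hq1, hq2] at e'
    have h2 : (c - 1) • (a • p.2 - a • p'.2) = 0 := by
      have h3 : c • a • p.2 - c • a • p'.2 = a • p.2 - a • p'.2 := by
        calc c • a • p.2 - c • a • p'.2 = (p.1 + c • a • p.2) - (p'.1 + c • a • p'.2) - (p.1 - p'.1) := by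
              abel
          _ = (p.1 + a • p.2) - (p'.1 + a • p'.2) - (p.1 - p'.1) := by rw [e', e, sub_self, sub_self]
          _ = _ := by abel
      rw [sub_smul, one_smul, smul_sub, h3, sub_self]
    have e2 : p.2 = p'.2 := smul_left_cancel a
      (sub_eq_zero.1 ((smul_eq_zero.1 h2).resolve_left fun h => hc1 (sub_eq_zero.1 h)))
    exact Prod.ext (add_right_cancel (e2 ▸ e)) e2
  set bad := insert (0 : W) (F.image (fun f => f x) ∪
    (F.erase id).biUnion fun f => Finset.univ.filter fun u => f u = u) with hbad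
  have hall : (Finset.univ : Finset W) ⊆ bad := by
    intro u _
    by_cases hu : u = 0
    · exact Finset.mem_insert.2 (Or.inl hu)
    refine Finset.mem_insert_of_mem ?_
    by_cases hfree : Free B u
    · obtain ⟨k, hk, e⟩ := hcon u hu hfree
      exact Finset.mem_union_left _ (Finset.mem_image.2
        ⟨_, Set.mem_toFinset.2 ⟨⟨k, hk⟩, rfl⟩, e⟩)
    · simp only [Free, not_forall] at hfree
      obtain ⟨b, hb, hbu, w, hw⟩ := hfree
      refine Finset.mem_union_right _ (Finset.mem_biUnion.2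
        ⟨fun w => b • w, Finset.mem_erase.2 ⟨fun e => hw (congrFun e w),
          Set.mem_toFinset.2 ⟨⟨b, hb⟩, rfl⟩⟩, Finset.mem_filter.2 ⟨Finset.mem_univ _, hbu⟩⟩)
  have h1 := Finset.card_le_card hall
  have hid : id ∈ F := Set.mem_toFinset.2 ⟨1, funext fun w => one_smul Γ w⟩
  have h2 : bad.card ≤ 1 + (n + (n - 1) * s) := by
    refine (Finset.card_insert_le _ _).trans ?_
    rw [add_comm]
    refine Nat.add_le_add_left ((Finset.card_union_le _ _).trans
      (Nat.add_le_add Finset.card_image_le ?_)) 1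
    refine Finset.card_biUnion_le.trans ?_
    refine (Finset.sum_le_card_nsmul _ _ s fun f hf => ?_).trans ?_
    · exact hfix f (Finset.mem_of_mem_erase hf) (Finset.ne_of_mem_erase hf)
    · rw [Finset.card_erase_of_mem hid, smul_eq_mul]
  have hsq : s * s ≤ Fintype.card W := Nat.sqrt_le _
  rw [Finset.card_univ] at h1
  obtain ⟨m, hm⟩ : ∃ m, n = m + 1 := ⟨n - 1, by
    have : 0 < n := Finset.card_pos.2 ⟨id, hid⟩
    omega⟩
  rw [hm, Nat.add_sub_cancel] at h2
  nlinarith

namespace Step

variable {hs : Pre Γ L W B} {y b : Γ} {ζ d : L} (S : Step hs y b 2 ζ d)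
include S

theorem img_le [Finite Γ] [Finite W] :
    Nat.card (img B W) ≤ 4 * Nat.card (@img ↥S.N _ S.B0 ↥S.W0 _ S.act) := by
  classical
  letI := S.act
  have hrep : ∀ f : img S.B0 ↥S.W0, ∃ x : Γ, x ∈ B ∧ x ∈ S.N ∧
      ∀ u : ↥S.W0, x • (u : W) = ((f.1 u : ↥S.W0) : W) := by
    rintro ⟨f, ⟨b', hb'⟩, rfl⟩
    exact ⟨b', hb', b'.2, fun u => rfl⟩
  choose x hxB hxN hx using hrep
  let T := fun p : Fin 2 × Fin 2 × img S.B0 ↥S.W0 =>
    (⟨fun w => (b ^ (p.1 : ℕ) * x p.2.2 * y ^ (p.2.1 : ℕ)) • w,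
      ⟨_, B.mul_mem (B.mul_mem (B.pow_mem S.mem_b _) (hxB _)) (B.pow_mem S.mem_y _)⟩, rfl⟩ : img B W)
  have hsurj : Function.Surjective T := by
    rintro ⟨_, ⟨z, hz⟩, rfl⟩
    obtain ⟨a, ha, z', hz', hz'N, rfl⟩ := S.decompose hz
    set f : img S.B0 ↥S.W0 := ⟨_, ⟨⟨z', hz'N⟩, hz'⟩, rfl⟩
    obtain ⟨k, hk⟩ := S.eq_pow_of_fix (x := (x f)⁻¹ * z') (B.mul_mem (B.inv_mem (hxB f)) hz')
      fun u hu => by
        rw [mul_smul, inv_smul_eq_iff]
        exact (hx f ⟨u, hu⟩).symm
    refine ⟨(⟨a, ha⟩, ⟨k % 2, Nat.mod_lt _ two_pos⟩, f), Subtype.ext (funext fun w => ?_)⟩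
    show (b ^ a * x f * y ^ (k % 2)) • w = (b ^ a * z') • w
    rw [mul_smul, mul_smul, ← S.ypow_parity, ← hk, mul_smul, mul_smul, smul_inv_smul]
  refine (Nat.card_le_card_of_surjective T hsurj).trans (le_of_eq ?_)
  rw [Nat.card_prod, Nat.card_prod, Nat.card_eq_fintype_card, Fintype.card_fin, ← mul_assoc]; rfl

theorem big_of_sub [Finite Γ] [Finite W] {n : ℕ}
    (hn : Nat.card (@img ↥S.N _ S.B0 ↥S.W0 _ S.act) ≤ n) (h : (4 * n + 1) ≤ Nat.card S.W0) :
    Big B W := by
  show (_ + 1) ^ 2 ≤ _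
  rw [S.card_sq, ← pow_two]
  exact Nat.pow_le_pow_left ((Nat.add_le_add_right (S.img_le.trans (Nat.mul_le_mul_left 4 hn)) 1).trans h) 2

theorem big_of_big [Finite Γ] [Finite W] (h : @Big ↥S.N _ S.B0 ↥S.W0 _ S.act) : Big B W := by
  haveI := hs.nontrivial
  haveI := S.nontrivial_W0
  letI := S.act
  refine S.big_of_sub le_rfl ?_
  have h2 : 2 ≤ Nat.card (img S.B0 ↥S.W0) := by
    obtain ⟨z, hz, hzw⟩ := hs.scal (-1 : L) (neg_ne_zero.2 one_ne_zero)
    have hzN : z ∈ S.N := S.mem_N_of_comm fun w => by rw [hzw, hzw, hs.lin y S.mem_y]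
    haveI : Nontrivial (img S.B0 ↥S.W0) := by
      refine ⟨⟨_, 1, rfl⟩, ⟨_, ⟨⟨z, hzN⟩, hz⟩, rfl⟩, fun e => ?_⟩
      obtain ⟨u, hu⟩ := exists_ne (0 : ↥S.W0)
      have h1 : (u : W) = z • (u : W) := by
        have h0 := congrArg (fun f : ↥S.W0 → ↥S.W0 => (f u : W)) (congrArg Subtype.val e)
        exact (one_smul Γ (u : W)).symm.trans h0
      rw [hzw, neg_one_smul, eq_neg_iff_add_eq_zero, ← two_smul L] at h1
      exact hu (Subtype.ext ((smul_eq_zero.1 h1).resolve_left (by simpa using S.natCast_ne)))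
    exact Finite.one_lt_card
  have h3 : (Nat.card (img S.B0 ↥S.W0) + 1) ^ 2 ≤ Nat.card S.W0 := h
  nlinarith

end Step

namespace Rep

variable {M : Model} (R : Rep M B W)
include R

theorem img_le [Finite W] : Nat.card (img B W) ≤ M.S := by
  let T := fun e : Fin M.S => (⟨fun w => R.φ e • w, ⟨R.φ e, R.mem e e.2⟩, rfl⟩ : img B W)
  refine (Nat.card_le_card_of_surjective T ?_).trans (le_of_eq ?_)
  · rintro ⟨_, ⟨b, hb⟩, rfl⟩
    obtain ⟨e, he, hcov⟩ := R.cover b hb
    exact ⟨⟨e, he⟩, Subtype.ext (funext fun w => (hcov w).symm)⟩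
  · rw [Nat.card_eq_fintype_card, Fintype.card_fin]

/-- A pair from the units themselves. -/
theorem pair_of_units (u₁ u₂ : ℕ) (h1 : u₁ < M.P) (h0 : u₁ ≠ 0)
    (hu : ∀ u ∈ M.units, u = u₁ ∨ u = u₂)
    (hf : ∀ e < M.S, M.act e u₁ = u₁ → ∀ u ∈ M.units, M.act e u = u) : Pair (W := W) B := by
  refine ⟨R.ι u₁, R.ι u₂, fun g g1 g2 w => ?_,
    fun e => h0 (R.inj _ h1 _ R.pos (e.trans R.zero.symm)), R.free_of_check h1 hf⟩
  rw [R.ext_units (g := g) (h := 1) (fun u hu' => ?_) w, one_smul]
  rw [one_smul]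
  rcases hu u hu' with rfl | rfl
  exacts [g1, g2]

end Rep

theorem charP_of_card [Finite L] {q : ℕ} (hq : q.Prime) (hL : Nat.card L = q) : CharP L q := by
  haveI := Fintype.ofFinite L
  refine (CharP.charP_iff_prime_eq_zero hq).2 ?_
  rw [← hL, Nat.card_eq_fintype_card]
  exact FiniteField.cast_card_eq_zero L

theorem exists_cast [Finite L] {q : ℕ} (hq : q.Prime) (hL : Nat.card L = q) (c : L) :
    ∃ k < q, (k : L) = c := by
  haveI := charP_of_card hq hL
  have hinj : Function.Injective fun k : Fin q => ((k : ℕ) : L) := fun k k' e => by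
    have h := (CharP.natCast_eq_natCast L q).1 e
    rw [Nat.ModEq, Nat.mod_eq_of_lt k.2, Nat.mod_eq_of_lt k'.2] at h
    exact Fin.ext h
  obtain ⟨k, hk⟩ := ((Nat.bijective_iff_injective_and_card _).2
    ⟨hinj, by rw [Nat.card_eq_fintype_card, Fintype.card_fin, hL]⟩).2 c
  exact ⟨k, k.2, hk⟩

theorem cast_mod [Finite L] {q : ℕ} (hq : q.Prime) (hL : Nat.card L = q) (a : ℕ) :
    ((a % q : ℕ) : L) = (a : L) := by
  haveI := charP_of_card hq hL
  exact (CharP.natCast_eq_natCast L q).2 (Nat.mod_modEq a q)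

/-- A setting with only scalars is large or one dimensional. -/
theorem Pre.scalar_case [Finite Γ] [Finite W] [Finite L] (hs : Pre Γ L W B) {q : ℕ}
    (hq : q.Prime) (hL : Nat.card L = q) (hB : ∀ b ∈ B, ∃ c : L, ∀ w : W, b • w = c • w) :
    Big B W ∨ Nonempty (Rep (Model.scal q) B W) := by
  classical
  haveI := hs.nontrivial
  haveI := charP_of_card hq hL
  obtain ⟨v, hv⟩ := exists_ne (0 : W)
  have hunit : ∀ {c : L}, c • v = 0 → c = 0 := fun h => (smul_eq_zero.1 h).resolve_right hv
  by_cases hspan : ∀ w : W, ∃ c : L, c • v = w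
  · right
    have hz : ∀ e : ℕ, ∃ z : Γ, e < q - 1 → z ∈ B ∧ ∀ w : W, z • w = ((e + 1 : ℕ) : L) • w := by
      intro e
      by_cases he : e < q - 1
      · obtain ⟨z, hz, hzw⟩ := hs.scal ((e + 1 : ℕ) : L) fun h0 => by
          have := Nat.le_of_dvd (by omega) ((CharP.cast_eq_zero_iff L q _).1 h0)
          omega
        exact ⟨z, fun _ => ⟨hz, hzw⟩⟩
      · exact ⟨1, fun h => absurd h he⟩
    choose z hz using hz
    have hpos := hq.pos
    refine ⟨{
      φ := z
      ι := fun x => (x : L) • v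
      mem := fun e he => (hz e he).1
      cover := fun b hb => ?_
      act_eq := fun e he x _ => ⟨Nat.mod_lt _ hpos, ?_⟩
      add_eq := fun x _ x' _ => ⟨Nat.mod_lt _ hpos, ?_⟩
      neg_eq := fun x hx => ⟨Nat.mod_lt _ hpos, ?_⟩
      zero := ?_
      pos := hpos
      inj := fun x hx x' hx' e => ?_
      units_lt := fun u hu => ?_
      gen := fun K hK w => ?_ }⟩
    · obtain ⟨c, hc⟩ := hB b hb
      obtain ⟨k, hk, rfl⟩ := exists_cast hq hL c
      have hk0 : k ≠ 0 := by
        rintro rfl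
        exact hv ((smul_eq_zero_iff_eq b).1 (by rw [hc, Nat.cast_zero, zero_smul]))
      refine ⟨k - 1, by show k - 1 < q - 1; omega, fun w => ?_⟩
      rw [(hz (k - 1) (by omega)).2, hc, Nat.sub_add_cancel (by omega)]
    · show z e • ((x : L) • v) = (((e + 1) * x % q : ℕ) : L) • v
      rw [(hz e he).2, smul_smul, cast_mod hq hL, Nat.cast_mul]
    · show (x : L) • v + (x' : L) • v = (((x + x') % q : ℕ) : L) • v
      rw [cast_mod hq hL, Nat.cast_add, add_smul]
    · show -((x : L) • v) = (((q - x) % q : ℕ) : L) • v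
      have hx' : x ≤ q := le_of_lt hx
      rw [cast_mod hq hL, Nat.cast_sub hx', CharP.cast_eq_zero L q, zero_sub, neg_smul]
    · show ((0 : ℕ) : L) • v = 0
      rw [Nat.cast_zero, zero_smul]
    · have h : ((x : L) - (x' : L)) • v = 0 := by rw [sub_smul]; exact sub_eq_zero.2 e
      have h' := (CharP.natCast_eq_natCast L q).1 (sub_eq_zero.1 (hunit h))
      rwa [Nat.ModEq, Nat.mod_eq_of_lt (show x < q from hx), Nat.mod_eq_of_lt (show x' < q from hx')]
        at h'
    · obtain rfl := List.mem_singleton.1 hu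
      exact hq.one_lt
    · obtain ⟨c, rfl⟩ := hspan w
      obtain ⟨k, -, rfl⟩ := exists_cast hq hL c
      rw [Nat.cast_smul_eq_nsmul]
      refine K.nsmul_mem ?_ k
      have := hK 1 (List.mem_singleton.2 rfl)
      rwa [Nat.cast_one, one_smul] at this
  · left
    obtain ⟨w, hw⟩ := not_forall.1 hspan
    have hinj : Function.Injective fun p : L × L => p.1 • v + p.2 • w := by
      intro p p' e
      simp only at e
      have h : (p.1 - p'.1) • v = (p'.2 - p.2) • w := by
        rw [sub_smul, sub_smul, sub_eq_sub_iff_add_eq_add, e, add_comm]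
      by_cases h0 : p'.2 - p.2 = 0
      · rw [h0, zero_smul] at h
        exact Prod.ext (sub_eq_zero.1 (hunit h)) (sub_eq_zero.1 h0).symm
      · exact absurd ⟨(p'.2 - p.2)⁻¹ * (p.1 - p'.1), by
          rw [mul_smul, h, ← mul_smul, inv_mul_cancel₀ h0, one_smul]⟩ hw
    have hW := Nat.card_le_card_of_injective _ hinj
    rw [Nat.card_prod, hL] at hW
    have himg : Nat.card (img B W) ≤ q - 1 := by
      have hu : Nat.card Lˣ = q - 1 := by rw [Nat.card_units, hL]
      rw [← hu]
      refine (Nat.card_mono (Set.finite_range fun c : Lˣ => fun x : W => (c : L) • x) ?_).trans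
        (Finite.card_range_le _)
      rintro _ ⟨⟨b, hb⟩, rfl⟩
      obtain ⟨c, hc⟩ := hB b hb
      have hc0 : c ≠ 0 := fun h => hv ((smul_eq_zero_iff_eq b).1 (by rw [hc, h, zero_smul]))
      exact ⟨Units.mk0 c hc0, funext fun x => (hc x).symm⟩
    show (_ + 1) ^ 2 ≤ _
    have h1 : Nat.card (img B W) + 1 ≤ q := by have := hq.pos; omega
    exact (Nat.pow_le_pow_left h1 2).trans (by rwa [pow_two])

/-- A freely acting quaternion setting over three elements is large or two dimensional. -/
theorem Pre.quat_case [Finite Γ] [Finite W] [Finite L] (hs : Pre Γ L W B)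
    (hL : Nat.card L = 3) (hfree : ∀ v : W, v ≠ 0 → Free B v)
    (hne : ∃ b ∈ B, ¬ ∃ c : L, ∀ w : W, b • w = c • w) :
    Big B W ∨ Nonempty (Rep Model.quat B W) := by
  classical
  haveI := hs.nontrivial
  haveI := charP_of_card Nat.prime_three hL
  obtain ⟨-, i, hi, j, hj, hii, hjj, hji, hB⟩ := hs.quaternion hfree hne
  have htwo := hs.two_of_free hfree hne
  have h3 : (3 : L) = 0 := by exact_mod_cast (CharP.cast_eq_zero L 3)
  have hcases : ∀ c : L, c = 0 ∨ c = 1 ∨ c = -1 := fun c => by
    obtain ⟨k, hk, rfl⟩ := exists_cast Nat.prime_three hL c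
    interval_cases k
    · exact Or.inl Nat.cast_zero
    · exact Or.inr (Or.inl Nat.cast_one)
    · refine Or.inr (Or.inr ?_)
      rw [Nat.cast_ofNat]
      linear_combination h3
  obtain ⟨v, hv⟩ := exists_ne (0 : W)
  obtain ⟨u₀, hu₀⟩ : ∃ u₀, i • v = u₀ := ⟨_, rfl⟩
  have hiu : i • u₀ = -v := by rw [← hu₀, hii]
  let P : L → L → W := fun a c => a • v + c • u₀
  have hind : ∀ a c : L, P a c = 0 → a = 0 ∧ c = 0 := by
    intro a c h
    have h' := congrArg (fun x => i • x) h
    simp only [P, smul_add, hs.lin i hi, hu₀, hiu, smul_zero, smul_neg] at h'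
    have h2 : (a * a + c * c) • v = 0 := by
      have e : (a * a + c * c) • v = a • (a • v + c • u₀) - c • (a • u₀ + -(c • v)) := by
        simp only [smul_add, smul_sub, smul_neg, smul_smul, add_smul, mul_comm c a]
        abel
      rw [e, show a • v + c • u₀ = 0 from h, h', smul_zero, smul_zero, sub_zero]
    have h4 := (smul_eq_zero.1 h2).resolve_right hv
    rcases hcases a with rfl | rfl | rfl <;> rcases hcases c with rfl | rfl | rfl
    all_goals first
      | exact ⟨rfl, rfl⟩
      | exact absurd (show (1 : L) = 0 by linear_combination h4) one_ne_zero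
      | exact absurd (show (2 : L) = 0 by linear_combination h4) htwo
  by_cases hspan : ∀ w : W, ∃ a c : L, P a c = w
  swap
  · left
    obtain ⟨w, hw⟩ := not_forall.1 hspan
    obtain ⟨w', hw₀⟩ : ∃ w', i • w = w' := ⟨_, rfl⟩
    have hiw : i • w' = -w := by rw [← hw₀, hii]
    have hinj : Function.Injective fun p : (L × L) × L × L =>
        P p.1.1 p.1.2 + (p.2.1 • w + p.2.2 • w') := by
      have key : ∀ a c e f : L, P a c + (e • w + f • w') = 0 → a = 0 ∧ c = 0 ∧ e = 0 ∧ f = 0 := by
        intro a c e f h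
        have h' := congrArg (fun x => i • x) h
        simp only [P, smul_add, hs.lin i hi, hu₀, hiu, hw₀, hiw, smul_zero, smul_neg] at h'
        have hw' : (e * e + f * f) • w = P (-(e * a + f * c)) (f * a - e * c) := by
          have e1 : (e * e + f * f) • w = e • (a • v + c • u₀ + (e • w + f • w')) -
              f • (a • u₀ + -(c • v) + (e • w' + -(f • w))) +
              P (-(e * a + f * c)) (f * a - e * c) := by
            simp only [P]
            module
          rw [e1, show a • v + c • u₀ + (e • w + f • w') = 0 from h, h', smul_zero, smul_zero,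
            sub_zero, zero_add]
        have hef : e * e + f * f = 0 := by
          by_contra h0
          refine hw ⟨(e * e + f * f)⁻¹ * -(e * a + f * c), (e * e + f * f)⁻¹ * (f * a - e * c), ?_⟩
          show _ • v + _ • u₀ = w
          rw [mul_smul, mul_smul, ← smul_add, ← show _ = _ • v + _ • u₀ from hw', ← mul_smul,
            inv_mul_cancel₀ h0, one_smul]
        have hef' : e = 0 ∧ f = 0 := by
          rcases hcases e with rfl | rfl | rfl <;> rcases hcases f with rfl | rfl | rfl
          all_goals first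
            | exact ⟨rfl, rfl⟩
            | exact absurd (show (1 : L) = 0 by linear_combination hef) one_ne_zero
            | exact absurd (show (2 : L) = 0 by linear_combination hef) htwo
        obtain ⟨rfl, rfl⟩ := hef'
        rw [zero_smul, zero_smul, add_zero, add_zero] at h
        obtain ⟨rfl, rfl⟩ := hind a c h
        exact ⟨rfl, rfl, rfl, rfl⟩
      intro p p' e
      simp only at e
      obtain ⟨e1, e2, e3, e4⟩ := key (p.1.1 - p'.1.1) (p.1.2 - p'.1.2) (p.2.1 - p'.2.1)
        (p.2.2 - p'.2.2) (by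
          simp only [P, sub_smul]
          rw [← sub_eq_zero] at e
          rw [← e]
          simp only [P]
          abel)
      exact Prod.ext (Prod.ext (sub_eq_zero.1 e1) (sub_eq_zero.1 e2))
        (Prod.ext (sub_eq_zero.1 e3) (sub_eq_zero.1 e4))
    have hW := Nat.card_le_card_of_injective _ hinj
    simp only [Nat.card_prod, hL] at hW
    have himg : Nat.card (img B W) ≤ 8 := by
      let q : Fin 4 → W → W := ![id, fun w => i • w, fun w => j • w, fun w => i • j • w]
      have hu : Nat.card (Lˣ × Fin 4) = 8 := by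
        rw [Nat.card_prod, Nat.card_units, hL, Nat.card_eq_fintype_card, Fintype.card_fin]
      rw [← hu]
      refine (Nat.card_mono (Set.finite_range fun p : Lˣ × Fin 4 => fun x : W => (p.1 : L) • q p.2 x)
        ?_).trans (Finite.card_range_le _)
      rintro _ ⟨⟨b, hb⟩, rfl⟩
      obtain ⟨c, hc⟩ := hB b hb
      have hc0 : c ≠ 0 := by
        rintro rfl
        rcases hc with h | h | h | h <;>
          exact hv ((smul_eq_zero_iff_eq b).1 (by rw [h, zero_smul]))
      rcases hc with h | h | h | h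
      exacts [⟨(Units.mk0 c hc0, 0), funext fun x => (h x).symm⟩,
        ⟨(Units.mk0 c hc0, 1), funext fun x => (h x).symm⟩,
        ⟨(Units.mk0 c hc0, 2), funext fun x => (h x).symm⟩,
        ⟨(Units.mk0 c hc0, 3), funext fun x => (h x).symm⟩]
    show (_ + 1) ^ 2 ≤ _
    calc (Nat.card (img B W) + 1) ^ 2 ≤ (8 + 1) ^ 2 := Nat.pow_le_pow_left (by omega) 2
      _ ≤ Nat.card W := by omega
  right
  -- the second generator in normal form
  obtain ⟨j0, hj0, hjv, hjiv⟩ : ∃ j0 ∈ B, j0 • v = P 1 1 ∧ j0 • u₀ = P 1 (-1) := by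
    obtain ⟨α, β, hαβ⟩ := hspan (j • v)
    have hjiv : j • u₀ = P β (-α) := by
      rw [← hu₀, hji, ← hαβ]
      simp only [P, smul_add, hs.lin i hi, hu₀, hiu]
      module
    have hsq : α * α + β * β = -1 := by
      have h := hjj v
      rw [← hαβ] at h
      simp only [P, smul_add, hs.lin j hj, hjiv, ← hαβ] at h
      have h' : (α * α + β * β + 1) • v = 0 := by
        have e : (α * α + β * β + 1) • v =
            α • α • v + α • β • u₀ + (β • β • v + β • -α • u₀) + v := by module
        rw [e]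
        exact add_eq_zero_iff_eq_neg.2 h
      exact eq_neg_iff_add_eq_zero.2 ((smul_eq_zero.1 h').resolve_right hv)
    obtain ⟨z, hz, hzw⟩ := hs.scal (-1 : L) (neg_ne_zero.2 one_ne_zero)
    rcases hcases α with rfl | rfl | rfl <;> rcases hcases β with rfl | rfl | rfl
    · exact absurd (show (1 : L) = 0 by linear_combination hsq) one_ne_zero
    · exact absurd (show (2 : L) = 0 by linear_combination hsq) htwo
    · exact absurd (show (2 : L) = 0 by linear_combination hsq) htwo
    · exact absurd (show (2 : L) = 0 by linear_combination hsq) htwo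
    · exact ⟨j, hj, hαβ.symm, hjiv⟩
    · refine ⟨i * j, B.mul_mem hi hj, ?_, ?_⟩
      · rw [mul_smul, ← hαβ]
        simp only [P, smul_add, hs.lin i hi, hu₀, hiu]
        module
      · rw [mul_smul, hjiv]
        simp only [P, smul_add, hs.lin i hi, hu₀, hiu]
        module
    · exact absurd (show (2 : L) = 0 by linear_combination hsq) htwo
    · refine ⟨z * (i * j), B.mul_mem hz (B.mul_mem hi hj), ?_, ?_⟩
      · rw [mul_smul, mul_smul, hzw, ← hαβ]
        simp only [P, smul_add, hs.lin i hi, hu₀, hiu]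
        module
      · rw [mul_smul, mul_smul, hzw, hjiv]
        simp only [P, smul_add, hs.lin i hi, hu₀, hiu]
        module
    · refine ⟨z * j, B.mul_mem hz hj, ?_, ?_⟩
      · rw [mul_smul, hzw, ← hαβ]
        simp only [P]
        module
      · rw [mul_smul, hzw, hjiv]
        simp only [P]
        module
  obtain ⟨z, hz, hzw⟩ := hs.scal (-1 : L) (neg_ne_zero.2 one_ne_zero)
  let φ : ℕ → Γ := fun e => z ^ (e / 4) * (i ^ (e % 2) * j0 ^ (e % 4 / 2))
  let ι : ℕ → W := fun x => P ((x % 3 : ℕ) : L) ((x / 3 : ℕ) : L)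
  have hι : ∀ a c : ℕ, ι (a % 3 + 3 * (c % 3)) = P (a : L) (c : L) := fun a c => by
    show P (((a % 3 + 3 * (c % 3)) % 3 : ℕ) : L) (((a % 3 + 3 * (c % 3)) / 3 : ℕ) : L) = _
    rw [show (a % 3 + 3 * (c % 3)) % 3 = a % 3 by omega,
      show (a % 3 + 3 * (c % 3)) / 3 = c % 3 by omega, cast_mod Nat.prime_three hL,
      cast_mod Nat.prime_three hL]
  have hφB : ∀ e, φ e ∈ B := fun e =>
    B.mul_mem (B.pow_mem hz _) (B.mul_mem (B.pow_mem hi _) (B.pow_mem hj0 _))
  have hact : ∀ e < 8, ∀ x < 9, φ e • ι x = ι (Model.quat.act e x) := by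
    intro e he x hx
    have hlinP : ∀ g ∈ B, ∀ a c : L, g • P a c = a • g • v + c • g • u₀ := fun g hg a c => by
      simp only [P, smul_add, hs.lin g hg]
    have hJ : ∀ a c : L, j0 • P a c = P (a + c) (a - c) := fun a c => by
      rw [hlinP j0 hj0, hjv, hjiv]; simp only [P]; module
    have hI : ∀ a c : L, i • P a c = P (-c) a := fun a c => by
      rw [hlinP i hi, hu₀, hiu]; simp only [P]; module
    have hZ : ∀ a c : L, z • P a c = P (-a) (-c) := fun a c => by
      rw [hzw]; simp only [P]; module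
    have hm : (2 : L) = -1 := by linear_combination h3
    show (z ^ (e / 4) * (i ^ (e % 2) * j0 ^ (e % 4 / 2))) • _ = _
    rw [mul_smul, mul_smul, show ι x = P ((x % 3 : ℕ) : L) ((x / 3 : ℕ) : L) from rfl]
    interval_cases e <;>
      simp only [Nat.reduceMod, Nat.reduceDiv, pow_zero, pow_one, one_smul, hJ, hI, hZ,
        Model.quat, Nat.reduceAdd, Nat.reduceEqDiff, if_true, if_false, zero_ne_one, OfNat.ofNat_ne_one] <;>
      rw [hι] <;> push_cast <;> (try simp only [hm]) <;> congr 1 <;> ring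
  refine ⟨{
    φ := φ
    ι := ι
    mem := fun e _ => hφB e
    cover := fun b hb => ?_
    act_eq := fun e he x hx => ⟨?_, hact e he x hx⟩
    add_eq := fun x hx x' hx' => ⟨?_, ?_⟩
    neg_eq := fun x hx => ⟨?_, ?_⟩
    zero := ?_
    pos := by decide
    inj := fun x hx x' hx' e => ?_
    units_lt := by decide
    gen := fun K hK w => ?_ }⟩
  · obtain ⟨a, c, hac⟩ := hspan (b • v)
    obtain ⟨k, hk, rfl⟩ := exists_cast Nat.prime_three hL a
    obtain ⟨l, hl, rfl⟩ := exists_cast Nat.prime_three hL c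
    have hx : k % 3 + 3 * (l % 3) < 9 := by omega
    have h0 : k % 3 + 3 * (l % 3) ≠ 0 := fun h => by
      have hk0 : k = 0 := by omega
      have hl0 : l = 0 := by omega
      subst hk0 hl0
      refine hv ((smul_eq_zero_iff_eq b).1 ?_)
      rw [← hac]
      simp only [P, Nat.cast_zero, zero_smul, add_zero]
    have hex : ∀ x < 9, x ≠ 0 → ∃ e < 8, Model.quat.act e 1 = x := by decide
    obtain ⟨e, he, hex⟩ := hex _ hx h0
    have he' : φ e • v = b • v := by
      have h1 := hact e he 1 (by norm_num)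
      rw [hex, hι, hac] at h1
      rw [← h1]
      congr 1
      show v = P ((1 % 3 : ℕ) : L) ((1 / 3 : ℕ) : L)
      simp [P]
    refine ⟨e, he, fun w => ?_⟩
    have h2 := hfree v hv _ (B.mul_mem (B.inv_mem (hφB e)) hb)
      (by rw [mul_smul, ← he', inv_smul_smul]) w
    rwa [mul_smul, inv_smul_eq_iff] at h2
  · show _ % 3 + 3 * (_ % 3) < 9
    omega
  · show _ % 3 + 3 * (_ % 3) < 9
    omega
  · show P _ _ + P _ _ = ι ((x % 3 + x' % 3) % 3 + 3 * ((x / 3 + x' / 3) % 3))
    rw [hι, Nat.cast_add, Nat.cast_add]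
    simp only [P]
    module
  · show (2 * (x % 3)) % 3 + 3 * ((2 * (x / 3)) % 3) < 9
    omega
  · show -P _ _ = ι ((2 * (x % 3)) % 3 + 3 * ((2 * (x / 3)) % 3))
    have hm : ((2 : ℕ) : L) = -1 := by push_cast; linear_combination h3
    rw [hι, Nat.cast_mul, Nat.cast_mul, hm]
    simp only [P]
    module
  · show P ((0 % 3 : ℕ) : L) ((0 / 3 : ℕ) : L) = 0
    simp [P]
  · have hx9 : x < 9 := hx
    have hx9' : x' < 9 := hx'
    obtain ⟨e1, e2⟩ := hind (((x % 3 : ℕ) : L) - ((x' % 3 : ℕ) : L))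
      (((x / 3 : ℕ) : L) - ((x' / 3 : ℕ) : L)) (by
        have e' : P ((x % 3 : ℕ) : L) ((x / 3 : ℕ) : L) - P ((x' % 3 : ℕ) : L) ((x' / 3 : ℕ) : L) = 0 :=
          sub_eq_zero.2 e
        rw [← e']
        simp only [P]
        module)
    have f1 := (CharP.natCast_eq_natCast L 3).1 (sub_eq_zero.1 e1)
    have f2 := (CharP.natCast_eq_natCast L 3).1 (sub_eq_zero.1 e2)
    simp only [Nat.ModEq] at f1 f2
    omega
  · obtain ⟨a, c, rfl⟩ := hspan w
    obtain ⟨k, -, rfl⟩ := exists_cast Nat.prime_three hL a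
    obtain ⟨l, -, rfl⟩ := exists_cast Nat.prime_three hL c
    have a1 : v ∈ K := by
      have := hK 1 (by decide)
      simpa [ι, P] using this
    have a2 : u₀ ∈ K := by
      have := hK 3 (by decide)
      simpa [ι, P] using this
    show (k : L) • v + (l : L) • u₀ ∈ K
    rw [Nat.cast_smul_eq_nsmul, Nat.cast_smul_eq_nsmul]
    exact K.add_mem (K.nsmul_mem a1 k) (K.nsmul_mem a2 l)

end CfsgLib.CoprimeBase
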