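import Cfsg.Agent.Lib.CoprimeBase.HartleyTurull
import Mathlib.Data.Nat.Factorization.Basic
import Mathlib.Algebra.Group.Action.Pi
import Mathlib.Algebra.GroupWithZero.Action.Pi

/-!
Regular orbits on pairs are transferred from the abelian model.
-/

set_option autoImplicit false
set_option linter.unusedSectionVars false

namespace CfsgLib.CoprimeBase

universe u v

variable {A : Type u} [Group A] [Finite A]

theorem exists_model [Group.IsSolvable A] (K : Type v) [Group K] [Finite K]
    [MulDistribMulAction A K] (hcop : (Nat.card A).Coprime (Nat.card K)) : HasModel A K := by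
  classical
  let ι := {p : ℕ // p ∈ (Nat.card K).primeFactors}
  have hι : ∀ i : ι, Fact (i : ℕ).Prime := fun i => ⟨(Nat.mem_primeFactors.1 i.2).1⟩
  choose P hP using fun i : ι => @exists_invariant_sylow' A K _ _ _ _ _ _ hcop i (hι i)
  have hm : ∀ i : ι, @HasModel A ↥(P i : Subgroup K) _ _ (subAct _ (hP i)) := fun i =>
    letI := subAct _ (hP i)
    haveI := hι i
    model_of_pGroup (i : ℕ) ↥(P i : Subgroup K)
      (hcop.coprime_dvd_right (Subgroup.card_subgroup_dvd_card _)) (P i).2
  choose V i1 i2 i3 hs hc hf using hm
  letI := i1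
  letI := i3
  haveI := i2
  refine ⟨∀ i, V i, inferInstance, inferInstance, inferInstance, SqFree.pi hs, ?_, fun B => ?_⟩
  · rw [Nat.card_pi]
    simp only [hc]
    conv_rhs => rw [← Nat.prod_factorization_pow_eq_self (Nat.card_pos (α := K)).ne']
    rw [Finsupp.prod, Nat.support_factorization, Finset.univ_eq_attach,
      ← Finset.prod_attach (Nat.card K).primeFactors]
    exact Finset.prod_congr rfl fun i _ => by
      haveI := hι i
      exact (P i).card_eq_multiplicity
  · let e : {v : ∀ i, V i // ∀ b ∈ B, b • v = v} ≃ ∀ i, {v : V i // ∀ b ∈ B, b • v = v} :=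
      { toFun := fun v i => ⟨v.1 i, fun b hb => congrFun (v.2 b hb) i⟩
        invFun := fun f => ⟨fun i => (f i).1, fun b hb => funext fun i => (f i).2 b hb⟩
        left_inv := fun v => rfl
        right_inv := fun f => rfl }
    rw [Nat.card_congr e, Nat.card_pi]
    have hcB : (Nat.card ↥B).Coprime (Nat.card K) := hcop.coprime_dvd_left B.card_subgroup_dvd_card
    have key : ∀ i : ι, Nat.card {v : V i // ∀ b ∈ B, b • v = v} =
        (i : ℕ) ^ (Nat.card ↥(fixPts ↥B K)).factorization i := by
      intro i
      haveI := hι i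
      rw [hf i B, ← card_fix_sylow hcB (i : ℕ) (P i) fun b x hx => hP i b x hx]
      exact Nat.card_congr
        { toFun := fun x => ⟨(x.1 : K), x.1.2, fun b => congrArg Subtype.val (x.2 b)⟩
          invFun := fun y => ⟨⟨(y : K), y.2.1⟩, fun b => Subtype.ext (y.2.2 b)⟩
          left_inv := fun x => rfl
          right_inv := fun y => rfl }
    simp only [key]
    have hdvd : Nat.card ↥(fixPts ↥B K) ∣ Nat.card K := Subgroup.card_subgroup_dvd_card _
    conv_rhs => rw [← Nat.prod_factorization_pow_eq_self (Nat.card_pos (α := ↥(fixPts ↥B K))).ne']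
    rw [Finsupp.prod_of_support_subset _ (s := (Nat.card K).primeFactors)
      (by rw [Nat.support_factorization]; exact Nat.primeFactors_mono hdvd Nat.card_pos.ne')
      _ (fun _ _ => pow_zero _), Finset.univ_eq_attach]
    exact Finset.prod_attach (Nat.card K).primeFactors
      fun p => p ^ (Nat.card ↥(fixPts ↥B K)).factorization p

/-- Two finite sets with equal fixed point counts for all subgroups have equally many points with a
given stabilizer. -/
theorem card_stab_eq {X Y : Type v} [Finite X] [Finite Y] [MulAction A X] [MulAction A Y]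
    (h : ∀ B : Subgroup A, Nat.card {x : X // ∀ b ∈ B, b • x = x} =
      Nat.card {y : Y // ∀ b ∈ B, b • y = y}) (B : Subgroup A) :
    Nat.card {x : X // MulAction.stabilizer A x = B} =
      Nat.card {y : Y // MulAction.stabilizer A y = B} := by
  classical
  haveI : Finite (Subgroup A) := Finite.of_injective (fun H => (H : Set A)) SetLike.coe_injective
  induction B using WellFoundedGT.induction with
  | _ B ih =>
    haveI := Fintype.ofFinite (Subgroup A)
    have split : ∀ (Z : Type v) [Finite Z] [MulAction A Z],
        Nat.card {z : Z // ∀ b ∈ B, b • z = z} = Nat.card {z : Z // MulAction.stabilizer A z = B} +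
          ∑ C ∈ Finset.univ.filter (fun C : Subgroup A => B < C),
            Nat.card {z : Z // MulAction.stabilizer A z = C} := by
      intro Z _ _
      haveI := Fintype.ofFinite Z
      simp only [Nat.card_eq_fintype_card, Fintype.card_subtype]
      rw [← Finset.sum_insert (f := fun C => (Finset.univ.filter
        fun z : Z => MulAction.stabilizer A z = C).card) (by simp)]
      rw [← Finset.card_biUnion]
      · congr 1
        ext z
        simp only [Finset.mem_filter, Finset.mem_univ, true_and, Finset.mem_biUnion,
          Finset.mem_insert, exists_eq_right']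
        constructor
        · intro hz
          have hle : B ≤ MulAction.stabilizer A z := fun b hb => hz b hb
          exact hle.lt_or_eq.symm.imp Eq.symm id
        · rintro (e | e) b hb
          · exact MulAction.mem_stabilizer_iff.1 (e ▸ hb)
          · exact MulAction.mem_stabilizer_iff.1 (e.le hb)
      · intro C _ D _ hCD
        exact Finset.disjoint_left.2 fun z h1 h2 => hCD (by
          simp only [Finset.mem_filter] at h1 h2
          rw [← h1.2, h2.2])
    have h1 := split X
    have h2 := split Y
    have hs := Finset.sum_congr (rfl : Finset.univ.filter (fun C : Subgroup A => B < C) = _)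
      fun C hC => ih C (Finset.mem_filter.1 hC).2
    have h3 := h B
    omega

/-- Two points with trivial common stabilizer, from the abelian model. -/
theorem two_points [Group.IsSolvable A] {K : Type v} [Group K] [Finite K] [MulDistribMulAction A K]
    [FaithfulSMul A K] (hcop : (Nat.card A).Coprime (Nat.card K))
    (main : ∀ (V : Type v) [AddCommGroup V] [Finite V] [DistribMulAction A V],
      (Nat.card A).Coprime (Nat.card V) → SqFree V →
      ∃ x y : V, ∀ a : A, a • x = x → a • y = y → ∀ z : V, a • z = z) :
    ∃ x y : K, ∀ a : A, a • x = x → a • y = y → a = 1 := by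
  classical
  obtain ⟨V, _, _, _, hs, hc, hf⟩ := exists_model K hcop
  have hfaith : ∀ a : A, (∀ z : V, a • z = z) → a = 1 := by
    intro a ha
    have h := hf (Subgroup.zpowers a)
    rw [Nat.card_congr (Equiv.subtypeUnivEquiv fun z b hb => by
      have hle : Subgroup.zpowers a ≤ MulAction.stabilizer A z := Subgroup.zpowers_le.2 (ha z)
      exact hle hb), hc] at h
    have htop := Subgroup.eq_top_of_card_eq _ h.symm
    refine FaithfulSMul.eq_of_smul_eq_smul (α := K) fun k => ?_
    rw [one_smul]
    have hk : k ∈ fixPts ↥(Subgroup.zpowers a) K := htop ▸ Subgroup.mem_top k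
    exact hk ⟨a, Subgroup.mem_zpowers a⟩
  obtain ⟨x, y, hxy⟩ := main V (by rwa [hc]) hs
  have hfix : ∀ B : Subgroup A, Nat.card {q : V × V // ∀ b ∈ B, b • q = q} =
      Nat.card {q : K × K // ∀ b ∈ B, b • q = q} := by
    intro B
    have e : ∀ (Z : Type v) [MulAction A Z], {q : Z × Z // ∀ b ∈ B, b • q = q} ≃
        {z : Z // ∀ b ∈ B, b • z = z} × {z : Z // ∀ b ∈ B, b • z = z} := fun Z _ =>
      { toFun := fun q => (⟨q.1.1, fun b hb => congrArg Prod.fst (q.2 b hb)⟩,
          ⟨q.1.2, fun b hb => congrArg Prod.snd (q.2 b hb)⟩)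
        invFun := fun q => ⟨(q.1.1, q.2.1), fun b hb => Prod.ext (q.1.2 b hb) (q.2.2 b hb)⟩
        left_inv := fun q => rfl
        right_inv := fun q => rfl }
    rw [Nat.card_congr (e V), Nat.card_congr (e K), Nat.card_prod, Nat.card_prod, hf,
      card_fixPts_sub]
  have h1 := card_stab_eq hfix ⊥
  have hpos : 0 < Nat.card {q : V × V // MulAction.stabilizer A q = ⊥} := by
    refine Nat.card_pos_iff.2 ⟨⟨⟨(x, y), ?_⟩⟩, inferInstance⟩
    rw [eq_bot_iff]
    intro a ha
    have ha' : a • (x, y) = (x, y) := ha
    exact hfaith a (hxy a (congrArg Prod.fst ha') (congrArg Prod.snd ha'))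
  rw [h1] at hpos
  obtain ⟨⟨⟨⟨k, l⟩, hkl⟩⟩, -⟩ := Nat.card_pos_iff.1 hpos
  exact ⟨k, l, fun a h2 h3 => Subgroup.mem_bot.1 (hkl ▸ (Prod.ext h2 h3 : a • (k, l) = (k, l)))⟩

end CfsgLib.CoprimeBase
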