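import Cfsg.Agent.Lib.CoprimeBase.Exceptional
import Cfsg.Agent.Lib.CoprimeBase.Transfer
import Mathlib.Algebra.CharP.CharAndCard

/-!
Bases of size two for coprime solvable groups.
-/

set_option autoImplicit false

namespace CfsgLib.CoprimeBase

universe u v

/-- Two vectors with trivially acting common stabiliser, in any universes. -/
theorem base_main (A : Type u) [Group A] [Finite A] [Group.IsSolvable A] (V : Type v)
    [AddCommGroup V] [Finite V] [DistribMulAction A V] (hcop : (Nat.card A).Coprime (Nat.card V))
    (hsq : SqFree V) : ∃ x y : V, ∀ a : A, a • x = x → a • y = y → ∀ z : V, a • z = z := by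
  let φ := MulAction.toPermHom A V
  haveI : Finite (φ.range) := Set.finite_range φ
  letI : DistribMulAction φ.range V :=
    { smul := fun g v => (g : Equiv.Perm V) v
      one_smul := fun v => rfl
      mul_smul := fun g h v => rfl
      smul_zero := by rintro ⟨_, a, rfl⟩; exact smul_zero a
      smul_add := by rintro ⟨_, a, rfl⟩ v w; exact smul_add a v w }
  haveI : Group.IsSolvable φ.range := Group.isSolvable_of_surjective φ.rangeRestrict_surjective
  have hc : (Nat.card φ.range).Coprime (Nat.card V) :=
    hcop.coprime_dvd_left (Subgroup.card_range_dvd φ)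
  obtain ⟨⟨x, y⟩, h⟩ := hyp_all (Nat.card V + 1) φ.range V (Nat.lt_succ_self _) inferInstance hc hsq
  exact ⟨x, y, fun a hx hy z => h ⟨φ a, a, rfl⟩ hx hy z⟩

/-- Two points of a group with trivial common stabiliser. -/
theorem two_points' {A : Type u} {K : Type v} [Group A] [Finite A] [Group K] [Finite K]
    [MulDistribMulAction A K] [FaithfulSMul A K] (hA : Group.IsSolvable A)
    (hcop : (Nat.card A).Coprime (Nat.card K)) :
    ∃ x y : K, ∀ a : A, a • x = x → a • y = y → a = 1 :=
  haveI := hA
  two_points hcop fun V _ _ _ hc hs => base_main A V hc hs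

end CfsgLib.CoprimeBase
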