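import Cfsg.Agent.Lib.CoprimeBase.Recursion
import Mathlib.Tactic.IntervalCases

/-!
Combinatorial models of small settings.
-/

set_option autoImplicit false
set_option linter.unusedSectionVars false

namespace CfsgLib.CoprimeBase

open CfsgLib.OddBase (Good Base)

universe u

/-- Codes for the elements and the vectors of a small setting. -/
structure Model where
  S : ℕ
  P : ℕ
  act : ℕ → ℕ → ℕ
  add : ℕ → ℕ → ℕ
  neg : ℕ → ℕ
  units : List ℕ

namespace Model

/-- The one dimensional model. -/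
def scal (q : ℕ) : Model where
  S := q - 1
  P := q
  act e x := (e + 1) * x % q
  add x y := (x + y) % q
  neg x := (q - x) % q
  units := [1]

/-- The quaternion model in dimension two. -/
def quat : Model where
  S := 8
  P := 9
  act e x :=
    let a := x % 3
    let b := x / 3
    let k := e % 4
    let c := e / 4 + 1
    let a1 := if k / 2 = 1 then a + b else a
    let b1 := if k / 2 = 1 then a + 2 * b else b
    let a2 := if k % 2 = 1 then 2 * b1 else a1
    let b2 := if k % 2 = 1 then a1 else b1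
    c * a2 % 3 + 3 * (c * b2 % 3)
  add x y := (x % 3 + y % 3) % 3 + 3 * ((x / 3 + y / 3) % 3)
  neg x := (2 * (x % 3)) % 3 + 3 * ((2 * (x / 3)) % 3)
  units := [1, 3]

/-- The model one level up. -/
def double (M : Model) : Model where
  S := 4 * M.S
  P := M.P * M.P
  act e x :=
    let r := e / M.S
    let x1 := if r / 2 = 1 then M.neg (x / M.P) else x / M.P
    let u0 := if r % 2 = 1 then x1 else x % M.P
    let u1 := if r % 2 = 1 then x % M.P else x1
    M.act (e % M.S) u0 + M.P * M.act (e % M.S) u1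
  add x y := M.add (x % M.P) (y % M.P) + M.P * M.add (x / M.P) (y / M.P)
  neg x := M.neg (x % M.P) + M.P * M.neg (x / M.P)
  units := M.units ++ M.units.map (fun u => M.P * u)

end Model

variable {Γ L W : Type u} [Group Γ] [Field L] [AddCommGroup W] [Module L W] [DistribMulAction Γ W]
  {B : Subgroup Γ}

/-- The setting is described by the model. -/
structure Rep (M : Model) (B : Subgroup Γ) (W : Type u) [AddCommGroup W] [DistribMulAction Γ W] where
  φ : ℕ → Γ
  ι : ℕ → W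
  mem : ∀ e < M.S, φ e ∈ B
  cover : ∀ b ∈ B, ∃ e < M.S, ∀ w : W, b • w = φ e • w
  act_eq : ∀ e < M.S, ∀ x < M.P, M.act e x < M.P ∧ φ e • ι x = ι (M.act e x)
  add_eq : ∀ x < M.P, ∀ x' < M.P, M.add x x' < M.P ∧ ι x + ι x' = ι (M.add x x')
  neg_eq : ∀ x < M.P, M.neg x < M.P ∧ -ι x = ι (M.neg x)
  zero : ι 0 = 0
  pos : 0 < M.P
  inj : ∀ x < M.P, ∀ x' < M.P, ι x = ι x' → x = x'
  units_lt : ∀ u ∈ M.units, u < M.P
  gen : ∀ K : AddSubgroup W, (∀ u ∈ M.units, ι u ∈ K) → ∀ w : W, w ∈ K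

namespace Rep

variable {M : Model} (R : Rep M B W)

theorem ext_units {g h : Γ} (e : ∀ u ∈ M.units, g • R.ι u = h • R.ι u) (w : W) : g • w = h • w := by
  refine R.gen
    { carrier := {w | g • w = h • w}
      zero_mem' := by simp
      add_mem' := fun {a c} (ha : g • a = h • a) (hc : g • c = h • c) =>
        show g • (a + c) = h • (a + c) by rw [smul_add, smul_add, ha, hc]
      neg_mem' := fun {a} (ha : g • a = h • a) => show g • (-a) = h • (-a) by
        rw [smul_neg, smul_neg, ha] } e w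

theorem exists_code (w : W) : ∃ x < M.P, R.ι x = w := by
  refine R.gen
    { carrier := {w | ∃ x < M.P, R.ι x = w}
      zero_mem' := ⟨0, R.pos, R.zero⟩
      add_mem' := ?_
      neg_mem' := ?_ } (fun u hu => ⟨u, R.units_lt u hu, rfl⟩) w
  · rintro _ _ ⟨x, hx, rfl⟩ ⟨x', hx', rfl⟩
    exact ⟨_, (R.add_eq x hx x' hx').1, (R.add_eq x hx x' hx').2.symm⟩
  · rintro _ ⟨x, hx, rfl⟩
    exact ⟨_, (R.neg_eq x hx).1, (R.neg_eq x hx).2.symm⟩

include R in
theorem card_eq : Nat.card W = M.P := by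
  have h : Function.Bijective fun x : Fin M.P => R.ι x :=
    ⟨fun x x' e => Fin.ext (R.inj x x.2 x' x'.2 e), fun w => by
      obtain ⟨x, hx, e⟩ := R.exists_code w
      exact ⟨⟨x, hx⟩, e⟩⟩
  rw [← Nat.card_eq_of_bijective _ h, Nat.card_eq_fintype_card, Fintype.card_fin]

theorem conj (hs : Pre Γ L W B) (g : Γ) {e : ℕ} (he : e < M.S) :
    ∃ e' < M.S, ∀ w : W, g • R.φ e • w = R.φ e' • g • w := by
  obtain ⟨e', he', h⟩ := R.cover _ (hs.normal g _ (R.mem e he))
  exact ⟨e', he', fun w => by rw [← h, mul_smul, mul_smul, inv_smul_smul]⟩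

end Rep

namespace Step

variable {hs : Pre Γ L W B} {y b : Γ} {ζ d : L} (S : Step hs y b 2 ζ d)
include S

theorem zeta_eq : ζ = -1 := S.root.eq_neg_one_of_two_right

theorem smul_W0_b {u : W} (hu : u ∈ S.W0) : y • b • u = -(b • u) := by
  rw [S.comm_yb, show y • u = u from hu, S.zeta_eq, neg_one_smul]

theorem ypow_parity (k : ℕ) (w : W) : (y ^ k) • w = (y ^ (k % 2)) • w := by
  conv_lhs => rw [← Nat.mod_add_div k 2, pow_add, mul_smul, pow_mul]
  rw [S.ypow_mul]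

theorem split_surj (w : W) : ∃ u ∈ S.W0, ∃ u' ∈ S.W0, w = u + b • u' := by
  obtain ⟨u, hu, e⟩ := S.exists_shift (i := 0) (S.proj_eig (ε := ζ ^ 0)
    (by rw [pow_zero, one_pow]) w)
  obtain ⟨u', hu', e'⟩ := S.exists_shift (i := 1) (S.proj_eig (ε := ζ ^ 1)
    (by rw [pow_one]; exact S.root.pow_eq_one) w)
  refine ⟨u, hu, u', hu', ?_⟩
  conv_lhs => rw [← S.sum_proj w]
  rw [Finset.sum_range_succ, Finset.sum_range_one, e, e', pow_zero, one_smul, pow_one]

theorem split_inj {u u' v v' : W} (hu : u ∈ S.W0) (hu' : u' ∈ S.W0) (hv : v ∈ S.W0)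
    (hv' : v' ∈ S.W0) (h : u + b • u' = v + b • v') : u = v ∧ u' = v' := by
  have h1 := congrArg (proj (y := y) (r := 2) (1 : L)) h
  rw [map_add, map_add, S.proj_of_eig (one_pow 2) (S.eig_iff.2 hu),
    S.proj_of_eig (one_pow 2) (S.eig_iff.2 hv),
    S.proj_of_eig_ne (one_pow 2) S.root.pow_eq_one (S.eig_b hu') (S.root.ne_one S.prime.one_lt),
    S.proj_of_eig_ne (one_pow 2) S.root.pow_eq_one (S.eig_b hv') (S.root.ne_one S.prime.one_lt),
    add_zero, add_zero] at h1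
  rw [h1] at h
  exact ⟨h1, smul_left_cancel b (add_left_cancel h)⟩

theorem card_sq [Finite W] : Nat.card W = Nat.card S.W0 * Nat.card S.W0 := by
  rw [← Nat.card_prod]
  refine (Nat.card_eq_of_bijective (fun p : S.W0 × S.W0 => (p.1 : W) + b • (p.2 : W)) ⟨?_, ?_⟩).symm
  · rintro ⟨p1, p2⟩ ⟨q1, q2⟩ e
    obtain ⟨e1, e2⟩ := S.split_inj p1.2 p2.2 q1.2 q2.2 e
    rw [Subtype.ext e1, Subtype.ext e2]
  · intro w
    obtain ⟨u, hu, u', hu', rfl⟩ := S.split_surj w
    exact ⟨(⟨u, hu⟩, ⟨u', hu'⟩), rfl⟩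

/-- Elements of `B` split along `b`. -/
theorem decompose {x : Γ} (hx : x ∈ B) :
    ∃ a < 2, ∃ x' ∈ B, x' ∈ S.N ∧ x = b ^ a * x' := by
  haveI := hs.nontrivial
  haveI : NeZero (2 : ℕ) := ⟨two_ne_zero⟩
  obtain ⟨c, hc⟩ := hs.comm y S.mem_y x hx
  have hc0 : c = 1 ∨ c = -1 := by
    obtain ⟨w, hw⟩ := @exists_ne S.W0 S.nontrivial_W0 0
    have hw' : (w : W) ≠ 0 := fun e => hw (Subtype.ext e)
    have h1 : y • x • (w : W) = c • x • (w : W) := by rw [hc, show y • (w : W) = w from w.2]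
    have h2 : (c * c - 1) • x • (w : W) = 0 := by
      rw [sub_smul, one_smul, mul_smul, ← h1, ← hs.lin y S.mem_y, ← h1, ← mul_smul y y, ← pow_two,
        S.pow_y, sub_self]
    refine mul_self_eq_one_iff.1 (sub_eq_zero.1 ((smul_eq_zero.1 h2).resolve_right fun e => ?_))
    exact hw' ((smul_eq_zero_iff_eq x).1 e)
  rcases hc0 with rfl | rfl
  · exact ⟨0, two_pos, x, hx, S.mem_N_of_comm fun w => by rw [hc, one_smul],
      by rw [pow_zero, one_mul]⟩
  · refine ⟨1, one_lt_two, b⁻¹ * x, B.mul_mem (B.inv_mem S.mem_b) hx, S.mem_N_of_comm fun w => ?_,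
      by rw [pow_one, mul_inv_cancel_left]⟩
    refine smul_left_cancel b ?_
    have h1 := hc w
    rw [mul_smul b⁻¹ x w, mul_smul b⁻¹ x (y • w), smul_inv_smul]
    have h2 : y • b • (b⁻¹ • x • w) = -(b • y • (b⁻¹ • x • w)) := by
      rw [S.comm_yb, S.zeta_eq, neg_one_smul]
    rw [smul_inv_smul, h1, neg_one_smul, neg_inj] at h2
    exact h2.symm

theorem exists_lift {x : Γ} (hx : x ∈ B) (hxN : x ∈ S.N) :
    ∃ z ∈ B, (∀ w : W, y • z • w = z • y • w) ∧ (∀ w : W, z • b • w = b • z • w) ∧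
      ∀ u ∈ S.W0, z • u = x • u := by
  obtain ⟨k, hk⟩ := S.exists_phase hx
  have hxy := S.comm_of_mem_N hx hxN
  refine ⟨x * y ^ k, B.mul_mem hx (B.pow_mem S.mem_y k), fun w => ?_, fun w => ?_, fun u hu => ?_⟩
  · rw [mul_smul, mul_smul, hxy, ← mul_smul y (y ^ k), ← mul_smul (y ^ k) y, ← pow_succ', ← pow_succ]
  · rw [mul_smul, mul_smul, S.y_phase, hs.lin x hx, hk, ← mul_smul (ζ ^ k), ← pow_add, ← two_mul,
      pow_mul, S.root.pow_eq_one, one_pow, one_smul]
  · rw [mul_smul, S.y_pow_fix hu]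

/-- The model of the whole space from a model of the fixed space. -/
theorem rep_double {M : Model} (hd : ∀ w : W, (b ^ 2) • w = w)
    (R : @Rep ↥S.N _ M S.B0 ↥S.W0 _ S.act) : Nonempty (Rep M.double B W) := by
  classical
  haveI := hs.nontrivial
  letI := S.act
  have hlift : ∀ e, ∃ z : Γ, e < M.S → z ∈ B ∧ (∀ w : W, y • z • w = z • y • w) ∧
      (∀ w : W, z • b • w = b • z • w) ∧ ∀ u : ↥S.W0, z • (u : W) = ((R.φ e • u : ↥S.W0) : W) := by
    intro e
    by_cases he : e < M.S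
    · obtain ⟨z, hz, h1, h2, h3⟩ := S.exists_lift (x := (R.φ e : Γ)) (R.mem e he) (R.φ e).2
      exact ⟨z, fun _ => ⟨hz, h1, h2, fun u => h3 u u.2⟩⟩
    · exact ⟨1, fun h => absurd h he⟩
  choose lift hlift using hlift
  let ι : ℕ → W := fun x => (R.ι (x % M.P) : W) + b • (R.ι (x / M.P) : W)
  have hP : 0 < M.P := R.pos
  have hι : ∀ a < M.P, ∀ c, ι (a + M.P * c) = (R.ι a : W) + b • (R.ι c : W) := fun a ha c => by
    show (R.ι ((a + M.P * c) % M.P) : W) + b • (R.ι ((a + M.P * c) / M.P) : W) = _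
    rw [Nat.add_mul_mod_self_left, Nat.mod_eq_of_lt ha, Nat.add_mul_div_left _ _ hP,
      Nat.div_eq_of_lt ha, zero_add]
  have hbound : ∀ a < M.P, ∀ c < M.P, a + M.P * c < M.P * M.P := fun a ha c hc => by
    calc a + M.P * c < M.P + M.P * c := by omega
      _ = M.P * (c + 1) := by ring
      _ ≤ M.P * M.P := Nat.mul_le_mul_left _ hc
  have hdig : ∀ x < M.P * M.P, x % M.P < M.P ∧ x / M.P < M.P := fun x hx =>
    ⟨Nat.mod_lt _ hP, Nat.div_lt_of_lt_mul hx⟩
  have hb2 : ∀ w : W, b • b • w = w := fun w => by rw [← mul_smul, ← pow_two, hd]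
  have hcode : ∀ e < 4 * M.S, e % M.S < M.S ∧ e / M.S < 4 := fun e he => by
    have hS : 0 < M.S := Nat.pos_of_ne_zero fun h => by rw [h, mul_zero] at he; omega
    exact ⟨Nat.mod_lt _ hS, Nat.div_lt_of_lt_mul (by rwa [mul_comm])⟩
  refine ⟨{
    φ := fun e => lift (e % M.S) * b ^ (e / M.S % 2) * y ^ (e / M.S / 2)
    ι := ι
    mem := fun e he => B.mul_mem (B.mul_mem (hlift _ (hcode e he).1).1 (B.pow_mem S.mem_b _))
      (B.pow_mem S.mem_y _)
    cover := ?_
    act_eq := ?_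
    add_eq := ?_
    neg_eq := ?_
    zero := ?_
    pos := Nat.mul_pos hP hP
    inj := ?_
    units_lt := ?_
    gen := ?_ }⟩
  · intro x hx
    obtain ⟨a, ha, x', hx', hx'N, rfl⟩ := S.decompose hx
    obtain ⟨e0, he0, hcov⟩ := R.cover ⟨x', hx'N⟩ hx'
    obtain ⟨hzB, hzy, hzb, hz0⟩ := hlift e0 he0
    obtain ⟨k, hk⟩ := S.eq_pow_of_fix (x := (lift e0)⁻¹ * x') (B.mul_mem (B.inv_mem hzB) hx')
      fun u hu => by
        have h1 : x' • u = lift e0 • u := by
          have h2 := congrArg Subtype.val (hcov ⟨u, hu⟩)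
          rw [← hz0] at h2
          exact h2
        rw [mul_smul, h1, inv_smul_smul]
    refine ⟨e0 + M.S * (a + 2 * (k % 2)), ?_, fun w => ?_⟩
    · calc e0 + M.S * (a + 2 * (k % 2)) < M.S * (a + 2 * (k % 2) + 1) := by simp only [mul_add, mul_one]; omega
        _ ≤ M.S * 4 := Nat.mul_le_mul_left _ (by omega)
        _ = 4 * M.S := mul_comm _ _
    · have hS : 0 < M.S := by omega
      rw [show (e0 + M.S * (a + 2 * (k % 2))) % M.S = e0 by
          rw [Nat.add_mul_mod_self_left, Nat.mod_eq_of_lt he0],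
        show (e0 + M.S * (a + 2 * (k % 2))) / M.S = a + 2 * (k % 2) by
          rw [Nat.add_mul_div_left _ _ hS, Nat.div_eq_of_lt he0, zero_add],
        show (a + 2 * (k % 2)) % 2 = a by omega, show (a + 2 * (k % 2)) / 2 = k % 2 by omega,
        mul_smul, mul_smul, mul_smul, ← S.ypow_parity, ← hk, mul_smul]
      interval_cases a
      · rw [pow_zero, one_smul, one_smul, smul_inv_smul]
      · rw [pow_one, hzb, smul_inv_smul]
  · intro e he x hx
    obtain ⟨he0, he4⟩ := hcode e he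
    obtain ⟨hx0, hx1⟩ := hdig x hx
    obtain ⟨hzB, hzy, hzb, hz0⟩ := hlift _ he0
    have hz : ∀ u < M.P, lift (e % M.S) • (R.ι u : W) = R.ι (M.act (e % M.S) u) := fun u hu => by
      rw [hz0]
      exact congrArg Subtype.val (R.act_eq _ he0 u hu).2
    have hn : ∀ u < M.P, M.neg u < M.P ∧ -(R.ι u : W) = R.ι (M.neg u) := fun u hu =>
      ⟨(R.neg_eq u hu).1, congrArg Subtype.val (R.neg_eq u hu).2⟩
    have h1 : ∀ u : ↥S.W0, y • (u : W) = u := fun u => u.2
    have hr : e / M.S % 2 < 2 := Nat.mod_lt _ two_pos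
    have hr' : e / M.S / 2 < 2 := by omega
    simp only [mul_smul]
    have hx' : ι x = (R.ι (x % M.P) : W) + b • (R.ι (x / M.P) : W) := rfl
    rw [hx']
    obtain ⟨hn1, hn2⟩ := hn _ hx1
    clear hx'
    have hcase : (e / M.S / 2 = 0 ∨ e / M.S / 2 = 1) ∧ (e / M.S % 2 = 0 ∨ e / M.S % 2 = 1) := by
      have h4 : e / M.S < 4 := he4
      generalize e / M.S = r at h4 ⊢
      omega
    obtain ⟨hs' | hs', ha | ha⟩ := hcase <;>
      simp only [Model.double, hs', ha, if_true, if_false, zero_ne_one, pow_zero, pow_one, one_smul,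
        smul_add, hb2, h1, S.smul_W0_b (R.ι (x / M.P)).2, smul_neg, hzb, hz _ hx0, hz _ hx1]
    · exact ⟨hbound _ (R.act_eq _ he0 _ hx0).1 _ (R.act_eq _ he0 _ hx1).1,
        (hι _ (R.act_eq _ he0 _ hx0).1 _).symm⟩
    · refine ⟨hbound _ (R.act_eq _ he0 _ hx1).1 _ (R.act_eq _ he0 _ hx0).1, ?_⟩
      rw [hι _ (R.act_eq _ he0 _ hx1).1, add_comm]
    · refine ⟨hbound _ (R.act_eq _ he0 _ hx0).1 _ (R.act_eq _ he0 _ hn1).1, ?_⟩
      rw [hι _ (R.act_eq _ he0 _ hx0).1, ← hz _ hn1, ← hn2, smul_neg, hz _ hx1, smul_neg]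
    · refine ⟨hbound _ (R.act_eq _ he0 _ hn1).1 _ (R.act_eq _ he0 _ hx0).1, ?_⟩
      rw [hι _ (R.act_eq _ he0 _ hn1).1, ← hz _ hn1, ← hn2, smul_neg, hz _ hx1, add_comm]
  · intro x hx x' hx'
    obtain ⟨hx0, hx1⟩ := hdig x hx
    obtain ⟨hx0', hx1'⟩ := hdig x' hx'
    obtain ⟨a1, a2⟩ := R.add_eq _ hx0 _ hx0'
    obtain ⟨c1, c2⟩ := R.add_eq _ hx1 _ hx1'
    refine ⟨hbound _ a1 _ c1, ?_⟩
    show _ = ι (M.add (x % M.P) (x' % M.P) + M.P * M.add (x / M.P) (x' / M.P))
    rw [hι _ a1, ← a2, ← c2, AddMemClass.coe_add, AddMemClass.coe_add, smul_add]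
    show (R.ι (x % M.P) : W) + b • (R.ι (x / M.P) : W) + ((R.ι (x' % M.P) : W) + b • (R.ι (x' / M.P) : W)) = _
    abel
  · intro x hx
    obtain ⟨hx0, hx1⟩ := hdig x hx
    obtain ⟨a1, a2⟩ := R.neg_eq _ hx0
    obtain ⟨c1, c2⟩ := R.neg_eq _ hx1
    refine ⟨hbound _ a1 _ c1, ?_⟩
    show _ = ι (M.neg (x % M.P) + M.P * M.neg (x / M.P))
    rw [hι _ a1, ← a2, ← c2, NegMemClass.coe_neg, NegMemClass.coe_neg, smul_neg]
    show -((R.ι (x % M.P) : W) + b • (R.ι (x / M.P) : W)) = _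
    abel
  · show (R.ι (0 % M.P) : W) + b • (R.ι (0 / M.P) : W) = 0
    rw [Nat.zero_mod, Nat.zero_div, R.zero, ZeroMemClass.coe_zero, smul_zero, add_zero]
  · intro x hx x' hx' e
    obtain ⟨hx0, hx1⟩ := hdig x hx
    obtain ⟨hx0', hx1'⟩ := hdig x' hx'
    obtain ⟨e1, e2⟩ := S.split_inj (R.ι (x % M.P)).2 (R.ι (x / M.P)).2 (R.ι (x' % M.P)).2
      (R.ι (x' / M.P)).2 e
    rw [← Nat.mod_add_div x M.P, ← Nat.mod_add_div x' M.P, R.inj _ hx0 _ hx0' (Subtype.ext e1),
      R.inj _ hx1 _ hx1' (Subtype.ext e2)]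
  · intro u hu
    rcases List.mem_append.1 hu with h | h
    · exact lt_of_lt_of_le (R.units_lt u h) (Nat.le_mul_of_pos_left _ hP)
    · obtain ⟨v, hv, rfl⟩ := List.mem_map.1 h
      exact (Nat.mul_lt_mul_left hP).2 (R.units_lt v hv)
  · intro K hK w
    have h0 : ∀ p : ↥S.W0, (p : W) ∈ K := fun p => R.gen (K.comap S.W0.subtype.toAddMonoidHom)
      (fun u hu => by
        have h := hK u (List.mem_append_left _ hu)
        rw [show u = u + M.P * 0 by simp, hι _ (R.units_lt u hu), R.zero, ZeroMemClass.coe_zero,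
          smul_zero, add_zero] at h
        exact h) p
    have h1 : ∀ p : ↥S.W0, b • (p : W) ∈ K := fun p => R.gen
      (K.comap ((DistribSMul.toAddMonoidHom W b).comp S.W0.subtype.toAddMonoidHom))
      (fun u hu => by
        have h := hK _ (List.mem_append_right _ (List.mem_map.2 ⟨u, hu, rfl⟩))
        rw [show M.P * u = 0 + M.P * u by simp, hι _ hP, R.zero, ZeroMemClass.coe_zero, zero_add] at h
        exact h) p
    obtain ⟨u, hu, u', hu', rfl⟩ := S.split_surj w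
    exact K.add_mem (h0 ⟨u, hu⟩) (h1 ⟨u', hu'⟩)

end Step

end CfsgLib.CoprimeBase
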