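import Cfsg.Agent.Lib.CoprimeBase.Transfer
import Cfsg.Prelude.Def_OddOrderLocal
import Cfsg.Agent.S3743
import Mathlib.GroupTheory.SchurZassenhaus

/-!
Three conjugates of a Hall `π`-subgroup of a `π`-solvable group meet in the `π`-core.
-/

set_option autoImplicit false
set_option linter.unusedSectionVars false

open scoped Pointwise

namespace CfsgLib.CoprimeBase

universe u

/-- The series hypothesis. -/
def HasPiSeries (π : Set ℕ) (G : Type u) [Group G] : Prop :=
  ∃ (n : ℕ) (N : Fin (n + 1) → Subgroup G), N 0 = ⊥ ∧ N (Fin.last n) = ⊤ ∧ Monotone N ∧ (∀ i, (N i).Normal) ∧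
    ∀ i : Fin n, (∃ p ∈ π, p.Prime ∧ ∃ k : ℕ, (N i.castSucc).relIndex (N i.succ) = p ^ k) ∨
      (∀ q : ℕ, q.Prime → q ∣ (N i.castSucc).relIndex (N i.succ) → q ∉ π)

variable {G : Type u} [Group G] [Finite G] {π : Set ℕ}

theorem relIndex_dvd_right (H : Subgroup G) [H.Normal] {K L : Subgroup G} (h : K ≤ L) :
    H.relIndex K ∣ H.relIndex L := by
  rw [← Subgroup.relIndex_subgroupOf h]
  exact Subgroup.relIndex_dvd_index_of_normal _ _

theorem relIndex_map_dvd' {G' : Type u} [Group G'] (f : G →* G') (A B : Subgroup G) :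
    (A.map f).relIndex (B.map f) ∣ A.relIndex B := by
  rw [Subgroup.relIndex, ← Subgroup.index_comap_of_surjective _ (f.subgroupMap_surjective B)]
  exact Subgroup.index_dvd_of_le fun x hx => ⟨_, hx, rfl⟩

/-- A Hall subgroup of a π-separable group with trivial π-core. -/
theorem inf_centralizer_eq_bot (hser : HasPiSeries π G) (hO : Cfsg.piCore π G = ⊥) :
    Subgroup.centralizer (Cfsg.piCore πᶜ G : Set G) ≤ Cfsg.piCore πᶜ G := by
  obtain ⟨n, N, h0, hn, hmono, hnorm, hstep⟩ := hser
  set K := Cfsg.piCore πᶜ G with hK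
  set C := Subgroup.centralizer (K : Set G)
  haveI : K.Normal := Cfsg.piCore_normal _ _
  have hKπ : ∀ p : ℕ, p.Prime → p ∣ Nat.card K → p ∉ π := Cfsg.Agent.S3743.piCore_isPi _
  suffices h : ∀ i, N i ⊓ C ≤ K by
    intro c hc
    exact h (Fin.last n) ⟨hn ▸ Subgroup.mem_top c, hc⟩
  intro i
  induction i using Fin.induction with
  | zero => rw [h0, bot_inf_eq]; exact bot_le
  | succ i ih =>
    haveI := hnorm i.succ
    haveI := hnorm i.castSucc
    set M := N i.succ ⊓ C with hM
    haveI : M.Normal := inferInstance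
    by_contra hnot
    have hle : (N i.castSucc).subgroupOf M ≤ (K.subgroupOf M) := fun x hx => ih ⟨hx, x.2.2⟩
    have hdvd : K.relIndex M ∣ (N i.castSucc).relIndex (N i.succ) :=
      (Subgroup.index_dvd_of_le hle).trans (relIndex_dvd_right _ inf_le_left)
    have hMK : ∀ p : ℕ, p.Prime → p ∣ Nat.card M → p ∣ Nat.card K ∨ p ∣ K.relIndex M := by
      intro p hp hd
      rw [← Subgroup.index_mul_card (K.subgroupOf M)] at hd
      rcases hp.dvd_mul.1 hd with h | h
      · exact Or.inr h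
      · refine Or.inl (h.trans ?_)
        exact Subgroup.card_dvd_of_injective
          ({ toFun := fun x => ⟨((x : ↥M) : G), x.2⟩, map_one' := rfl, map_mul' := fun _ _ => rfl } :
            ↥(K.subgroupOf M) →* ↥K) fun x y e => Subtype.ext (Subtype.ext
              (congrArg (fun z : ↥K => (z : G)) e))
    rcases hstep i with ⟨p, hpπ, hp, k, hk⟩ | hq
    · -- a π-factor
      rw [hk] at hdvd
      set D := K.subgroupOf M
      have hcop : Nat.Coprime (Nat.card D) D.index := by
        refine Nat.coprime_of_dvd fun q hq h1 h2 => ?_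
        have h3 : q ∣ p ^ k := h2.trans hdvd
        have h4 := hq.dvd_of_dvd_pow h3
        rw [(Nat.prime_dvd_prime_iff_eq hq hp).1 h4] at h1
        refine hKπ p hp ?_ hpπ
        exact h1.trans (Subgroup.card_dvd_of_injective
          ({ toFun := fun x => ⟨((x : ↥M) : G), x.2⟩, map_one' := rfl, map_mul' := fun _ _ => rfl } :
            ↥D →* ↥K) fun x y e => Subtype.ext (Subtype.ext
              (congrArg (fun z : ↥K => (z : G)) e)))
      obtain ⟨Q, hQ⟩ := Subgroup.exists_right_complement'_of_coprime hcop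
      have hcomm : ∀ d ∈ D, ∀ x : ↥M, d * x = x * d := fun d hd x =>
        Subtype.ext ((x.2.2 : (x : G) ∈ C) (d : G) hd)
      have hQn : Q.Normal := by
        refine ⟨fun x hx g => ?_⟩
        obtain ⟨d, hd, y, hy, rfl⟩ : ∃ d ∈ D, ∃ y ∈ Q, d * y = g := by
          have := (hQ.sup_eq_top ▸ Subgroup.mem_top g : g ∈ D ⊔ Q)
          exact Subgroup.mem_sup_of_normal_left.1 this
        have h1 : y * x * y⁻¹ ∈ Q := Q.mul_mem (Q.mul_mem hy hx) (Q.inv_mem hy)
        rw [show d * y * x * (d * y)⁻¹ = d * (y * x * y⁻¹) * d⁻¹ by group,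
          hcomm d hd (y * x * y⁻¹), mul_inv_cancel_right]
        exact h1
      have hQπ : ∀ q : ℕ, q.Prime → q ∣ Nat.card (Q.map M.subtype) → q ∈ π := by
        intro q hq hd
        rw [Subgroup.card_map_of_injective M.subtype_injective, ← hQ.symm.index_eq_card] at hd
        rw [(Nat.prime_dvd_prime_iff_eq hq hp).1 (hq.dvd_of_dvd_pow (hd.trans hdvd))]
        exact hpπ
      have hMsub : M.IsSubnormal := Subgroup.Normal.isSubnormal inferInstance
      have hQsub : (Q.map M.subtype).IsSubnormal := hQn.isSubnormal.trans' hMsub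
      have h5 : Q.map M.subtype ≤ Cfsg.piCore π G :=
        Cfsg.Agent.S3743.le_piCore_of_isSubnormal π hQsub hQπ
      rw [hO] at h5
      refine hnot fun x hx => ?_
      obtain ⟨d, hd, y, hy, hdy⟩ : ∃ d ∈ D, ∃ y ∈ Q, d * y = (⟨x, hx⟩ : ↥M) :=
        Subgroup.mem_sup_of_normal_left.1 (hQ.sup_eq_top ▸ Subgroup.mem_top (⟨x, hx⟩ : ↥M))
      have hy1 : y = 1 := Subtype.ext (Subgroup.mem_bot.1 (h5 ⟨y, hy, rfl⟩))
      rw [hy1, mul_one] at hdy
      have := hd
      rw [hdy] at this
      exact this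
    · -- a π'-factor
      refine hnot (le_sSup ⟨inferInstance, fun p hp hd => ?_⟩)
      rcases hMK p hp hd with h | h
      · exact hKπ p hp h
      · exact hq p hp (h.trans hdvd)

/-- A π-subgroup of a π-separable group with π-solvable factors is solvable. -/
theorem solvable_of_series (hser : HasPiSeries π G) (H : Subgroup G)
    (hH : ∀ p : ℕ, p.Prime → p ∣ Nat.card H → p ∈ π) : Group.IsSolvable ↥H := by
  obtain ⟨n, N, h0, hn, hmono, hnorm, hstep⟩ := hser
  suffices h : ∀ i, Group.IsSolvable ↥((N i).subgroupOf H) by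
    have h2 := h (Fin.last n)
    rw [hn, Subgroup.top_subgroupOf] at h2
    exact Group.isSolvable_of_surjective (f := (Subgroup.topEquiv (G := ↥H)).toMonoidHom)
      Subgroup.topEquiv.surjective
  intro i
  induction i using Fin.induction with
  | zero =>
    rw [h0, Subgroup.bot_subgroupOf]
    infer_instance
  | succ i ih =>
    haveI := hnorm i.castSucc
    haveI := hnorm i.succ
    set X := (N i.succ).subgroupOf H
    set D := ((N i.castSucc).subgroupOf H).subgroupOf X
    haveI : D.Normal := inferInstance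
    haveI : Group.IsSolvable ↥D := Group.isSolvable_of_surjective
      (f := (Subgroup.subgroupOfEquivOfLe (show (N i.castSucc).subgroupOf H ≤ X from
        fun x hx => hmono (Fin.castSucc_le_succ i) hx)).symm.toMonoidHom) (MulEquiv.surjective _)
    have hd1 : D.index ∣ Nat.card ↥H := (D.index_dvd_card).trans X.card_subgroup_dvd_card
    have hd2 : D.index ∣ (N i.castSucc).relIndex (N i.succ) := by
      have e : D.index = (N i.castSucc).relIndex (N i.succ ⊓ H) := by
        show ((N i.castSucc).subgroupOf H).relIndex X = _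
        rw [← Subgroup.relIndex_map_map_of_injective _ _ H.subtype_injective,
          Subgroup.subgroupOf_map_subtype, Subgroup.subgroupOf_map_subtype]
        rw [show N i.castSucc ⊓ H = N i.castSucc ⊓ H ⊓ (N i.succ ⊓ H) from
          (inf_of_le_left (inf_le_inf_right H (hmono (Fin.castSucc_le_succ i)))).symm,
          Subgroup.inf_relIndex_right]
        have e2 : N i.castSucc ⊓ H ⊓ (N i.succ ⊓ H) = N i.castSucc ⊓ (N i.succ ⊓ H) := by
          rw [inf_assoc]; exact congrArg _ (inf_of_le_right inf_le_right)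
        rw [← Subgroup.inf_relIndex_right (N i.castSucc ⊓ H) (N i.succ ⊓ H), e2,
          Subgroup.inf_relIndex_right]
      rw [e]
      exact relIndex_dvd_right _ inf_le_left
    haveI : Group.IsSolvable (↥X ⧸ D) := by
      rcases hstep i with ⟨p, -, hp, k, hk⟩ | hq
      · rw [hk] at hd2
        obtain ⟨j, -, hj⟩ := (Nat.dvd_prime_pow hp).1 hd2
        haveI := Fact.mk hp
        haveI : Group.IsNilpotent (↥X ⧸ D) := (IsPGroup.of_card (n := j) hj).isNilpotent
        infer_instance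
      · have h1 : D.index = 1 := by
          by_contra hne
          obtain ⟨q, hqp, hqd⟩ := Nat.exists_prime_and_dvd hne
          exact hq q hqp (hqd.trans hd2) (hH q hqp (hqd.trans hd1))
        haveI : Subsingleton (↥X ⧸ D) := (Nat.card_eq_one_iff_unique.1 h1).1
        infer_instance
    exact Group.isSolvable_of_ker_le_range D.subtype (QuotientGroup.mk' D) (by simp)

theorem HasPiSeries.quotient (hser : HasPiSeries π G) (O : Subgroup G) [O.Normal] :
    HasPiSeries π (G ⧸ O) := by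
  obtain ⟨n, N, h0, hn, hmono, hnorm, hstep⟩ := hser
  refine ⟨n, fun i => (N i).map (QuotientGroup.mk' O), by simp [h0], ?_, fun i j h =>
    Subgroup.map_mono (hmono h), fun i => (hnorm i).map _ (QuotientGroup.mk'_surjective O), fun i => ?_⟩
  · simp only [hn]
    exact Subgroup.map_top_of_surjective _ (QuotientGroup.mk'_surjective O)
  have hd := relIndex_map_dvd' (QuotientGroup.mk' O) (N i.castSucc) (N i.succ)
  rcases hstep i with ⟨p, hpπ, hp, k, hk⟩ | hq
  · rw [hk] at hd
    obtain ⟨j, -, hj⟩ := (Nat.dvd_prime_pow hp).1 hd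
    exact Or.inl ⟨p, hpπ, hp, j, hj⟩
  · exact Or.inr fun q hqp h => hq q hqp (h.trans hd)

/-- The π-core lies in every Hall π-subgroup. -/
theorem piCore_le_hall {H : Subgroup G} (hH : Cfsg.IsPiHall π H) : Cfsg.piCore π G ≤ H := by
  set O := Cfsg.piCore π G
  haveI : O.Normal := Cfsg.piCore_normal _ _
  suffices h : O ⊔ H ≤ H from le_sup_left.trans h
  rw [← Subgroup.relIndex_eq_one]
  by_contra hne
  obtain ⟨p, hp, hpd⟩ := Nat.exists_prime_and_dvd hne
  refine hH.2 p hp ?_ (hpd.trans (Subgroup.relIndex_dvd_index_of_le le_sup_right))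
  rcases hp.dvd_mul.1 ((hpd.trans (Subgroup.index_dvd_card _)).trans
    (CfsgLib.Cores.card_sup_dvd_mul O H)) with h | h
  · exact Cfsg.Agent.S3743.piCore_isPi π p hp h
  · exact hH.1 p hp h

/-- The main reduction. -/
theorem three_conjugates
    (two : ∀ (A K : Type u) [Group A] [Finite A] [Group K] [Finite K] [MulDistribMulAction A K]
      [FaithfulSMul A K], Group.IsSolvable A → (Nat.card A).Coprime (Nat.card K) →
      ∃ x y : K, ∀ a : A, a • x = x → a • y = y → a = 1)
    (hser : HasPiSeries π G) (H : Subgroup G) (hH : Cfsg.IsPiHall π H) :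
    ∃ x y : G, H ⊓ MulAut.conj x • H ⊓ MulAut.conj y • H = Cfsg.piCore π G := by
  set O := Cfsg.piCore π G with hOdef
  haveI : O.Normal := Cfsg.piCore_normal _ _
  have hOH := piCore_le_hall hH
  let q := QuotientGroup.mk' O
  have hqs := QuotientGroup.mk'_surjective O
  have hO' : Cfsg.piCore π (G ⧸ O) = ⊥ := by
    set P := Cfsg.piCore π (G ⧸ O)
    haveI : P.Normal := Cfsg.piCore_normal _ _
    have hle : P.comap q ≤ O := by
      refine le_sSup ⟨inferInstance, fun p hp hd => ?_⟩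
      rw [← Subgroup.index_mul_card (O.subgroupOf (P.comap q))] at hd
      rcases hp.dvd_mul.1 hd with h | h
      · refine Cfsg.Agent.S3743.piCore_isPi (H := G ⧸ O) π p hp (h.trans ?_)
        have hker : O = q.ker := (QuotientGroup.ker_mk' O).symm
        rw [show (O.subgroupOf (P.comap q)).index = q.ker.relIndex (P.comap q) by rw [← hker]; rfl,
          Subgroup.relIndex_ker, Subgroup.map_comap_eq_self_of_surjective hqs]
      · refine Cfsg.Agent.S3743.piCore_isPi (H := G) π p hp (h.trans ?_)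
        exact Subgroup.card_dvd_of_injective
          ({ toFun := fun x => ⟨((x : ↥(P.comap q)) : G), x.2⟩, map_one' := rfl,
             map_mul' := fun _ _ => rfl } : ↥(O.subgroupOf (P.comap q)) →* ↥O)
          fun x y e => Subtype.ext (Subtype.ext (congrArg (fun z : ↥O => (z : G)) e))
    rw [eq_bot_iff, ← Subgroup.map_comap_eq_self_of_surjective hqs P]
    rintro _ ⟨x, hx, rfl⟩
    exact Subgroup.mem_bot.2 ((QuotientGroup.eq_one_iff x).2 (hle hx))
  set H' := H.map q
  have hH'π : ∀ p : ℕ, p.Prime → p ∣ Nat.card H' → p ∈ π := fun p hp h =>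
    hH.1 p hp (h.trans (Subgroup.card_map_dvd H q))
  set K := Cfsg.piCore πᶜ (G ⧸ O) with hKdef
  haveI hKn : K.Normal := Cfsg.piCore_normal _ _
  have hcop : (Nat.card ↥H').Coprime (Nat.card ↥K) := Nat.coprime_of_dvd fun p hp h1 h2 =>
    (Cfsg.Agent.S3743.piCore_isPi πᶜ p hp h2) (hH'π p hp h1)
  letI : MulDistribMulAction ↥H' ↥K :=
    { smul := fun h k => ⟨(h : G ⧸ O) * k * (h : G ⧸ O)⁻¹, hKn.conj_mem k k.2 h⟩
      one_smul := fun k => Subtype.ext (by
        show (1 : G ⧸ O) * k * (1 : G ⧸ O)⁻¹ = k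
        rw [inv_one, one_mul, mul_one])
      mul_smul := fun a b k => Subtype.ext (by
        show ((a : G ⧸ O) * b) * k * ((a : G ⧸ O) * b)⁻¹ =
          (a : G ⧸ O) * ((b : G ⧸ O) * k * (b : G ⧸ O)⁻¹) * (a : G ⧸ O)⁻¹
        group)
      smul_mul := fun a k l => Subtype.ext (by
        show (a : G ⧸ O) * ((k : G ⧸ O) * l) * (a : G ⧸ O)⁻¹ =
          (a : G ⧸ O) * k * (a : G ⧸ O)⁻¹ * ((a : G ⧸ O) * l * (a : G ⧸ O)⁻¹)
        group)
      smul_one := fun a => Subtype.ext (by
        show (a : G ⧸ O) * (1 : G ⧸ O) * (a : G ⧸ O)⁻¹ = 1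
        group) }
  have hdis : ∀ z : G ⧸ O, z ∈ H' → z ∈ K → z = 1 := fun z h1 h2 => Subgroup.mem_bot.1
    (CfsgLib.Solvable.disjoint_of_coprime hcop ▸ Subgroup.mem_inf.2 ⟨h1, h2⟩)
  haveI : FaithfulSMul ↥H' ↥K := ⟨fun {a b} hab => by
    have hc : ((b : G ⧸ O)⁻¹ * a) ∈ Subgroup.centralizer (K : Set (G ⧸ O)) := by
      rw [Subgroup.mem_centralizer_iff]
      intro k hk
      have h := congrArg Subtype.val (hab ⟨k, hk⟩)
      change (a : G ⧸ O) * k * (a : G ⧸ O)⁻¹ = (b : G ⧸ O) * k * (b : G ⧸ O)⁻¹ at h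
      calc k * ((b : G ⧸ O)⁻¹ * a) = (b : G ⧸ O)⁻¹ * ((b : G ⧸ O) * k * (b : G ⧸ O)⁻¹) * a := by group
        _ = (b : G ⧸ O)⁻¹ * a * k := by rw [← h]; group
    have := hdis _ (H'.mul_mem (H'.inv_mem b.2) a.2)
      (inf_centralizer_eq_bot (hser.quotient O) hO' hc)
    exact Subtype.ext (inv_mul_eq_one.1 this).symm⟩
  obtain ⟨k, l, hkl⟩ := two ↥H' ↥K (solvable_of_series (hser.quotient O) H' hH'π) hcop
  obtain ⟨x, hx⟩ := hqs (k : G ⧸ O)
  obtain ⟨y, hy⟩ := hqs (l : G ⧸ O)
  refine ⟨x, y, le_antisymm ?_ (le_inf (le_inf hOH ?_) ?_)⟩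
  · rintro g ⟨⟨hg, hgx0⟩, hgy0⟩
    have hgx := CfsgLib.Solvable.mem_conj_smul_iff.1 hgx0
    have hgy := CfsgLib.Solvable.mem_conj_smul_iff.1 hgy0
    have key : ∀ (z : G) (m : ↥K), q z = (m : G ⧸ O) → z⁻¹ * g * z ∈ H →
        (⟨q g, ⟨g, hg, rfl⟩⟩ : ↥H') • m = m := by
      intro z m hz hzg
      have h1 : ((m : G ⧸ O))⁻¹ * q g * m ∈ H' := by
        rw [← hz, ← map_inv, ← map_mul, ← map_mul]; exact ⟨_, hzg, rfl⟩
      have h2 : (q g)⁻¹ * ((m : G ⧸ O)⁻¹ * q g * m) = 1 := by
        refine hdis _ (H'.mul_mem (H'.inv_mem ⟨g, hg, rfl⟩) h1) ?_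
        rw [show (q g)⁻¹ * ((m : G ⧸ O)⁻¹ * q g * m) = ((q g)⁻¹ * (m : G ⧸ O)⁻¹ * q g) * m by group]
        exact K.mul_mem (by simpa using hKn.conj_mem _ (K.inv_mem m.2) (q g)⁻¹) m.2
      refine Subtype.ext ?_
      show q g * m * (q g)⁻¹ = m
      rw [inv_mul_eq_one] at h2
      calc q g * m * (q g)⁻¹ = m * ((m : G ⧸ O)⁻¹ * q g * m) * (q g)⁻¹ := by group
        _ = m := by rw [← h2, mul_inv_cancel_right]
    have := hkl ⟨q g, ⟨g, hg, rfl⟩⟩ (key x k hx hgx) (key y l hy hgy)
    exact (QuotientGroup.eq_one_iff g).1 (congrArg Subtype.val this)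
  all_goals
    intro g hg
    rw [CfsgLib.Solvable.mem_conj_smul_iff]
    refine hOH ?_
    simpa using (‹O.Normal›).conj_mem g hg _⁻¹

end CfsgLib.CoprimeBase
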