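import Cfsg.Agent.Lib.CoprimeBase.Blocks
import Cfsg.Agent.Lib.OddBase.Main
import Mathlib.LinearAlgebra.Basis.VectorSpace
import Mathlib.Algebra.CharP.Lemmas
import Mathlib.GroupTheory.Perm.Cycle.Type

/-!
Reduction to a primitive group containing all scalars of the fields of its abelian normal subgroups.
-/

set_option autoImplicit false
set_option linter.unusedSectionVars false

namespace CfsgLib.CoprimeBase

open CfsgLib.OddBase (Inv actOn Good Base Irred ρ ρ_apply alg ρ_mem_alg alg_comm conj_mem_alg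
  finite_addSubgroup)

universe u v

/-- The statement for primitive groups. -/
def QuasiStatement : Prop :=
  ∀ (A V : Type u) [Group A] [Finite A] [AddCommGroup V] [Finite V] [DistribMulAction A V],
    FaithfulSMul A V → Setup A V → Irred A V → Hyp.{u} (Nat.card V) →
    (∀ X : Subgroup A, (∀ a ∈ X, ∀ b ∈ X, a * b = b * a) →
      (∀ g : A, ∀ a ∈ X, g * a * g⁻¹ ∈ X) → ∀ r ∈ alg V X, r ≠ 0 →
        Function.Injective r ∧ ∃ a : A, ρ A V a = r) → Base A V

theorem exists_projection {V : Type u} [AddCommGroup V] {p : ℕ} [Fact p.Prime] [Module (ZMod p) V]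
    (U : AddSubgroup V) : ∃ f : V →+ V, (∀ x, f x ∈ U) ∧ ∀ x ∈ U, f x = x := by
  let S := AddSubgroup.toZModSubmodule p U
  obtain ⟨q, hq⟩ := S.exists_isCompl
  refine ⟨(S.subtype ∘ₗ S.projectionOnto q hq).toAddMonoidHom, fun x => ?_, fun x hx => ?_⟩
  · exact (S.projectionOnto q hq x).2
  · exact congrArg Subtype.val (Submodule.projectionOnto_apply_left hq ⟨x, hx⟩)

theorem exists_compl {A V : Type u} [Group A] [Finite A] [AddCommGroup V]
    [DistribMulAction A V] {p : ℕ} [Fact p.Prime] (hpV : ∀ v : V, p • v = 0)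
    (hpA : ¬ p ∣ Nat.card A) (U : AddSubgroup V) (hU : Inv A V U) :
    ∃ W : AddSubgroup V, Inv A V W ∧ U ⊓ W = ⊥ ∧ U ⊔ W = ⊤ := by
  classical
  haveI := Fintype.ofFinite A
  letI : Module (ZMod p) V := AddCommGroup.zmodModule hpV
  obtain ⟨f, hf, hfU⟩ := exists_projection (p := p) U
  obtain ⟨m, -, hm⟩ := Nat.exists_mul_mod_eq_one_of_coprime
    (Nat.coprime_comm.1 ((Fact.out : p.Prime).coprime_iff_not_dvd.2 hpA)) (Fact.out : p.Prime).one_lt
  let g : V →+ V :=
    m • ∑ a : A, ((DistribSMul.toAddMonoidHom V a).comp f).comp (DistribSMul.toAddMonoidHom V a⁻¹)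
  have hg : ∀ x, g x = m • ∑ a : A, a • f (a⁻¹ • x) := fun x => by
    simp [g, AddMonoidHom.finset_sum_apply]
  have hgU : ∀ x, g x ∈ U := fun x => by
    rw [hg]
    exact U.nsmul_mem (sum_mem fun a _ => hU a _ (hf _)) m
  have hgid : ∀ x ∈ U, g x = x := fun x hx => by
    rw [hg, Finset.sum_congr rfl fun a _ => by rw [hfU _ (hU a⁻¹ x hx), smul_inv_smul],
      Finset.sum_const, Finset.card_univ, ← Nat.card_eq_fintype_card, ← mul_smul, mul_comm,
      ← Nat.div_add_mod (Nat.card A * m) p, hm, add_smul, one_smul, mul_smul, hpV, zero_add]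
  have hgeq : ∀ (b : A) x, g (b • x) = b • g x := fun b x => by
    rw [hg, hg, smul_comm b m]
    congr 1
    rw [Finset.smul_sum]
    refine Fintype.sum_equiv (M := V) (Equiv.mulLeft b⁻¹) _ _ fun a => ?_
    simp [mul_smul]
  refine ⟨g.ker, fun b x hx => ?_, ?_, ?_⟩
  · rw [AddMonoidHom.mem_ker] at hx ⊢
    rw [hgeq, hx, smul_zero]
  · rw [eq_bot_iff]
    intro x hx
    rw [AddSubgroup.mem_bot, ← hgid x hx.1]
    exact hx.2
  · rw [eq_top_iff]
    intro x _
    refine AddSubgroup.mem_sup.2 ⟨g x, hgU x, x - g x, ?_, add_sub_cancel _ _⟩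
    rw [AddMonoidHom.mem_ker, map_sub, hgid _ (hgU x), sub_self]

theorem base_of_split {A V : Type u} [Group A] [Finite A] [AddCommGroup V] [Finite V]
    [DistribMulAction A V] (hsol : Group.IsSolvable A) (hcop : (Nat.card A).Coprime (Nat.card V))
    (hsq : SqFree V) (hyp : Hyp.{u} (Nat.card V)) {U W : AddSubgroup V} (hU : Inv A V U)
    (hW : Inv A V W) (hdis : U ⊓ W = ⊥) (hsup : U ⊔ W = ⊤) (hU1 : U ≠ ⊤) (hU0 : U ≠ ⊥) :
    Base A V := by
  classical
  haveI := hsol
  have hlt : ∀ T : AddSubgroup V, T ≠ ⊤ → Nat.card ↥T < Nat.card V := fun T hT =>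
    lt_of_le_of_ne (Nat.card_le_card_of_injective _ Subtype.val_injective) fun e =>
      hT (T.eq_top_of_card_eq e)
  have hW1 : W ≠ ⊤ := fun e => hU0 (by rw [← hdis, e, inf_top_eq])
  letI := actOn U hU
  obtain ⟨⟨u1, u2⟩, hu⟩ := hyp A ↥U (hlt U hU1) hsol
    (hcop.coprime_dvd_right (AddSubgroup.card_addSubgroup_dvd_card U)) (hsq.addSubgroup U)
  let C : Subgroup A := fixingSubgroup A (U : Set V)
  have hWC : Inv (↥C) V W := fun c x hx => hW (c : A) x hx
  letI := actOn W hWC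
  obtain ⟨⟨w1, w2⟩, hw⟩ := hyp ↥C ↥W (hlt W hW1) inferInstance
    ((hcop.coprime_dvd_left C.card_subgroup_dvd_card).coprime_dvd_right
      (AddSubgroup.card_addSubgroup_dvd_card W)) (hsq.addSubgroup W)
  refine ⟨((u1 : V) + w1, (u2 : V) + w2), fun a h1 h2 => ?_⟩
  have key : ∀ (u : ↥U) (w : ↥W), a • ((u : V) + w) = (u : V) + w →
      a • (u : V) = u ∧ a • (w : V) = w := by
    intro u w h
    rw [smul_add] at h
    have e : a • (u : V) - u = w - a • (w : V) := by
      rw [sub_eq_sub_iff_add_eq_add, add_comm (w : V)]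
      exact h
    have hmem : a • (u : V) - u ∈ U ⊓ W :=
      ⟨U.sub_mem (hU a u u.2) u.2, e ▸ W.sub_mem w.2 (hW a w w.2)⟩
    rw [hdis, AddSubgroup.mem_bot] at hmem
    rw [hmem, eq_comm, sub_eq_zero] at e
    exact ⟨sub_eq_zero.1 hmem, e.symm⟩
  obtain ⟨a1, b1⟩ := key u1 w1 h1
  obtain ⟨a2, b2⟩ := key u2 w2 h2
  have haU : ∀ y ∈ U, a • y = y := fun y hy =>
    congrArg Subtype.val (hu a (Subtype.ext a1) (Subtype.ext a2) ⟨y, hy⟩)
  have haC : a ∈ C := (mem_fixingSubgroup_iff A).2 haU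
  have haW : ∀ y ∈ W, a • y = y := fun y hy =>
    congrArg Subtype.val (hw ⟨a, haC⟩ (Subtype.ext b1) (Subtype.ext b2) ⟨y, hy⟩)
  intro x
  have hx : x ∈ U ⊔ W := by rw [hsup]; trivial
  obtain ⟨y, hy, z, hz, rfl⟩ := AddSubgroup.mem_sup.1 hx
  rw [smul_add, haU y hy, haW z hz]

/-- The torsion of a prime. -/
theorem split_primes {A V : Type u} [Group A] [AddCommGroup V] [Finite V] [DistribMulAction A V]
    (hsq : SqFree V) {p : ℕ} (hp : p.Prime) :
    ∃ U W : AddSubgroup V, Inv A V U ∧ Inv A V W ∧ U ⊓ W = ⊥ ∧ U ⊔ W = ⊤ ∧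
      ∀ x, x ∈ U ↔ p • x = 0 := by
  let f : V →+ V := p • AddMonoidHom.id V
  refine ⟨f.ker, f.range, ?_, ?_, ?_, ?_, fun x => by simp [f]⟩
  · intro a x hx
    simp only [f, AddMonoidHom.mem_ker] at hx ⊢
    show p • (a • x) = 0
    rw [← smul_comm, show p • x = 0 from hx, smul_zero]
  · rintro a _ ⟨y, rfl⟩
    exact ⟨a • y, (smul_comm a p y).symm⟩
  · rw [eq_bot_iff]
    rintro _ ⟨hx, y, rfl⟩
    rw [AddSubgroup.mem_bot]
    refine hsq p hp y ?_
    rw [mul_smul]
    exact hx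
  · have hd : f.ker ⊓ f.range = ⊥ := by
      rw [eq_bot_iff]
      rintro _ ⟨hx, y, rfl⟩
      rw [AddSubgroup.mem_bot]
      exact hsq p hp y (by rw [mul_smul]; exact hx)
    let g : ↥f.ker × ↥f.range → V := fun q => (q.1 : V) + q.2
    have hg : Function.Injective g := by
      rintro ⟨a, b⟩ ⟨c, d⟩ e
      have h1 : (a : V) - c = d - b := by
        rw [sub_eq_sub_iff_add_eq_add, add_comm (d : V)]
        exact e
      have h2 : (a : V) - c ∈ f.ker ⊓ f.range :=
        ⟨f.ker.sub_mem a.2 c.2, h1 ▸ f.range.sub_mem d.2 b.2⟩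
      rw [hd, AddSubgroup.mem_bot] at h2
      refine Prod.ext (Subtype.ext (sub_eq_zero.1 h2)) (Subtype.ext ?_)
      rw [h2, eq_comm, sub_eq_zero] at h1
      exact h1.symm
    have hbij : Function.Bijective g := (Nat.bijective_iff_injective_and_card g).2
      ⟨hg, by
        rw [Nat.card_prod, ← Nat.card_congr (QuotientAddGroup.quotientKerEquivRange f).toEquiv,
          mul_comm, ← AddSubgroup.card_eq_card_quotient_mul_card_addSubgroup]⟩
    rw [eq_top_iff]
    intro x _
    obtain ⟨q, rfl⟩ := hbij.2 x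
    exact AddSubgroup.mem_sup.2 ⟨_, q.1.2, _, q.2.2, rfl⟩

theorem base_of_units (hq : QuasiStatement.{u}) {V : Type u} [AddCommGroup V] [Finite V]
    (hyp : Hyp.{u} (Nat.card V)) (G : Subgroup (AddMonoid.End V)ˣ) (ha : Setup ↥G V)
    (hirr : Irred ↥G V) : Base ↥G V := by
  classical
  haveI : Finite (AddMonoid.End V) :=
    Finite.of_injective (fun r : AddMonoid.End V => (r : V → V)) DFunLike.coe_injective
  induction hn : (Nat.card (AddMonoid.End V)ˣ - Nat.card ↥G) using Nat.strong_induction_on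
    generalizing G with
  | _ n ih =>
  subst hn
  haveI := ha.solvable
  haveI := ha.nontrivial
  haveI hfa : FaithfulSMul ↥G V :=
    ⟨fun {g h} e => Subtype.ext (Units.ext (AddMonoidHom.ext e))⟩
  by_contra hno
  refine hno (hq ↥G V hfa ha hirr hyp fun X hXc hXn r hr hr0 => ?_)
  have hinj := (base_or_field ha hirr hyp X hXc hXn).resolve_left hno
  refine ⟨hinj r hr hr0, ?_⟩
  let R := alg V X
  let U : Subgroup (AddMonoid.End V)ˣ :=
    { carrier := {u | (u : AddMonoid.End V) ∈ R}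
      one_mem' := R.one_mem
      mul_mem' := fun {a b} ha hb => R.mul_mem ha hb
      inv_mem' := fun {a} ha => by
        obtain ⟨i, hi⟩ : ∃ i : ℕ, a ^ i = a⁻¹ := ⟨orderOf a - 1, by
          refine eq_inv_of_mul_eq_one_left ?_
          rw [← pow_succ, Nat.sub_add_cancel (orderOf_pos a), pow_orderOf_eq_one]⟩
        show ((a⁻¹ : (AddMonoid.End V)ˣ) : AddMonoid.End V) ∈ R
        rw [← hi, Units.val_pow_eq_pow_val]
        exact R.pow_mem ha i }
  have hρ : ∀ g : ↥G, ρ ↥G V g = ((g : (AddMonoid.End V)ˣ) : AddMonoid.End V) := fun g => rfl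
  have hnorm : ∀ g ∈ G, ∀ u ∈ U, g * u * g⁻¹ ∈ U := fun g hg u hu =>
    conj_mem_alg hXn (⟨g, hg⟩ : ↥G) hu
  have hUn : G ≤ Subgroup.normalizer (U : Set (AddMonoid.End V)ˣ) := by
    intro g hg
    rw [Subgroup.mem_normalizer_iff]
    refine fun u => ⟨hnorm g hg u, fun hu => ?_⟩
    have := hnorm g⁻¹ (G.inv_mem hg) _ hu
    rwa [show g⁻¹ * (g * u * g⁻¹) * g⁻¹⁻¹ = u by group] at this
  have hUc : ∀ a ∈ U, ∀ b ∈ U, a * b = b * a := fun a ha' b hb => Units.ext (alg_comm hXc ha' hb)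
  have hpU : ¬ ha.p ∣ Nat.card ↥U := by
    intro hd
    haveI := Fact.mk ha.prime_p
    obtain ⟨x, hx⟩ := exists_prime_orderOf_dvd_card' (G := ↥U) ha.p hd
    have hx1 : (x : (AddMonoid.End V)ˣ) ≠ 1 := fun e => by
      have e' : x = 1 := Subtype.ext e
      rw [e', orderOf_one] at hx
      exact ha.prime_p.one_lt.ne hx
    haveI : CharP (AddMonoid.End V) ha.p := by
      refine ⟨fun m => ⟨fun h => ?_, fun ⟨c, hc⟩ => ?_⟩⟩
      · obtain ⟨v, hv⟩ := exists_ne (0 : V)
        have h1 : m • v = 0 := by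
          have h2 := congrArg (fun f : AddMonoid.End V => f v) h
          simpa [AddMonoid.End.natCast_apply] using h2
        have h2 : addOrderOf v = ha.p := addOrderOf_eq_prime (ha.p_smul v) hv
        exact h2 ▸ addOrderOf_dvd_of_nsmul_eq_zero h1
      · refine AddMonoidHom.ext fun v => ?_
        show (m : AddMonoid.End V) v = 0
        rw [AddMonoid.End.natCast_apply, hc, mul_comm, mul_smul, ha.p_smul, smul_zero]
    have hp1 : ((x : (AddMonoid.End V)ˣ) : AddMonoid.End V) ^ ha.p = 1 := by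
      rw [← Units.val_pow_eq_pow_val, ← Subgroup.coe_pow, ← hx, pow_orderOf_eq_one]
      rfl
    have h0 : (((x : (AddMonoid.End V)ˣ) : AddMonoid.End V) - 1) ^ ha.p = 0 := by
      rw [sub_pow_char_of_commute (p := ha.p) (Commute.one_right _), one_pow, hp1, sub_self]
    have hne : ((x : (AddMonoid.End V)ˣ) : AddMonoid.End V) - 1 ≠ 0 := fun e =>
      hx1 (Units.ext (sub_eq_zero.1 e))
    have hi := hinj _ (sub_mem x.2 (one_mem _)) hne
    have hpow : ∀ i : ℕ, Function.Injective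
        ((((x : (AddMonoid.End V)ˣ) : AddMonoid.End V) - 1) ^ i : AddMonoid.End V) := by
      intro i
      induction i with
      | zero => exact fun a b e => e
      | succ i ih' => rw [pow_succ]; exact ih'.comp hi
    obtain ⟨v, hv⟩ := exists_ne (0 : V)
    refine hv (hpow ha.p ?_)
    rw [h0]
    rfl
  -- the enlarged group
  let G' : Subgroup (AddMonoid.End V)ˣ := G ⊔ U
  have hle : G ≤ G' := le_sup_left
  haveI hU' : (U.subgroupOf G').Normal :=
    (Subgroup.normal_subgroupOf_iff_le_normalizer le_sup_right).2 (sup_le hUn Subgroup.le_normalizer)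
  let ψ : ↥G →* ↥G' ⧸ U.subgroupOf G' :=
    (QuotientGroup.mk' (U.subgroupOf G')).comp (Subgroup.inclusion hle)
  have hψ : Function.Surjective ψ := by
    intro q
    obtain ⟨⟨y, hy⟩, rfl⟩ := QuotientGroup.mk_surjective q
    obtain ⟨g, hg, u, hu, hgu⟩ : ∃ g ∈ G, ∃ u ∈ U, g * u = y := by
      have h : (y : (AddMonoid.End V)ˣ) ∈ ((G ⊔ U : Subgroup (AddMonoid.End V)ˣ) : Set (AddMonoid.End V)ˣ) := hy
      rw [Subgroup.coe_mul_of_left_le_normalizer_right G U hUn] at h
      exact h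
    subst hgu
    refine ⟨⟨g, hg⟩, ?_⟩
    show ((Subgroup.inclusion hle ⟨g, hg⟩ : ↥G') : ↥G' ⧸ U.subgroupOf G') = _
    rw [QuotientGroup.eq, Subgroup.mem_subgroupOf]
    simpa [mul_assoc] using hu
  haveI hquot : Group.IsSolvable (↥G' ⧸ U.subgroupOf G') :=
    Group.isSolvable_of_surjective hψ
  haveI : Group.IsSolvable ↥(U.subgroupOf G') :=
    Group.isSolvable_of_comm fun a b => Subtype.ext (Subtype.ext (hUc _ a.2 _ b.2))
  have hG'sol : Group.IsSolvable ↥G' :=
    (Group.isSolvable_iff_subgroup_quotient (U.subgroupOf G')).2 ⟨inferInstance, hquot⟩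
  have hcard : ¬ ha.p ∣ Nat.card ↥G' := by
    rw [Subgroup.card_eq_card_quotient_mul_card_subgroup (U.subgroupOf G'),
      Nat.card_congr (Subgroup.subgroupOfEquivOfLe (le_sup_right : U ≤ G')).toEquiv]
    intro hd
    rcases ha.prime_p.dvd_mul.1 hd with h | h
    · exact ha.p_not_dvd (h.trans (Subgroup.card_dvd_of_surjective ψ hψ))
    · exact hpU h
  have ha' : Setup ↥G' V := by
    refine ⟨hG'sol, ?_, inferInstance, ha.char⟩
    refine Nat.coprime_of_dvd fun q hq h1 h2 => hcard ?_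
    haveI := Fact.mk hq
    obtain ⟨v, hv⟩ := exists_prime_addOrderOf_dvd_card' (G := V) q h2
    have : addOrderOf v ∣ ha.p := addOrderOf_dvd_of_nsmul_eq_zero (ha.p_smul v)
    rw [hv] at this
    rwa [← (Nat.prime_dvd_prime_iff_eq hq ha.prime_p).1 this]
  by_cases hGG : G' = G
  · have hru : IsUnit r := by
      have hb : Function.Bijective r := ⟨hinj r hr hr0, Finite.surjective_of_injective (hinj r hr hr0)⟩
      let e := AddEquiv.ofBijective (r : V →+ V) hb
      exact ⟨⟨r, (e.symm.toAddMonoidHom : AddMonoid.End V),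
        AddMonoidHom.ext fun v => e.apply_symm_apply v,
        AddMonoidHom.ext fun v => e.symm_apply_apply v⟩, rfl⟩
    obtain ⟨u, rfl⟩ := hru
    exact ⟨⟨u, hGG ▸ (le_sup_right (a := G) (b := U) : U ≤ G') (show u ∈ U from hr)⟩, rfl⟩
  · exfalso
    have hlt : Nat.card ↥G < Nat.card ↥G' := lt_of_le_of_ne
      (Nat.card_le_card_of_injective _ (Subgroup.inclusion_injective hle))
      fun e => hGG (Subgroup.eq_of_le_of_card_ge hle e.ge).symm
    have hG'le : Nat.card ↥G' ≤ Nat.card (AddMonoid.End V)ˣ :=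
      Nat.card_le_card_of_injective _ Subtype.val_injective
    obtain ⟨q, hq'⟩ := ih _ (by omega) G' ha'
      (fun W hW => hirr W fun g x hx => hW ⟨g, hle g.2⟩ x hx) rfl
    exact hno ⟨q, fun g h1 h2 => hq' ⟨g, hle g.2⟩ h1 h2⟩

theorem base_step (hq : QuasiStatement.{u}) {A V : Type u} [Group A] [Finite A] [AddCommGroup V]
    [Finite V] [DistribMulAction A V] (hsol : Group.IsSolvable A)
    (hcop : (Nat.card A).Coprime (Nat.card V)) (hsq : SqFree V) (hyp : Hyp.{u} (Nat.card V)) :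
    Base A V := by
  classical
  rcases subsingleton_or_nontrivial V with hV | hV
  · exact ⟨(0, 0), fun a _ _ x => Subsingleton.elim _ _⟩
  obtain ⟨p, hp, hpd⟩ := Nat.exists_prime_and_dvd
    (show Nat.card V ≠ 1 from (Finite.one_lt_card_iff_nontrivial.2 hV).ne')
  haveI := Fact.mk hp
  obtain ⟨U, W, hU, hW, hdis, hsup, hUmem⟩ := split_primes (A := A) hsq hp
  by_cases hU1 : U = ⊤
  swap
  · refine base_of_split hsol hcop hsq hyp hU hW hdis hsup hU1 fun e => ?_
    obtain ⟨v, hv⟩ := exists_prime_addOrderOf_dvd_card' (G := V) p hpd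
    have h1 : v ∈ U := (hUmem v).2 (hv ▸ addOrderOf_nsmul_eq_zero v)
    rw [e, AddSubgroup.mem_bot] at h1
    rw [h1, addOrderOf_zero] at hv
    exact hp.one_lt.ne hv
  have hpV : ∀ v : V, p • v = 0 := fun v => (hUmem v).1 (hU1 ▸ AddSubgroup.mem_top v)
  have hpA : ¬ p ∣ Nat.card A := fun h => hp.not_dvd_one (hcop ▸ Nat.dvd_gcd h hpd)
  by_cases hirr : Irred A V
  · by_cases hodd : Odd (Nat.card A)
    · exact CfsgLib.OddBase.hyp_all (Nat.card V + 1) A V (Nat.lt_succ_self _) hodd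
        (CfsgLib.OddBase.cr_of_irred hirr)
    have hp2 : p ≠ 2 := by
      rintro rfl
      exact hpA (even_iff_two_dvd.1 (Nat.not_odd_iff_even.1 hodd))
    haveI := hsol
    let φ : A →* (AddMonoid.End V)ˣ := (DistribMulAction.toAddMonoidEnd A V).toHomUnits
    haveI : Finite (AddMonoid.End V) :=
      Finite.of_injective (fun r : AddMonoid.End V => (r : V → V)) DFunLike.coe_injective
    have hsmul : ∀ (a : A) (v : V), φ.rangeRestrict a • v = a • v := fun a v => rfl
    have ha : Setup ↥φ.range V := ⟨Group.isSolvable_of_surjective φ.rangeRestrict_surjective,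
      hcop.coprime_dvd_left (Subgroup.card_range_dvd φ), hV, p, hp, hp2, hpV⟩
    obtain ⟨q, hq'⟩ := base_of_units hq hyp φ.range ha fun U' hU' => hirr U' fun a x hx => by
      rw [← hsmul]; exact hU' _ x hx
    exact ⟨q, fun a h1 h2 x => hq' (φ.rangeRestrict a) h1 h2 x⟩
  · unfold CfsgLib.OddBase.Irred at hirr
    push Not at hirr
    obtain ⟨T, hT, hT0, hT1⟩ := hirr
    obtain ⟨T', hT', h1, h2⟩ := exists_compl hpV hpA T hT
    exact base_of_split hsol hcop hsq hyp hT hT' h1 h2 hT1 hT0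

theorem hyp_all_of (hq : QuasiStatement.{u}) (n : ℕ) : Hyp.{u} n := by
  induction n using Nat.strong_induction_on with
  | _ n ih =>
    intro A V _ _ _ _ _ hV hsol hcop hsq
    exact base_step hq hsol hcop hsq (ih _ hV)

end CfsgLib.CoprimeBase
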