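import Cfsg.Agent.Lib.CoprimeBase.Step
import Mathlib.Algebra.CharP.CharAndCard
import Mathlib.RingTheory.IntegralDomain
import Mathlib.FieldTheory.Finite.Basic

/-!
Bases with a free first vector, by recursion on fixed spaces.
-/

set_option autoImplicit false
set_option linter.unusedSectionVars false

namespace CfsgLib.CoprimeBase

open CfsgLib.OddBase (Good Base)

universe u

variable {Γ L W : Type u} [Group Γ] [Field L] [AddCommGroup W] [Module L W] [DistribMulAction Γ W]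
  {B : Subgroup Γ}

/-- Free vectors avoid every orbit. -/
def Rich (B : Subgroup Γ) (W : Type u) [AddCommGroup W] [DistribMulAction Γ W] : Prop :=
  ∀ x : W, ∃ u : W, u ≠ 0 ∧ Free B u ∧ ∀ k ∈ B, k • x ≠ u

theorem sqFree_module [Finite L] : SqFree W := by
  haveI := CharP.exists L
  obtain ⟨p, hp⟩ := CharP.exists L
  haveI := hp
  refine SqFree.of_prime (CharP.char_is_prime L p) fun w => ?_
  rw [← Nat.cast_smul_eq_nsmul L, CharP.cast_eq_zero, zero_smul]

theorem exists_unit_pow_ne [Finite L] {e : ℕ} (he : 0 < e) (h : e + 1 < Nat.card L) :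
    ∃ c : L, c ≠ 0 ∧ c ^ e ≠ 1 := by
  classical
  by_contra hcon
  push Not at hcon
  haveI := Fintype.ofFinite L
  have h1 : ∀ u : Lˣ, u ^ e = 1 := fun u => Units.ext (by
    rw [Units.val_pow_eq_pow_val, Units.val_one]
    exact hcon u u.ne_zero)
  have h2 := IsCyclic.card_pow_eq_one_le (α := Lˣ) he
  rw [Finset.filter_true_of_mem fun u _ => h1 u, Finset.card_univ, Fintype.card_units,
    ← Nat.card_eq_fintype_card] at h2
  omega

theorem odd_card_of_two [Finite L] (h2' : (2 : L) ≠ 0) : Odd (Nat.card L) := by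
  classical
  haveI := Fintype.ofFinite L
  rw [Nat.card_eq_fintype_card]
  have h2 : ringChar L ≠ 2 := fun h => h2' (by
    haveI : CharP L 2 := h ▸ ringChar.charP L
    exact_mod_cast (CharP.cast_eq_zero L 2))
  exact Nat.odd_iff.2 (FiniteField.odd_card_of_char_ne_two h2)

theorem Setting.odd_card [Finite L] (hs : Setting Γ L W B) : Odd (Nat.card L) := by
  classical
  haveI := Fintype.ofFinite L
  rw [Nat.card_eq_fintype_card]
  have h2 : ringChar L ≠ 2 := fun h => hs.two (by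
    haveI : CharP L 2 := h ▸ ringChar.charP L
    exact_mod_cast (CharP.cast_eq_zero L 2))
  exact Nat.odd_iff.2 (FiniteField.odd_card_of_char_ne_two h2)

theorem Setting.pair_of_free [Finite Γ] [Finite W] [Finite L] (hs : Setting Γ L W B)
    (h : ∀ v : W, v ≠ 0 → Free B v) {n : ℕ} (hyp : Hyp.{u} n) (hn : Nat.card W < n) :
    Pair (W := W) B := by
  haveI := hs.nontrivial
  obtain ⟨⟨v, w⟩, hp⟩ := hyp Γ W hn hs.solvable hs.coprime (sqFree_module (L := L))
  by_cases hv : v = 0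
  · by_cases hw : w = 0
    · obtain ⟨z, hz⟩ := exists_ne (0 : W)
      subst hv hw
      exact ⟨z, 0, fun a _ _ => hp a (smul_zero a) (smul_zero a), hz, h z hz⟩
    · exact ⟨w, v, hp.swap, hw, h w hw⟩
  · exact ⟨v, w, hp, hv, h v hv⟩

namespace Step

/-- The setting of the fixed space. -/
theorem sub_setting {hs : Pre Γ L W B} {y b : Γ} {r : ℕ} {ζ d : L} (S : Step hs y b r ζ d) [Finite Γ]
    (ht : Setting Γ L W B) : @Setting ↥S.N L ↥S.W0 _ _ _ _ S.act S.B0 :=
  letI := S.act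
  { toPre := S.sub_pre
    coprime := (ht.coprime.coprime_dvd_left S.N.card_subgroup_dvd_card).coprime_dvd_right
      (AddSubgroup.card_addSubgroup_dvd_card S.W0.toAddSubgroup)
    two := ht.two }

variable {hs : Pre Γ L W B} {y b : Γ} {r : ℕ} {ζ d : L} (S : Step hs y b r ζ d)
include S

theorem dvd_card_sub_one [Finite L] : r ∣ Nat.card L - 1 := by
  classical
  haveI := Fintype.ofFinite L
  rw [S.root.eq_orderOf, Nat.card_eq_fintype_card]
  exact orderOf_dvd_of_pow_eq_one (FiniteField.pow_card_sub_one_eq_one ζ (S.root.ne_zero S.prime.ne_zero))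

theorem exists_lam [Finite L] (htwo : (2 : L) ≠ 0) :
    ∃ lam : L, (r = 2 → lam = 0) ∧ (r ≠ 2 → lam ≠ 0) ∧ (r = 3 → lam ^ 3 ≠ 1) := by
  by_cases hr2 : r = 2
  · exact ⟨0, fun _ => rfl, fun h => absurd hr2 h, fun h => by omega⟩
  by_cases hr3 : r = 3
  · have h1 := S.dvd_card_sub_one
    rw [hr3] at h1
    have hodd := odd_card_of_two htwo
    have h2 : 1 < Nat.card L := Finite.one_lt_card
    obtain ⟨m, hm⟩ := hodd
    obtain ⟨c, hc, hc3⟩ := exists_unit_pow_ne (L := L) (e := 3) (by norm_num) (by omega)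
    exact ⟨c, fun h => absurd h hr2, fun _ => hc, fun _ => hc3⟩
  · exact ⟨1, fun h => absurd h hr2, fun _ => one_ne_zero, fun h => absurd h hr3⟩

/-- The data supplied by a pair on the fixed space. -/
theorem pair_data [Finite Γ] [Finite W]
    (h : @Pair ↥S.N ↥S.W0 _ _ S.act S.B0) :
    ∃ v w₀ : W, v ∈ S.W0 ∧ w₀ ∈ S.W0 ∧ v ≠ 0 ∧ v + w₀ ≠ 0 ∧
      (∀ g ∈ S.N, g • v = v → g • w₀ = w₀ → ∀ u ∈ S.W0, g • u = u) ∧
      (∀ x ∈ B, x ∈ S.N → x • v = v → ∀ u ∈ S.W0, x • u = u) := by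
  obtain ⟨v, w, hgood, hv, hfree⟩ := h
  letI := S.act
  have hv' : (v : W) ≠ 0 := fun e => hv (Subtype.ext e)
  have hgood' : ∀ g ∈ S.N, g • (v : W) = v → g • (w : W) = w → ∀ u ∈ S.W0, g • u = u :=
    fun g hg h1 h2 u hu => congrArg Subtype.val
      (hgood ⟨g, hg⟩ (Subtype.ext h1) (Subtype.ext h2) ⟨u, hu⟩)
  have hfree' : ∀ x ∈ B, x ∈ S.N → x • (v : W) = v → ∀ u ∈ S.W0, x • u = u :=
    fun x hx hxN h1 u hu => congrArg Subtype.val
      (hfree ⟨x, hxN⟩ hx (Subtype.ext h1) ⟨u, hu⟩)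
  by_cases he : (v : W) + w = 0
  · refine ⟨v, 0, v.2, zero_mem _, hv', by rwa [add_zero], fun g hg h1 _ => hgood' g hg h1 ?_,
      hfree'⟩
    rw [eq_neg_of_add_eq_zero_right he, smul_neg, h1]
  · exact ⟨v, w, v.2, w.2, hv', he, hgood', hfree'⟩

/-- A base from a pair on the fixed space. -/
theorem base_of_sub [Finite Γ] [Finite W] [Finite L] (htwo : (2 : L) ≠ 0)
    (h : @Pair ↥S.N ↥S.W0 _ _ S.act S.B0) : Base Γ W := by
  obtain ⟨v, w₀, hv, hw₀, hv0, -, hgood, hfree⟩ := S.pair_data h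
  obtain ⟨lam, h2, hodd, h3⟩ := S.exists_lam htwo
  exact ⟨_, S.good_of_pair hv hw₀ hv hv0 hv0 hgood hfree hfree lam h2 hodd h3⟩

/-- A pair from a pair on the fixed space. -/
theorem pair_of_sub [Finite Γ] [Finite W] [Finite L] (htwo : (2 : L) ≠ 0)
    (h : @Pair ↥S.N ↥S.W0 _ _ S.act S.B0)
    (hcase : r ≠ 2 ∨ 5 < Nat.card L ∨ @Rich ↥S.N _ S.B0 ↥S.W0 _ S.act) : Pair (W := W) B := by
  haveI := hs.nontrivial
  obtain ⟨v, w₀, hv, hw₀, hv0, hsum, hgood, hfree⟩ := S.pair_data h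
  obtain ⟨lam, h2, hodd, h3⟩ := S.exists_lam htwo
  have hv₀ : v + w₀ ∈ S.W0 := add_mem hv hw₀
  suffices ∃ u' ∈ S.W0, u' ≠ 0 ∧ (∀ x ∈ B, x ∈ S.N → x • u' = u' → ∀ u ∈ S.W0, x • u = u) ∧
      (r = 2 → ∀ k ∈ B, ¬ (k • (v + w₀) = b • u' ∧ k • b • u' = v + w₀)) by
    obtain ⟨u', hu', hu'0, hfree', hswap⟩ := this
    refine ⟨v + w₀ + b • u' + lam • (b ^ 2) • u', w₀ + b • u' + lam • (b ^ 2) • u',
      fun g h1 h2' => ?_, fun e => ?_,
      S.free_of_pair hv₀ hu' hsum hu'0 hfree' lam h2 hodd h3 hswap⟩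
    · refine S.good_of_pair hv hw₀ hu' hv0 hu'0 hgood hfree hfree' lam h2 hodd h3 g ?_ h2'
      change g • (v + w₀ + b • u' + lam • (b ^ 2) • u') = _ at h1
      change g • (w₀ + b • u' + lam • (b ^ 2) • u') = _ at h2'
      have e : v + w₀ + b • u' + lam • (b ^ 2) • u' = v + (w₀ + b • u' + lam • (b ^ 2) • u') := by
        abel
      rw [e, smul_add, h2'] at h1
      exact add_right_cancel h1
    · -- nonzero
      have h1 := congrArg (proj (y := y) (r := r) (1 : L)) e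
      rw [map_add, map_add, map_zero, S.proj_of_eig (one_pow r) (S.eig_iff.2 hv₀),
        S.proj_of_eig_ne (one_pow r) S.root.pow_eq_one (S.eig_b hu')
          (S.root.ne_one S.prime.one_lt)] at h1
      by_cases hr2 : r = 2
      · rw [h2 hr2, zero_smul, map_zero, add_zero, add_zero] at h1
        exact hsum h1
      · rw [S.proj_of_eig_ne (one_pow r)
          (by rw [← pow_mul, mul_comm, pow_mul, S.root.pow_eq_one, one_pow])
          (S.eig_smul (S.eig_shift 2 hu'))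
          (fun e => hr2 ((Nat.prime_dvd_prime_iff_eq S.prime Nat.prime_two).1
            ((S.root.pow_eq_one_iff_dvd 2).1 e))), add_zero, add_zero] at h1
        exact hsum h1
  by_cases hr2 : r = 2
  swap
  · exact ⟨v, hv, hv0, hfree, fun h => absurd h hr2⟩
  rcases hcase with hc | hq | hrich
  · exact absurd hr2 hc
  · by_contra hno
    push Not at hno
    have hbad : ∀ c : L, c ≠ 0 → ∃ k ∈ B, k • (v + w₀) = b • c • v ∧ k • b • c • v = v + w₀ := by
      intro c hc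
      have hfc : ∀ x ∈ B, x ∈ S.N → x • c • v = c • v → ∀ u ∈ S.W0, x • u = u := fun x hx hxN he =>
        hfree x hx hxN (by rw [hs.lin x hx] at he; exact ((IsUnit.mk0 _ hc).smul_left_cancel).1 he)
      obtain ⟨-, h'⟩ := hno (c • v) (S.W0.smul_mem c hv)
        (fun e => (smul_eq_zero.1 e).elim hc hv0) hfc
      exact h'
    obtain ⟨k0, hk0, a0, b0⟩ := hbad 1 one_ne_zero
    rw [one_smul] at a0 b0
    obtain ⟨c, hc, hc4⟩ := exists_unit_pow_ne (L := L) (e := 4) (by norm_num) (by omega)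
    obtain ⟨k, hk, a1, b1⟩ := hbad c hc
    rw [hs.lin b S.mem_b] at a1 b1
    rw [hs.lin k hk] at b1
    obtain ⟨z, hz, hzw⟩ := hs.scal c⁻¹ (inv_ne_zero hc)
    have hk' : b⁻¹ * (z * (k * k0⁻¹)) * b ∈ B :=
      B.mul_mem (B.mul_mem (B.inv_mem S.mem_b) (B.mul_mem hz (B.mul_mem hk (B.inv_mem hk0)))) S.mem_b
    have hk'v : (b⁻¹ * (z * (k * k0⁻¹)) * b) • v = v := by
      rw [mul_smul, mul_smul, mul_smul, mul_smul, inv_smul_eq_iff.2 a0.symm, a1, hzw,
        ← mul_smul c⁻¹, inv_mul_cancel₀ hc, one_smul, inv_smul_smul]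
    obtain ⟨j, hj⟩ := S.eq_pow_of_fix hk' (hfree _ hk'
      (S.mem_N_of_comm (S.comm_of_fix hk' hv hv0 (by rw [hk'v]; exact hv))) hk'v)
    have hkey : ∀ w : W, k • k0⁻¹ • b • w = c • b • (y ^ j) • w := fun w => by
      rw [← hj, mul_smul, mul_smul, mul_smul, mul_smul, smul_inv_smul, hzw, ← mul_smul c,
        mul_inv_cancel₀ hc, one_smul]
    -- apply to the component at the origin
    have hζ0 : (ζ ^ j) ≠ 0 := pow_ne_zero _ (S.root.ne_zero S.prime.ne_zero)
    obtain ⟨w1, hw1⟩ : ∃ w1, b • w1 = v + w₀ := ⟨b⁻¹ • (v + w₀), smul_inv_smul _ _⟩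
    have h1 : k • b • v = (c * (ζ ^ j)⁻¹) • (v + w₀) := by
      have h2' := hkey w1
      rw [hw1, inv_smul_eq_iff.2 b0.symm] at h2'
      have h3' := S.y_phase j w1
      rw [hw1, S.y_pow_fix hv₀] at h3'
      rw [h2', mul_smul]
      congr 1
      rw [h3', ← mul_smul (ζ ^ j)⁻¹, inv_mul_cancel₀ hζ0, one_smul]
    rw [h1, ← mul_smul] at b1
    have h4 : (c * (c * (ζ ^ j)⁻¹) - 1) • (v + w₀) = 0 := by rw [sub_smul, one_smul, b1, sub_self]
    have h5 := sub_eq_zero.1 ((smul_eq_zero.1 h4).resolve_right hsum)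
    apply hc4
    have h6 : ((ζ ^ j)⁻¹) ^ 2 = 1 := by
      rw [inv_pow, ← pow_mul, mul_comm, pow_mul, show ζ ^ 2 = 1 by rw [← hr2]; exact S.root.pow_eq_one,
        one_pow, inv_one]
    calc c ^ 4 = c ^ 4 * ((ζ ^ j)⁻¹) ^ 2 := by rw [h6, mul_one]
      _ = (c * (c * (ζ ^ j)⁻¹)) ^ 2 := by ring
      _ = 1 := by rw [h5, one_pow]
  · letI := S.act
    obtain ⟨u, hu0, hufree, hu⟩ := hrich ⟨v + w₀, hv₀⟩
    refine ⟨u, u.2, fun e => hu0 (Subtype.ext e), fun x hx hxN h1 w hw => congrArg Subtype.val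
      (hufree ⟨x, hxN⟩ hx (Subtype.ext h1) ⟨w, hw⟩), fun _ k hk ⟨e1, _⟩ => ?_⟩
    have hxB : b⁻¹ * k ∈ B := B.mul_mem (B.inv_mem S.mem_b) hk
    have hxu : (b⁻¹ * k) • (v + w₀) = (u : W) := by rw [mul_smul, e1, inv_smul_smul]
    exact hu ⟨b⁻¹ * k, S.mem_N_of_comm (S.comm_of_fix hxB hv₀ hsum (by rw [hxu]; exact u.2))⟩ hxB
      (Subtype.ext hxu)

end Step

/-- Pairs exist outside the exceptional fields. -/
theorem pair_large [Finite L] (hL : 5 < Nat.card L) {n : ℕ} (hyp : Hyp.{u} n) :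
    ∀ (Γ W : Type u) [Group Γ] [Finite Γ] [AddCommGroup W] [Finite W] [Module L W]
      [DistribMulAction Γ W] (B : Subgroup Γ), Setting Γ L W B → Nat.card W < n → Pair (W := W) B := by
  intro Γ W _ _ _ _ _ _ B hs hn
  induction hc : Nat.card W using Nat.strong_induction_on generalizing Γ W with
  | _ c ih =>
  subst hc
  rcases hs.exists_elt_or_free with ⟨y, hy, r, hr, hyr, hyn⟩ | hfree
  · obtain ⟨b, ζ, d, S⟩ := hs.exists_step hy hr hyr hyn
    letI := S.act
    exact S.pair_of_sub hs.two (ih _ S.card_lt _ _ S.B0 (S.sub_setting hs) (S.card_lt.trans hn) rfl)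
      (Or.inr (Or.inl hL))
  · exact hs.pair_of_free hfree hyp hn

end CfsgLib.CoprimeBase
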