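import Cfsg.Agent.Lib.CoprimeBase.Core
import Mathlib.GroupTheory.Coset.Card
import Mathlib.Tactic.NormNum.Prime
import Mathlib.Tactic.IntervalCases

/-!
Bases from bases of the fixed space of a splitting element.
-/

set_option autoImplicit false
set_option linter.unusedSectionVars false

namespace CfsgLib.CoprimeBase

open CfsgLib.OddBase (Good Base)

universe u

variable {Γ L W : Type u} [Group Γ] [Field L] [AddCommGroup W] [Module L W] [DistribMulAction Γ W]
  {B : Subgroup Γ}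

namespace Step

variable {hs : Pre Γ L W B} {y b : Γ} {r : ℕ} {ζ d : L} (S : Step hs y b r ζ d)
include S

/-- The action on the fixed space. -/
@[reducible] def act : DistribMulAction ↥S.N ↥S.W0 where
  smul g u := ⟨(g : Γ) • (u : W), (g.2 u).2 u.2⟩
  one_smul u := Subtype.ext (one_smul Γ (u : W))
  mul_smul g h u := Subtype.ext (mul_smul (g : Γ) h (u : W))
  smul_zero g := Subtype.ext (smul_zero (g : Γ))
  smul_add g u v := Subtype.ext (smul_add (g : Γ) (u : W) v)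

theorem ypow_comm {x : Γ} (h : ∀ w : W, y • x • w = x • y • w) (i : ℕ) (w : W) :
    (y ^ i) • x • w = x • (y ^ i) • w := by
  induction i generalizing w with
  | zero => simp
  | succ i ih => rw [pow_succ, mul_smul, h, ih, ← mul_smul (y ^ i), ← pow_succ]

theorem ypow_mul (i : ℕ) (w : W) : ((y ^ r) ^ i) • w = w := by
  induction i generalizing w with
  | zero => simp
  | succ i ih => rw [pow_succ, mul_smul, S.pow_y, ih]

/-- The normal subgroup on the fixed space. -/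
abbrev B0 : Subgroup ↥S.N := B.subgroupOf S.N

theorem pow_fix_of_eq {x : Γ} (hx : x ∈ B) (hxN : x ∈ S.N) {j : ℕ} {c : L}
    (h : ∀ u ∈ S.W0, (x ^ j) • u = c • u) (hc : c ≠ 0) :
    ∃ k : ℕ, ∀ w : W, (x ^ j) • w = c • (y ^ k) • w := by
  obtain ⟨z, hz, hzw⟩ := hs.scal c⁻¹ (inv_ne_zero hc)
  obtain ⟨k, hk⟩ := S.eq_pow_of_fix (x := z * x ^ j) (B.mul_mem hz (B.pow_mem hx j)) fun u hu => by
    rw [mul_smul, h u hu, hzw, ← mul_smul, inv_mul_cancel₀ hc, one_smul]
  refine ⟨k, fun w => ?_⟩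
  rw [← hk, mul_smul, hzw, ← mul_smul, mul_inv_cancel₀ hc, one_smul]

theorem sub_pre [Finite Γ] :
    @Pre ↥S.N L ↥S.W0 _ _ _ _ S.act S.B0 := by
  haveI := S.nontrivial_W0
  haveI := hs.nontrivial
  letI := S.act
  obtain ⟨u₀, hu₀⟩ := exists_ne (0 : S.W0)
  have hu₀' : (u₀ : W) ≠ 0 := fun e => hu₀ (Subtype.ext e)
  refine
    { solvable := haveI := hs.solvable; inferInstance
      nontrivial := inferInstance
      normal := fun g x hx => hs.normal g x hx
      semi := fun g c => ?_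
      lin := fun x hx c u => Subtype.ext (hs.lin (x : Γ) hx c u)
      scal := fun c hc => ?_
      comm := fun a ha x hx => ?_
      centre := fun a ha h => ?_
      sqfree := ?_
      roots := fun s hs' hcond x hx c hc => ?_ }
  · obtain ⟨e, he⟩ := hs.semi (g : Γ) c
    exact ⟨e, fun u => Subtype.ext (he u)⟩
  · obtain ⟨z, hz, hzw⟩ := hs.scal c hc
    refine ⟨⟨z, S.mem_N_of_comm fun w => ?_⟩, hz, fun u => Subtype.ext (hzw u)⟩
    rw [hzw, hzw, hs.lin y S.mem_y]
  · obtain ⟨c, hc⟩ := hs.comm (a : Γ) ha (x : Γ) hx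
    exact ⟨c, fun u => Subtype.ext (hc u)⟩
  · -- centre
    have hN : ∀ x ∈ B, x ∈ S.N → ∀ w : W, (a : Γ) • x • w = x • (a : Γ) • w := by
      intro x hx hxN w
      obtain ⟨c, hc⟩ := hs.comm (a : Γ) ha x hx
      have h1 : (a : Γ) • x • (u₀ : W) = x • (a : Γ) • (u₀ : W) :=
        congrArg Subtype.val (h ⟨x, hxN⟩ hx u₀)
      have h2 : (c - 1) • x • (a : Γ) • (u₀ : W) = 0 := by
        rw [sub_smul, one_smul, ← hc, h1, sub_self]
      rcases smul_eq_zero.1 h2 with e | e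
      · rw [hc, sub_eq_zero.1 e, one_smul]
      · exact absurd ((smul_eq_zero_iff_eq _).1 ((smul_eq_zero_iff_eq x).1 e)) hu₀'
    obtain ⟨k, hk⟩ := S.exists_phase (x := (a : Γ)) ha
    set a' : Γ := (y ^ k)⁻¹ * a with ha'
    have ha'B : a' ∈ B := B.mul_mem (B.inv_mem (B.pow_mem S.mem_y k)) ha
    have hb : ∀ w : W, a' • b • w = b • a' • w := by
      intro w
      rw [ha', mul_smul, mul_smul, inv_smul_eq_iff, hk, S.y_phase, smul_inv_smul]
    have hN' : ∀ x ∈ B, x ∈ S.N → ∀ w : W, a' • x • w = x • a' • w := by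
      intro x hx hxN w
      have hyx := S.ypow_comm (S.comm_of_mem_N hx hxN) k
      rw [ha', mul_smul, mul_smul, inv_smul_eq_iff, hN x hx hxN, hyx, smul_inv_smul]
    obtain ⟨c, hc⟩ := hs.centre a' ha'B fun x hx w => by
      obtain ⟨i, hi⟩ : ∃ i : ℕ, ∀ w : W, y • x • w = ζ ^ i • x • y • w := by
        obtain ⟨c, hc⟩ := hs.comm y S.mem_y x hx
        haveI : NeZero r := ⟨S.prime.ne_zero⟩
        have hpow : ∀ (i : ℕ) (w : W), (y ^ i) • x • w = c ^ i • x • (y ^ i) • w := by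
          intro i
          induction i with
          | zero => intro w; simp
          | succ i ih =>
            intro w
            rw [pow_succ' y i, mul_smul, ih, hs.lin y S.mem_y, hc, ← mul_smul (c ^ i) c, ← pow_succ,
              ← mul_smul y (y ^ i) w]
        have hcr : c ^ r = 1 := by
          refine (scalar_unique (W := W) fun w => ?_).symm
          have h1 := hpow r (x⁻¹ • w)
          rw [smul_inv_smul, S.pow_y, S.pow_y, smul_inv_smul] at h1
          rw [one_smul]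
          exact h1
        obtain ⟨i, -, hi⟩ := S.root.eq_pow_of_pow_eq_one hcr
        exact ⟨i, by rw [hi]; exact hc⟩
      have hx'N : (b ^ i)⁻¹ * x ∈ S.N := S.mem_N_of_comm fun v => by
        have h1 := S.pow_comm i (((b ^ i)⁻¹ * x) • v)
        rw [mul_smul, smul_inv_smul, hi] at h1
        have hz : ζ ^ i ≠ 0 := pow_ne_zero _ (S.root.ne_zero S.prime.ne_zero)
        have h2 := ((IsUnit.mk0 _ hz).smul_left_cancel).1 h1
        rw [mul_smul, mul_smul]
        exact (eq_inv_smul_iff.2 h2.symm)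
      have hx'B : (b ^ i)⁻¹ * x ∈ B := B.mul_mem (B.inv_mem (B.pow_mem S.mem_b i)) hx
      have hbi : ∀ (j : ℕ) (w : W), a' • (b ^ j) • w = (b ^ j) • a' • w := by
        intro j
        induction j with
        | zero => intro w; simp
        | succ j ih =>
          intro w
          rw [pow_succ' b j, mul_smul b (b ^ j), hb, ih, ← mul_smul b (b ^ j)]
      have e : ∀ v : W, x • v = (b ^ i) • ((b ^ i)⁻¹ * x) • v := fun v => by
        rw [mul_smul, smul_inv_smul]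
      rw [e w, hbi, hN' _ hx'B hx'N, ← e]
    refine ⟨c, fun u => Subtype.ext ?_⟩
    show (a : Γ) • (u : W) = c • (u : W)
    rw [show (a : Γ) = (y ^ k) * a' by rw [ha', mul_inv_cancel_left], mul_smul, hc,
      hs.lin _ (B.pow_mem S.mem_y k), S.y_pow_fix u.2]
  · obtain ⟨m, hm, hmem⟩ := hs.sqfree
    refine ⟨m, hm, fun x hx => ?_⟩
    obtain ⟨c, hc⟩ := hmem (x : Γ) hx
    refine ⟨c, fun u => Subtype.ext ?_⟩
    show ((x ^ m : ↥S.N) : Γ) • (u : W) = _
    rw [SubmonoidClass.coe_pow]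
    exact hc u
  · -- roots
    have hxB : (x : Γ) ∈ B := hx
    have hc0 : c ≠ 0 := by
      rintro rfl
      have h1 := hc u₀
      rw [zero_smul, smul_eq_zero_iff_eq] at h1
      exact hu₀ h1
    have hcW : ∀ u ∈ S.W0, ((x : Γ) ^ s) • u = c • u := fun u hu => by
      have := congrArg Subtype.val (hc ⟨u, hu⟩)
      rw [← SubmonoidClass.coe_pow]
      exact this
    obtain ⟨k, hk⟩ := S.pow_fix_of_eq (x := (x : Γ)) hxB x.2 hcW hc0
    by_cases hsr : s = r
    · subst hsr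
      have hcomm : ∀ (j : ℕ) (w : W), (y ^ j) • ((x : Γ) ^ s) • w = ((x : Γ) ^ s) • (y ^ j) • w := by
        intro j w
        rw [hk, hs.lin _ (B.pow_mem S.mem_y j), hk, ← mul_smul (y ^ j), ← mul_smul (y ^ k),
          ← pow_add, ← pow_add, add_comm]
      have hpow : ∀ (i : ℕ) (w : W), ((x : Γ) ^ (s * i)) • w = c ^ i • (y ^ (k * i)) • w := by
        intro i
        induction i with
        | zero => intro w; simp
        | succ i ih =>
          intro w
          rw [mul_add, mul_one, pow_add, mul_smul, hk, hs.lin _ (B.pow_mem hxB _), ih,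
            ← mul_smul (y ^ (k * i)), ← pow_add, ← mul_smul c, ← pow_succ',
            show k * i + k = k * (i + 1) by ring]
      obtain ⟨e, he⟩ := hs.sqfree_pow hxB hs' ⟨c ^ s, fun w => by
        rw [hpow, mul_comm k, pow_mul, ← pow_mul y, mul_comm s k, pow_mul]
        congr 1
        rw [← pow_mul, mul_comm, pow_mul]
        have hyk := S.ypow_mul
        exact hyk k w⟩
      have hks : s ∣ k := S.y_pow_scalar ⟨c⁻¹ * e, fun w => by
        rw [mul_smul, ← he, hk, ← mul_smul c⁻¹, inv_mul_cancel₀ hc0, one_smul]⟩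
      obtain ⟨k', rfl⟩ := hks
      refine hs.roots s hs' hcond (x : Γ) hxB c fun w => ?_
      have hyk := S.ypow_mul
      rw [hk, pow_mul, hyk]
    · obtain ⟨j, -, hj⟩ := Nat.exists_mul_mod_eq_one_of_coprime
        (((Nat.coprime_primes hs' S.prime).2 hsr) : Nat.Coprime s r) S.prime.one_lt
      obtain ⟨t, ht⟩ : ∃ t : ℕ, (k + t * s) % r = 0 := by
        refine ⟨(r - k % r) * j, ?_⟩
        have hlt := Nat.mod_lt k S.prime.pos
        rw [mul_assoc, mul_comm j s, Nat.add_mod, Nat.mul_mod, hj, mul_one, Nat.mod_mod, ← Nat.add_mod]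
        have := Nat.mod_add_div k r
        rw [show k + (r - k % r) = r * (k / r + 1) by
          rw [mul_add, mul_one]; omega, Nat.mul_mod_right]
      obtain ⟨q, hq⟩ := Nat.dvd_of_mod_eq_zero ht
      set x' : Γ := (x : Γ) * y ^ t with hx'
      have hyx := S.ypow_comm (S.comm_of_mem_N hxB x.2)
      have hpow : ∀ (i : ℕ) (w : W), (x' ^ i) • w = ((x : Γ) ^ i) • (y ^ (t * i)) • w := by
        intro i
        induction i with
        | zero => intro w; simp
        | succ i ih =>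
          intro w
          rw [pow_succ, mul_smul, ih, hx', mul_smul, hyx, ← mul_smul ((x : Γ) ^ i), ← pow_succ,
            ← mul_smul (y ^ (t * i)), ← pow_add, show t * i + t = t * (i + 1) by ring]
      refine hs.roots s hs' hcond x' (B.mul_mem hxB (B.pow_mem S.mem_y t)) c fun w => ?_
      have hyk := S.ypow_mul
      rw [hpow, hk, ← mul_smul (y ^ k), ← pow_add, hq, pow_mul, hyk]

/-- The pair on the fixed space lifts. -/
theorem good_of_pair [Finite Γ] [Finite W] {v w₀ u' : W} (hv : v ∈ S.W0) (hw₀ : w₀ ∈ S.W0)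
    (hu' : u' ∈ S.W0) (hv0 : v ≠ 0) (hu'0 : u' ≠ 0)
    (hgood : ∀ g ∈ S.N, g • v = v → g • w₀ = w₀ → ∀ u ∈ S.W0, g • u = u)
    (hfree : ∀ x ∈ B, x ∈ S.N → x • v = v → ∀ u ∈ S.W0, x • u = u)
    (hfree' : ∀ x ∈ B, x ∈ S.N → x • u' = u' → ∀ u ∈ S.W0, x • u = u)
    (lam : L) (h2 : r = 2 → lam = 0) (hodd : r ≠ 2 → lam ≠ 0) (h3 : r = 3 → lam ^ 3 ≠ 1) :
    Good Γ W (v, w₀ + b • u' + lam • (b ^ 2) • u') := by
  haveI := hs.nontrivial
  haveI := Fact.mk S.prime
  intro g hgv hgw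
  change g • v = v at hgv
  change g • (w₀ + b • u' + lam • (b ^ 2) • u') = _ at hgw
  have hinv : ∀ z ∈ B, z • v = v → ∃ j : ℕ, ∀ w : W, z • w = (y ^ j) • w := fun z hz hzv => by
    have hzN : z ∈ S.N :=
      S.mem_N_of_comm (S.comm_of_fix hz hv hv0 (by rw [hzv]; exact hv))
    exact S.eq_pow_of_fix hz (hfree z hz hzN hzv)
  have hyv : y • v = v := hv
  obtain ⟨a, ha⟩ := hinv _ (hs.normal g y S.mem_y) (by
    rw [mul_smul, mul_smul, inv_smul_eq_iff.2 hgv.symm, hyv, hgv])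
  have hgy : ∀ u : W, (y ^ a) • g • u = g • y • u := fun u => by
    rw [← ha, mul_smul, mul_smul, inv_smul_smul]
  have hyr : ∀ (i : ℕ) (w : W), ((y ^ r) ^ i) • w = w := by
    intro i
    induction i with
    | zero => intro w; simp
    | succ i ih => intro w; rw [pow_succ, mul_smul, S.pow_y, ih]
  have hra : ¬ r ∣ a := by
    rintro ⟨a', rfl⟩
    refine S.not_scalar ⟨1, fun u => ?_⟩
    rw [one_smul]
    have h1 := hgy u
    rw [pow_mul, hyr] at h1
    exact (smul_left_cancel g h1).symm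
  obtain ⟨a', -, ha'⟩ := Nat.exists_mul_mod_eq_one_of_coprime
    (Nat.coprime_comm.1 (S.prime.coprime_iff_not_dvd.2 hra) : Nat.Coprime a r) S.prime.one_lt
  have hy_of : ∀ (w : W) (e : L), (y ^ a) • w = e • w → y • w = e ^ a' • w := by
    intro w e he
    have hpow : ∀ i : ℕ, ((y ^ a) ^ i) • w = e ^ i • w := by
      intro i
      induction i with
      | zero => simp
      | succ i ih =>
        rw [pow_succ (y ^ a), mul_smul, he, hs.lin _ (B.pow_mem (B.pow_mem S.mem_y a) i), ih,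
          ← mul_smul, ← pow_succ']
    have h1 := hpow a'
    rw [← pow_mul, ← Nat.div_add_mod (a * a') r, ha', pow_succ, mul_smul, pow_mul, hyr] at h1
    exact h1
  have hgN : g ∈ S.N := by
    intro u
    constructor
    · intro (hu : y • g • u = g • u)
      show y • u = u
      refine smul_left_cancel g ?_
      rw [← hgy]
      have hpow : ∀ i : ℕ, (y ^ i) • g • u = g • u := by
        intro i
        induction i with
        | zero => simp
        | succ i ih => rw [pow_succ, mul_smul, hu, ih]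
      exact hpow a
    · intro (hu : y • u = u)
      show y • g • u = g • u
      have h1 := hy_of (g • u) 1 (by rw [one_smul, hgy, hu])
      rwa [one_pow, one_smul] at h1
  obtain ⟨t, ht⟩ := hs.semi g ζ
  obtain ⟨t2, ht2⟩ := hs.semi g (ζ ^ 2)
  have hgeig : ∀ u : W, S.Eig ζ u → S.Eig (t ^ a') (g • u) := fun u hu =>
    hy_of _ t (by rw [hgy, show y • u = ζ • u from hu, ht])
  have ht2' : t2 = t ^ 2 := scalar_unique (W := W) fun w => by
    have h1 := ht2 (g⁻¹ • w)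
    rw [pow_two, mul_smul, ht, ht, smul_inv_smul] at h1
    rw [pow_two, mul_smul]
    exact h1.symm
  have htr : t ^ r = 1 := by
    refine scalar_unique (W := W) fun w => ?_
    have key : ∀ (i : ℕ) (w : W), g • (ζ ^ i) • w = t ^ i • g • w := by
      intro i
      induction i with
      | zero => intro w; simp
      | succ i ih => intro w; rw [pow_succ', mul_smul, ht, ih, ← mul_smul t, ← pow_succ']
    have h1 := key r (g⁻¹ • w)
    rw [S.root.pow_eq_one, one_smul, smul_inv_smul] at h1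
    rw [one_smul]
    exact h1.symm
  set δ := t ^ a' with hδdef
  have hδr : δ ^ r = 1 := by rw [hδdef, ← pow_mul, mul_comm, pow_mul, htr, one_pow]
  have hb1 : S.Eig ζ (b • u') := S.eig_b hu'
  have hb2 : S.Eig (ζ ^ 2) (lam • (b ^ 2) • u') := S.eig_smul (S.eig_shift 2 hu')
  have hgb1 : S.Eig δ (g • b • u') := hgeig _ hb1
  have hgb2 : S.Eig (δ ^ 2) (g • lam • (b ^ 2) • u') := by
    have h1 : (y ^ a) • g • lam • (b ^ 2) • u' = t2 • g • lam • (b ^ 2) • u' := by
      rw [hgy, show y • lam • (b ^ 2) • u' = ζ ^ 2 • lam • (b ^ 2) • u' from hb2, ht2]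
    have h2' := hy_of _ _ h1
    rw [ht2', ← pow_mul, mul_comm, pow_mul, ← hδdef] at h2'
    exact h2'
  have hne0 : g • b • u' ≠ 0 := fun e =>
    hu'0 ((smul_eq_zero_iff_eq b).1 ((smul_eq_zero_iff_eq g).1 e))
  have hδ1 : δ ≠ 1 := by
    intro e
    rw [e] at hgb1
    have h1 : b • u' ∈ S.W0 := (hgN _).1 (S.eig_iff.1 hgb1)
    have h2' := (S.eig_iff.2 h1).symm.trans hb1
    have h3' : ((1 : L) - ζ) • b • u' = 0 := by rw [sub_smul, h2', sub_self]
    rcases smul_eq_zero.1 h3' with e' | e'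
    · exact S.root.ne_one S.prime.one_lt (sub_eq_zero.1 e').symm
    · exact hu'0 ((smul_eq_zero_iff_eq b).1 e')
  have h1r : (1 : L) ^ r = 1 := one_pow r
  have hζr : ζ ^ r = 1 := S.root.pow_eq_one
  have hζ2r : (ζ ^ 2) ^ r = 1 := by rw [← pow_mul, mul_comm, pow_mul, hζr, one_pow]
  have hδ2r : (δ ^ 2) ^ r = 1 := by rw [← pow_mul, mul_comm, pow_mul, hδr, one_pow]
  have hζ1 : ζ ≠ 1 := S.root.ne_one S.prime.one_lt
  have hne_pow : ∀ i j : ℕ, i < r → j < r → ζ ^ i = ζ ^ j → i = j := fun i j hi hj e =>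
    S.root.pow_inj hi hj e
  have hζ21 : r ≠ 2 → ζ ^ 2 ≠ 1 := fun h e => h
    ((Nat.prime_dvd_prime_iff_eq S.prime Nat.prime_two).1 ((S.root.pow_eq_one_iff_dvd 2).1 e))
  have hδ21 : r ≠ 2 → δ ^ 2 ≠ 1 := fun h e => by
    have h' : δ = 1 := by
      have hord : orderOf δ = r := orderOf_eq_prime hδr hδ1
      exact absurd ((Nat.prime_dvd_prime_iff_eq S.prime Nat.prime_two).1
        (hord ▸ orderOf_dvd_of_pow_eq_one e)) h
    exact hδ1 h'
  let P : L → W →+ W := fun ε => proj (y := y) (r := r) ε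
  have hdecl : ∀ (ε : L), ε ^ r = 1 → P ε (g • (w₀ + b • u' + lam • (b ^ 2) • u')) =
      P ε (g • w₀) + P ε (g • b • u') + P ε (g • lam • (b ^ 2) • u') := fun ε _ => by
    rw [smul_add, smul_add, map_add, map_add]
  have hgw0' : S.Eig 1 (g • w₀) := S.eig_iff.2 ((hgN w₀).2 hw₀)
  have hlam0 : r = 2 → lam • (b ^ 2) • u' = 0 := fun h => by rw [h2 h, zero_smul]
  have hgw0 : g • w₀ = w₀ := by
    have h1 := congrArg (P 1) hgw
    rw [hdecl 1 h1r, map_add, map_add] at h1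
    rw [S.proj_of_eig h1r hgw0', S.proj_of_eig_ne h1r hδr hgb1 hδ1,
      S.proj_of_eig h1r (S.eig_iff.2 hw₀), S.proj_of_eig_ne h1r hζr hb1 hζ1] at h1
    by_cases hr2 : r = 2
    · simpa [P, hlam0 hr2] using h1
    · rw [S.proj_of_eig_ne h1r hδ2r hgb2 (hδ21 hr2), S.proj_of_eig_ne h1r hζ2r hb2 (hζ21 hr2)] at h1
      simpa using h1
  have htriv := hgood g hgN hgv hgw0
  -- linearity
  have hlinear : ∀ (c : L) (w : W), g • c • w = c • g • w := by
    intro c w
    obtain ⟨e, he⟩ := hs.semi g c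
    have h1 := he v
    rw [htriv _ (S.W0.smul_mem c hv), hgv] at h1
    have h3' : (c - e) • v = 0 := by rw [sub_smul, h1, sub_self]
    rw [he, sub_eq_zero.1 ((smul_eq_zero.1 h3').resolve_right hv0)]
  have htζ : t = ζ := scalar_unique (W := W) fun w => by
    have h1 := ht (g⁻¹ • w)
    rw [hlinear, smul_inv_smul] at h1
    exact h1.symm
  -- the shift
  have hδcases : δ = ζ ∨ (r ≠ 2 ∧ δ = ζ ^ 2) := by
    have h1 := congrArg (P δ) hgw
    rw [hdecl δ hδr, map_add, map_add, S.proj_of_eig_ne hδr h1r hgw0' hδ1.symm,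
      S.proj_of_eig hδr hgb1, S.proj_of_eig_ne hδr h1r (S.eig_iff.2 hw₀) hδ1.symm] at h1
    have hz : P δ (g • lam • (b ^ 2) • u') = 0 := by
      by_cases hr2 : r = 2
      · rw [hlam0 hr2, smul_zero, map_zero]
      · exact S.proj_of_eig_ne hδr hδ2r hgb2 fun e => hδ1 (by
          have h0 : δ ≠ 0 := fun e0 => by rw [e0, zero_pow S.prime.ne_zero] at hδr; exact zero_ne_one hδr
          exact mul_left_cancel₀ h0 (by rw [← pow_two, e, mul_one]))
    rw [hz, zero_add, add_zero] at h1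
    by_contra hc
    rw [not_or] at hc
    rw [S.proj_of_eig_ne hδr hζr hb1 (Ne.symm hc.1), zero_add] at h1
    by_cases hr2 : r = 2
    · rw [hlam0 hr2, map_zero] at h1
      exact hne0 (by simpa using h1)
    · rw [S.proj_of_eig_ne hδr hζ2r hb2 fun e => hc.2 ⟨hr2, e.symm⟩] at h1
      exact hne0 (by simpa using h1)
  rcases hδcases with hd | ⟨hr2, hd⟩
  · -- no shift
    have hcomp : ∀ ε : L, ε ^ r = 1 → P ε (g • w₀) + P ε (g • b • u') +
        P ε (g • lam • (b ^ 2) • u') = P ε w₀ + P ε (b • u') + P ε (lam • (b ^ 2) • u') := by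
      intro ε hε
      rw [← hdecl ε hε, hgw, map_add, map_add]
    have hgb : g • b • u' = b • u' := by
      have h1 := hcomp ζ hζr
      rw [S.proj_of_eig_ne hζr h1r hgw0' hζ1.symm, S.proj_of_eig hζr (hd ▸ hgb1),
        S.proj_of_eig_ne hζr h1r (S.eig_iff.2 hw₀) hζ1.symm, S.proj_of_eig hζr hb1] at h1
      by_cases hr2 : r = 2
      · simpa [hlam0 hr2] using h1
      · have hne : ζ ^ 2 ≠ ζ := fun e => by
          have := hne_pow 2 1 (lt_of_le_of_ne S.prime.two_le (Ne.symm hr2)) S.prime.one_lt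
            (by rw [e, pow_one])
          omega
        rw [S.proj_of_eig_ne hζr hζ2r (hd ▸ hgb2) hne, S.proj_of_eig_ne hζr hζ2r hb2 hne] at h1
        simpa using h1
    have hkB : b⁻¹ * (g * b * g⁻¹) ∈ B := B.mul_mem (B.inv_mem S.mem_b) (hs.normal g b S.mem_b)
    have hku : (b⁻¹ * (g * b * g⁻¹)) • u' = u' := by
      rw [mul_smul, mul_smul, mul_smul, inv_smul_eq_iff.2 (htriv u' hu').symm, hgb, inv_smul_smul]
    obtain ⟨j, hj⟩ := S.eq_pow_of_fix hkB (hfree' _ hkB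
      (S.mem_N_of_comm (S.comm_of_fix hkB hu' hu'0 (by rw [hku]; exact hu'))) hku)
    have hconj : ∀ w : W, g • b • w = b • (y ^ j) • g • w := fun w => by
      rw [← hj, mul_smul, mul_smul, mul_smul, inv_smul_smul, smul_inv_smul]
    have hζj : r ≠ 2 → ζ ^ j = 1 := by
      intro hr2
      have h1 := hcomp (ζ ^ 2) hζ2r
      have hne : ζ ≠ ζ ^ 2 := fun e => by
        have := hne_pow 1 2 S.prime.one_lt (lt_of_le_of_ne S.prime.two_le (Ne.symm hr2))
          (by rw [pow_one, ← e])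
        omega
      rw [S.proj_of_eig_ne hζ2r h1r hgw0' (hζ21 hr2).symm, S.proj_of_eig_ne hζ2r hζr (hd ▸ hgb1) hne,
        S.proj_of_eig_ne hζ2r h1r (S.eig_iff.2 hw₀) (hζ21 hr2).symm,
        S.proj_of_eig_ne hζ2r hζr hb1 hne, S.proj_of_eig hζ2r (hd ▸ hgb2),
        S.proj_of_eig hζ2r hb2] at h1
      simp only [zero_add, hlinear] at h1
      have h4 := ((IsUnit.mk0 _ (hodd hr2)).smul_left_cancel).1 h1
      rw [pow_two, mul_smul, hconj, hconj, htriv u' hu', S.y_pow_fix hu', S.y_phase,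
        S.y_pow_fix hu', hs.lin b S.mem_b] at h4
      have h5 : (ζ ^ j - 1) • b • b • u' = 0 := by rw [sub_smul, one_smul, h4, sub_self]
      refine sub_eq_zero.1 ((smul_eq_zero.1 h5).resolve_right ?_)
      exact fun e => hu'0 ((smul_eq_zero_iff_eq b).1 ((smul_eq_zero_iff_eq b).1 e))
    intro w
    rw [← one_smul Γ w]
    conv_rhs => rw [one_smul]
    rw [one_smul]
    refine (S.ext_comp (g := g) (h := 1) (fun i hi u hu => ?_) w).trans (one_smul Γ w)
    rw [one_smul]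
    induction i generalizing u with
    | zero => simpa using htriv u hu
    | succ i ih =>
      rw [pow_succ' b i, mul_smul, hconj, ih (by omega) u hu, S.eig_pow (S.eig_shift i hu) j,
        ← pow_mul, mul_comm i j, pow_mul]
      rcases Nat.eq_zero_or_pos i with rfl | hi0
      · simp
      · rw [hζj (by omega), one_pow, one_smul]
  · -- shift by two: r = 3
    exfalso
    have hlam' := hodd hr2
    have hr3 : r = 3 := by
      by_contra hr3
      have h5 : 5 ≤ r := by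
        have := S.prime.two_le
        have h4 : r ≠ 4 := fun e => by have := S.prime; rw [e] at this; norm_num at this
        omega
      have h1 := congrArg (P (δ ^ 2)) hgw
      have hδ4 : δ ^ 2 = ζ ^ 4 := by rw [hd, ← pow_mul]
      have n1 : δ ^ 2 ≠ 1 := hδ21 hr2
      have n2 : δ ^ 2 ≠ ζ := fun e => by
        have := hne_pow 4 1 (by omega) S.prime.one_lt (by rw [← hδ4, e, pow_one])
        omega
      have n3 : δ ^ 2 ≠ ζ ^ 2 := fun e => by
        have := hne_pow 4 2 (by omega) (by omega) (by rw [← hδ4, e])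
        omega
      have n4 : δ ≠ δ ^ 2 := fun e => n3 (e.symm.trans hd)
      rw [hdecl _ hδ2r, map_add, map_add, S.proj_of_eig_ne hδ2r h1r hgw0' n1.symm,
        S.proj_of_eig_ne hδ2r hδr hgb1 n4, S.proj_of_eig hδ2r hgb2,
        S.proj_of_eig_ne hδ2r h1r (S.eig_iff.2 hw₀) n1.symm,
        S.proj_of_eig_ne hδ2r hζr hb1 n2.symm, S.proj_of_eig_ne hδ2r hζ2r hb2 n3.symm] at h1
      simp only [zero_add, smul_eq_zero_iff_eq] at h1
      rcases smul_eq_zero.1 h1 with e | e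
      · exact hlam' e
      · exact hu'0 ((smul_eq_zero_iff_eq _).1 e)
    subst hr3
    have hne : ζ ≠ ζ ^ 2 := fun e => by
      have := hne_pow 1 2 (by norm_num) (by norm_num) (by rw [pow_one, ← e])
      omega
    have hδ2 : δ ^ 2 = ζ := by rw [hd, ← pow_mul, show 2 * 2 = 3 + 1 by rfl, pow_succ, hζr, one_mul]
    have hgb : g • b • u' = lam • (b ^ 2) • u' := by
      have h1 := congrArg (P (ζ ^ 2)) hgw
      rw [hdecl _ hζ2r, map_add, map_add, S.proj_of_eig_ne hζ2r h1r hgw0' (hζ21 hr2).symm,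
        S.proj_of_eig hζ2r (hd ▸ hgb1), S.proj_of_eig_ne hζ2r hζr (hδ2 ▸ hgb2) hne,
        S.proj_of_eig_ne hζ2r h1r (S.eig_iff.2 hw₀) (hζ21 hr2).symm,
        S.proj_of_eig_ne hζ2r hζr hb1 hne, S.proj_of_eig hζ2r hb2] at h1
      simpa using h1
    have hkB : (b ^ 2)⁻¹ * (g * b * g⁻¹) ∈ B :=
      B.mul_mem (B.inv_mem (B.pow_mem S.mem_b 2)) (hs.normal g b S.mem_b)
    have hku : ((b ^ 2)⁻¹ * (g * b * g⁻¹)) • u' = lam • u' := by
      rw [mul_smul, mul_smul, mul_smul, inv_smul_eq_iff.2 (htriv u' hu').symm, hgb,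
        inv_smul_eq_iff, hs.lin _ (B.pow_mem S.mem_b 2)]
    obtain ⟨z, hz, hzw⟩ := hs.scal lam⁻¹ (inv_ne_zero hlam')
    have hxB : z * ((b ^ 2)⁻¹ * (g * b * g⁻¹)) ∈ B := B.mul_mem hz hkB
    have hxu : (z * ((b ^ 2)⁻¹ * (g * b * g⁻¹))) • u' = u' := by
      rw [mul_smul, hku, hzw, ← mul_smul, inv_mul_cancel₀ hlam', one_smul]
    obtain ⟨j, hj⟩ := S.eq_pow_of_fix hxB (hfree' _ hxB
      (S.mem_N_of_comm (S.comm_of_fix hxB hu' hu'0 (by rw [hxu]; exact hu'))) hxu)
    have hconj : ∀ w : W, g • b • w = lam • (b ^ 2) • (y ^ j) • g • w := fun w => by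
      rw [← hj, mul_smul z, hzw, mul_smul, mul_smul, mul_smul, inv_smul_smul,
        hs.lin _ (B.pow_mem S.mem_b 2), smul_inv_smul, ← mul_smul lam, mul_inv_cancel₀ hlam', one_smul]
    have hb3 : ∀ w : W, (b ^ 3) • w = w := fun w => by
      rw [S.pow_b, S.pow_b_one (by norm_num), one_smul]
    have hb4 : ∀ w : W, (b ^ 2) • (b ^ 2) • w = b • w := fun w => by
      rw [← mul_smul, ← pow_add, pow_succ', mul_smul, hb3]
    have hb2B := B.pow_mem S.mem_b 2
    have hyjB := B.pow_mem S.mem_y j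
    have e2 : g • b • b • u' = (lam * lam * (ζ ^ 2) ^ j) • b • u' := by
      rw [hconj, hgb, hs.lin _ hyjB, S.eig_pow (S.eig_shift 2 hu') j, hs.lin _ hb2B, hs.lin _ hb2B,
        hb4, smul_smul, smul_smul, mul_assoc]
    have hgg : (lam * lam * lam * (ζ ^ 2) ^ j * ζ ^ j) • u' = u' := by
      have e3 : g • b • b • b • u' = u' := by
        rw [← mul_smul b b, ← mul_smul (b * b) b, ← pow_two b, ← pow_succ, hb3, htriv u' hu']
      rw [hconj, e2, hs.lin _ hyjB, S.eig_pow (S.eig_b hu') j, hs.lin _ hb2B, hs.lin _ hb2B,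
        ← mul_smul (b ^ 2) b, ← pow_succ, hb3, smul_smul, smul_smul] at e3
      convert e3 using 2
      ring
    have h6 : lam * lam * lam * (ζ ^ 2) ^ j * ζ ^ j = 1 := by
      have h7 : ∀ c : L, c • u' = u' → c = 1 := fun c hc => by
        have : (c - 1) • u' = 0 := by rw [sub_smul, one_smul, hc, sub_self]
        exact sub_eq_zero.1 ((smul_eq_zero.1 this).resolve_right hu'0)
      exact h7 _ hgg
    refine h3 rfl ?_
    calc lam ^ 3 = lam * lam * lam * ((ζ ^ 3) ^ j) := by rw [hζr, one_pow]; ring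
      _ = lam * lam * lam * (ζ ^ 2) ^ j * ζ ^ j := by ring
      _ = 1 := h6

/-- A free vector. -/
theorem free_of_pair [Finite Γ] {v₀ u' : W} (hv : v₀ ∈ S.W0) (hu' : u' ∈ S.W0) (hv0 : v₀ ≠ 0)
    (hu'0 : u' ≠ 0) (hfree' : ∀ x ∈ B, x ∈ S.N → x • u' = u' → ∀ u ∈ S.W0, x • u = u)
    (lam : L) (h2 : r = 2 → lam = 0) (hodd : r ≠ 2 → lam ≠ 0) (h3 : r = 3 → lam ^ 3 ≠ 1)
    (hswap : r = 2 → ∀ k ∈ B, ¬ (k • v₀ = b • u' ∧ k • b • u' = v₀)) :
    Free B (v₀ + b • u' + lam • (b ^ 2) • u') := by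
  haveI := hs.nontrivial
  haveI := Fact.mk S.prime
  haveI : NeZero r := ⟨S.prime.ne_zero⟩
  have h1r : (1 : L) ^ r = 1 := one_pow r
  have hζr : ζ ^ r = 1 := S.root.pow_eq_one
  have hζ2r : (ζ ^ 2) ^ r = 1 := by rw [← pow_mul, mul_comm, pow_mul, hζr, one_pow]
  have hζ1 : ζ ≠ 1 := S.root.ne_one S.prime.one_lt
  have hζ0 : ζ ≠ 0 := S.root.ne_zero S.prime.ne_zero
  have hne_pow : ∀ i j : ℕ, i < r → j < r → ζ ^ i = ζ ^ j → i = j := fun i j hi hj e =>
    S.root.pow_inj hi hj e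
  have hb1 : S.Eig ζ (b • u') := S.eig_b hu'
  have hb2 : S.Eig (ζ ^ 2) (lam • (b ^ 2) • u') := S.eig_smul (S.eig_shift 2 hu')
  have hlam0 : r = 2 → lam • (b ^ 2) • u' = 0 := fun h => by rw [h2 h, zero_smul]
  have hbu0 : b • u' ≠ 0 := fun e => hu'0 ((smul_eq_zero_iff_eq b).1 e)
  intro k hk hku
  obtain ⟨c, hc⟩ := hs.comm y S.mem_y k hk
  have hkeig : ∀ (ε : L) (w : W), S.Eig ε w → S.Eig (c * ε) (k • w) := fun ε w hw => by
    show y • k • w = _
    rw [hc, show y • w = ε • w from hw, hs.lin k hk, ← mul_smul]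
  have hcr : c ^ r = 1 := by
    have key : ∀ i : ℕ, (y ^ i) • k • v₀ = c ^ i • k • v₀ := by
      intro i
      exact S.eig_pow (by simpa using hkeig 1 v₀ (S.eig_iff.2 hv)) i
    have h1 := key r
    rw [S.pow_y] at h1
    have h' : (c ^ r - 1) • k • v₀ = 0 := by rw [sub_smul, one_smul, ← h1, sub_self]
    exact sub_eq_zero.1 ((smul_eq_zero.1 h').resolve_right fun e => hv0 ((smul_eq_zero_iff_eq k).1 e))
  have hcεr : ∀ ε : L, ε ^ r = 1 → (c * ε) ^ r = 1 := fun ε h => by rw [mul_pow, hcr, h, one_mul]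
  let P : L → W →+ W := fun ε => proj (y := y) (r := r) ε
  have hcomp : ∀ ε : L, ε ^ r = 1 → P ε (k • v₀) + P ε (k • b • u') +
      P ε (k • lam • (b ^ 2) • u') = P ε v₀ + P ε (b • u') + P ε (lam • (b ^ 2) • u') := by
    intro ε hε
    have h1 := congrArg (P ε) hku
    rwa [smul_add, smul_add, map_add, map_add, map_add, map_add] at h1
  have hk0 : S.Eig (c * 1) (k • v₀) := hkeig 1 v₀ (S.eig_iff.2 hv)
  have hk1 : S.Eig (c * ζ) (k • b • u') := hkeig _ _ hb1
  have hk2 : S.Eig (c * ζ ^ 2) (k • lam • (b ^ 2) • u') := hkeig _ _ hb2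
  have hc0 : c ≠ 0 := fun e => by rw [e, zero_pow S.prime.ne_zero] at hcr; exact zero_ne_one hcr
  have hinj : ∀ α β : L, c * α = c * β → α = β := fun α β e => mul_left_cancel₀ hc0 e
  by_cases hc1 : c = 1
  · subst hc1
    simp only [one_mul] at hk0 hk1 hk2
    have hkN : k ∈ S.N := S.mem_N_of_comm fun w => by rw [hc, one_smul]
    have e0 : k • v₀ = v₀ := by
      have h1 := hcomp 1 h1r
      rw [S.proj_of_eig h1r hk0, S.proj_of_eig_ne h1r hζr hk1 hζ1,
        S.proj_of_eig h1r (S.eig_iff.2 hv), S.proj_of_eig_ne h1r hζr hb1 hζ1] at h1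
      by_cases hr2 : r = 2
      · simpa [hlam0 hr2] using h1
      · have hne : ζ ^ 2 ≠ 1 := fun e => hr2
          ((Nat.prime_dvd_prime_iff_eq S.prime Nat.prime_two).1 ((S.root.pow_eq_one_iff_dvd 2).1 e))
        rw [S.proj_of_eig_ne h1r hζ2r hk2 hne, S.proj_of_eig_ne h1r hζ2r hb2 hne] at h1
        simpa using h1
    have e1 : k • b • u' = b • u' := by
      have h1 := hcomp ζ hζr
      rw [S.proj_of_eig_ne hζr h1r hk0 hζ1.symm, S.proj_of_eig hζr hk1,
        S.proj_of_eig_ne hζr h1r (S.eig_iff.2 hv) hζ1.symm, S.proj_of_eig hζr hb1] at h1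
      by_cases hr2 : r = 2
      · simpa [hlam0 hr2] using h1
      · have hne : ζ ^ 2 ≠ ζ := fun e => by
          have := hne_pow 2 1 (lt_of_le_of_ne S.prime.two_le (Ne.symm hr2)) S.prime.one_lt
            (by rw [e, pow_one])
          omega
        rw [S.proj_of_eig_ne hζr hζ2r hk2 hne, S.proj_of_eig_ne hζr hζ2r hb2 hne] at h1
        simpa using h1
    have hk' : b⁻¹ * k * b ∈ B := B.mul_mem (B.mul_mem (B.inv_mem S.mem_b) hk) S.mem_b
    have hk'u : (b⁻¹ * k * b) • u' = u' := by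
      rw [mul_smul, mul_smul, e1, inv_smul_smul]
    obtain ⟨j, hj⟩ := S.eq_pow_of_fix hk' (hfree' _ hk'
      (S.mem_N_of_comm (S.comm_of_fix hk' hu' hu'0 (by rw [hk'u]; exact hu'))) hk'u)
    have hkw : ∀ w : W, k • b • w = b • (y ^ j) • w := fun w => by
      rw [← hj, mul_smul, mul_smul, smul_inv_smul]
    have hj1 : ζ ^ j = 1 := by
      have h1 : ζ ^ j • k • v₀ = v₀ := by
        obtain ⟨u, hu⟩ : ∃ u, b • u = v₀ := ⟨b⁻¹ • v₀, smul_inv_smul _ _⟩
        rw [← hu, hkw, ← hs.lin b S.mem_b, hs.lin b S.mem_b, ← S.y_phase, hu, S.y_pow_fix hv]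
      rw [e0] at h1
      have : (ζ ^ j - 1) • v₀ = 0 := by rw [sub_smul, one_smul, h1, sub_self]
      exact sub_eq_zero.1 ((smul_eq_zero.1 this).resolve_right hv0)
    intro w
    obtain ⟨u, rfl⟩ : ∃ u, b • u = w := ⟨b⁻¹ • w, smul_inv_smul _ _⟩
    have hrj : r ∣ j := (S.root.pow_eq_one_iff_dvd j).1 hj1
    obtain ⟨i, rfl⟩ := hrj
    have hyr : ∀ (i : ℕ) (w : W), ((y ^ r) ^ i) • w = w := by
      intro i
      induction i with
      | zero => intro w; simp
      | succ i ih => intro w; rw [pow_succ, mul_smul, S.pow_y, ih]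
    rw [hkw, pow_mul, hyr]
  exfalso
  have hc0r : (c * 1) ^ r = 1 := hcεr 1 h1r
  have hne2 : r ≠ 2 → ζ ^ 2 ≠ 1 := fun h e => h
    ((Nat.prime_dvd_prime_iff_eq S.prime Nat.prime_two).1 ((S.root.pow_eq_one_iff_dvd 2).1 e))
  have hne21 : r ≠ 2 → ζ ^ 2 ≠ ζ := fun hr2 e => by
    have := hne_pow 2 1 (lt_of_le_of_ne S.prime.two_le (Ne.symm hr2)) S.prime.one_lt
      (by rw [e, pow_one])
    omega
  have n0 : k • v₀ ≠ 0 := fun e => hv0 ((smul_eq_zero_iff_eq k).1 e)
  obtain ⟨i, hi, hic⟩ := S.root.eq_pow_of_pow_eq_one hcr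
  -- the image of a component
  have himage : ∀ (n : ℕ) (x : W), n < r → x ≠ 0 → S.Eig (c * ζ ^ n) (k • x) →
      (n = 0 ∧ x = v₀ ∨ n = 1 ∧ x = b • u' ∨ n = 2 ∧ r ≠ 2 ∧ x = lam • (b ^ 2) • u') →
      ∃ m, (m = 0 ∨ m = 1 ∨ (m = 2 ∧ r ≠ 2)) ∧ c * ζ ^ n = ζ ^ m ∧
        k • x = P (ζ ^ m) v₀ + P (ζ ^ m) (b • u') + P (ζ ^ m) (lam • (b ^ 2) • u') := by
    intro n x hn hx hkx hcase
    set ε := c * ζ ^ n with hε
    have hεr : ε ^ r = 1 := hcεr _ (by rw [← pow_mul, mul_comm, pow_mul, hζr, one_pow])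
    have h1 := hcomp ε hεr
    have hlhs : P ε (k • v₀) + P ε (k • b • u') + P ε (k • lam • (b ^ 2) • u') = k • x := by
      rcases hcase with ⟨rfl, rfl⟩ | ⟨rfl, rfl⟩ | ⟨rfl, hr2, rfl⟩
      · rw [S.proj_of_eig hεr hkx, S.proj_of_eig_ne hεr (hcεr _ hζr) hk1
          (fun e => hζ1 (hinj ζ 1 (by rw [e, hε, pow_zero])))]
        by_cases hr2 : r = 2
        · simp [hlam0 hr2]
        · rw [S.proj_of_eig_ne hεr (hcεr _ hζ2r) hk2
            (fun e => hne2 hr2 (hinj _ 1 (by rw [e, hε, pow_zero])))]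
          simp
      · rw [S.proj_of_eig_ne hεr hc0r hk0
          (fun e => hζ1 (hinj ζ 1 (by rw [e, hε, pow_one]))), S.proj_of_eig hεr hkx]
        by_cases hr2 : r = 2
        · simp [hlam0 hr2]
        · rw [S.proj_of_eig_ne hεr (hcεr _ hζ2r) hk2
            (fun e => hne21 hr2 (hinj _ ζ (by rw [e, hε, pow_one])))]
          simp
      · rw [S.proj_of_eig_ne hεr hc0r hk0
          (fun e => hne2 hr2 (hinj (ζ ^ 2) 1 (by rw [e, hε]))),
          S.proj_of_eig_ne hεr (hcεr _ hζr) hk1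
          (fun e => hne21 hr2 (hinj (ζ ^ 2) ζ (by rw [e, hε]))), S.proj_of_eig hεr hkx]
        simp
    rw [hlhs] at h1
    by_contra hno
    have z0 : P ε v₀ = 0 := S.proj_of_eig_ne hεr h1r (S.eig_iff.2 hv) fun e =>
      hno ⟨0, Or.inl rfl, by rw [pow_zero, e], by rw [pow_zero, e]; exact h1⟩
    have z1 : P ε (b • u') = 0 := S.proj_of_eig_ne hεr hζr hb1 fun e =>
      hno ⟨1, Or.inr (Or.inl rfl), by rw [pow_one, e], by rw [pow_one, e]; exact h1⟩
    have z2 : P ε (lam • (b ^ 2) • u') = 0 := by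
      by_cases hr2 : r = 2
      · rw [hlam0 hr2, map_zero]
      · exact S.proj_of_eig_ne hεr hζ2r hb2 fun e =>
          hno ⟨2, Or.inr (Or.inr ⟨rfl, hr2⟩), e.symm, by rw [e]; exact h1⟩
    rw [z0, z1, z2, add_zero, add_zero] at h1
    exact hx ((smul_eq_zero_iff_eq k).1 h1)
  have hsum : ∀ (n : ℕ) m, n < r → m < r → c * ζ ^ n = ζ ^ m → (i + n) % r = m := by
    intro n m hn hm e
    rw [← hic, ← pow_add] at e
    have e' : ζ ^ ((i + n) % r) = ζ ^ m := by
      rw [← e, ← Nat.mod_add_div (i + n) r, pow_add, pow_mul, hζr, one_pow, mul_one, Nat.mod_add_div]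
    exact hne_pow _ _ (Nat.mod_lt _ S.prime.pos) hm e'
  have hi0 : i ≠ 0 := fun e => hc1 (by rw [← hic, e, pow_zero])
  obtain ⟨m0, hm0, e0, hx0⟩ := himage 0 v₀ S.prime.pos hv0
    (by rw [pow_zero]; exact hk0) (Or.inl ⟨rfl, rfl⟩)
  obtain ⟨m1, hm1, e1, hx1⟩ := himage 1 (b • u') S.prime.one_lt hbu0
    (by rw [pow_one]; exact hk1) (Or.inr (Or.inl ⟨rfl, rfl⟩))
  have hmlt : ∀ m, (m = 0 ∨ m = 1 ∨ (m = 2 ∧ r ≠ 2)) → m < r := fun m hm => by
    have := S.prime.two_le
    omega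
  have s0 := hsum 0 m0 S.prime.pos (hmlt m0 hm0) e0
  have s1 := hsum 1 m1 S.prime.one_lt (hmlt m1 hm1) e1
  rw [add_zero, Nat.mod_eq_of_lt hi] at s0
  by_cases hr2 : r = 2
  · subst hr2
    obtain rfl : m0 = 1 := by omega
    obtain rfl : i = 1 := s0
    obtain rfl : m1 = 0 := by omega
    refine hswap rfl k hk ⟨?_, ?_⟩
    · rw [hx0, pow_one, S.proj_of_eig_ne hζr h1r (S.eig_iff.2 hv) hζ1.symm, S.proj_of_eig hζr hb1,
        hlam0 rfl, map_zero, zero_add, add_zero]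
    · rw [hx1, pow_zero, S.proj_of_eig h1r (S.eig_iff.2 hv), S.proj_of_eig_ne h1r hζr hb1 hζ1,
        hlam0 rfl, map_zero, add_zero, add_zero]
  have h2lt : 2 < r := lt_of_le_of_ne S.prime.two_le (Ne.symm hr2)
  obtain ⟨m2, hm2, e2, hx2⟩ := himage 2 (lam • (b ^ 2) • u') h2lt
    (fun e => (smul_eq_zero.1 e).elim (hodd hr2) fun e => hu'0 ((smul_eq_zero_iff_eq _).1 e))
    hk2 (Or.inr (Or.inr ⟨rfl, hr2, rfl⟩))
  have s2 := hsum 2 m2 h2lt (hmlt m2 hm2) e2
  have hr3 : r = 3 := by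
    by_contra hr3
    have h5 : 5 ≤ r := by
      have h4 : r ≠ 4 := fun e => by have := S.prime; rw [e] at this; norm_num at this
      omega
    have hi2 : i ≤ 2 := by omega
    rw [Nat.mod_eq_of_lt (by omega : i + 2 < r)] at s2
    omega
  subst hr3
  have hne12 : ζ ^ 2 ≠ ζ := hne21 hr2
  have hr3' : ∀ (e : ℕ), e < 3 → P (ζ ^ e) v₀ + P (ζ ^ e) (b • u') + P (ζ ^ e) (lam • (b ^ 2) • u') =
      if e = 0 then v₀ else if e = 1 then b • u' else lam • (b ^ 2) • u' := by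
    intro e he
    interval_cases e
    · rw [pow_zero, S.proj_of_eig h1r (S.eig_iff.2 hv), S.proj_of_eig_ne h1r hζr hb1 hζ1,
        S.proj_of_eig_ne h1r hζ2r hb2 (hne2 hr2)]
      simp
    · rw [pow_one, S.proj_of_eig_ne hζr h1r (S.eig_iff.2 hv) hζ1.symm, S.proj_of_eig hζr hb1,
        S.proj_of_eig_ne hζr hζ2r hb2 hne12]
      simp
    · rw [S.proj_of_eig_ne hζ2r h1r (S.eig_iff.2 hv) (hne2 hr2).symm,
        S.proj_of_eig_ne hζ2r hζr hb1 hne12.symm, S.proj_of_eig hζ2r hb2]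
      simp
  rw [hr3' m0 (by omega)] at hx0
  rw [hr3' m1 (by omega)] at hx1
  rw [hr3' m2 (by omega)] at hx2
  -- an element moving the first component forward
  obtain ⟨k', hk'B, f0, f1, f2⟩ : ∃ k' ∈ B, k' • v₀ = b • u' ∧ k' • b • u' = lam • (b ^ 2) • u' ∧
      k' • lam • (b ^ 2) • u' = v₀ := by
    have hi12 : i = 1 ∨ i = 2 := by omega
    rcases hi12 with rfl | rfl
    · obtain rfl : m0 = 1 := by omega
      obtain rfl : m1 = 2 := by omega
      obtain rfl : m2 = 0 := by omega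
      exact ⟨k, hk, by simpa using hx0, by simpa using hx1, by simpa using hx2⟩
    · obtain rfl : m0 = 2 := by omega
      obtain rfl : m1 = 0 := by omega
      obtain rfl : m2 = 1 := by omega
      simp only [show (2 : ℕ) ≠ 0 by norm_num, show (2 : ℕ) ≠ 1 by norm_num,
        show (1 : ℕ) ≠ 0 by norm_num, if_false, if_true] at hx0 hx1 hx2
      exact ⟨k⁻¹, B.inv_mem hk, inv_smul_eq_iff.2 hx1.symm, inv_smul_eq_iff.2 hx2.symm,
        inv_smul_eq_iff.2 hx0.symm⟩
  have hxB : b⁻¹ * k' ∈ B := B.mul_mem (B.inv_mem S.mem_b) hk'B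
  obtain ⟨p, hp⟩ := S.exists_phase hxB
  have hbk : ∀ w : W, k' • w = b • (b⁻¹ * k') • w := fun w => by rw [mul_smul, smul_inv_smul]
  obtain ⟨μ, hμ⟩ : ∃ μ : L, μ = lam * (ζ ^ p)⁻¹ := ⟨_, rfl⟩
  have hμ0 : μ ≠ 0 := by rw [hμ]; exact mul_ne_zero (hodd hr2) (inv_ne_zero (pow_ne_zero _ hζ0))
  have hxu : (b⁻¹ * k') • u' = μ • u' := by
    have h1 := f1
    rw [hbk, hp, hs.lin b S.mem_b, ← mul_smul b b, ← pow_two, ← hs.lin _ (B.pow_mem S.mem_b 2) (ζ ^ p),
      ← hs.lin _ (B.pow_mem S.mem_b 2) lam] at h1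
    have h2' := smul_left_cancel _ h1
    rw [hμ, mul_comm lam, mul_smul (ζ ^ p)⁻¹, ← h2', ← mul_smul (ζ ^ p)⁻¹,
      inv_mul_cancel₀ (pow_ne_zero _ hζ0), one_smul]
  obtain ⟨z, hz, hzw⟩ := hs.scal μ⁻¹ (inv_ne_zero hμ0)
  have hzB : z * (b⁻¹ * k') ∈ B := B.mul_mem hz hxB
  have hzu : (z * (b⁻¹ * k')) • u' = u' := by
    rw [mul_smul, hxu, hzw, ← mul_smul, inv_mul_cancel₀ hμ0, one_smul]
  obtain ⟨l, hl⟩ := S.eq_pow_of_fix hzB (hfree' _ hzB
    (S.mem_N_of_comm (S.comm_of_fix hzB hu' hu'0 (by rw [hzu]; exact hu'))) hzu)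
  have hkw : ∀ w : W, k' • w = μ • b • (y ^ l) • w := fun w => by
    rw [← hl, mul_smul z, hzw, hs.lin b S.mem_b, ← mul_smul μ, mul_inv_cancel₀ hμ0, one_smul, ← hbk]
  have hb3 : ∀ w : W, (b ^ 3) • w = w := fun w => by
    rw [S.pow_b, S.pow_b_one hr2, one_smul]
  have hfix : k' • k' • k' • b • u' = b • u' := by rw [f1, f2, f0]
  rw [hkw (b • u'), S.eig_pow hb1 l, hs.lin b S.mem_b, ← mul_smul b b, ← pow_two,
    hkw (μ • ((ζ ^ l) • (b ^ 2) • u'))] at hfix
  simp only [hs.lin _ (B.pow_mem S.mem_y l), hs.lin b S.mem_b, hs.lin k' hk'B] at hfix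
  rw [S.eig_pow (S.eig_shift 2 hu') l, hs.lin b S.mem_b, ← mul_smul b (b ^ 2), ← pow_succ', hb3,
    hs.lin k' hk'B, hkw u', S.y_pow_fix hu'] at hfix
  simp only [smul_smul μ, smul_smul (ζ ^ l), smul_smul] at hfix
  have h6 : μ ^ 3 = 1 := by
    have h8 : ∀ e : L, e • b • u' = b • u' → e = 1 := fun e he => by
      have : (e - 1) • b • u' = 0 := by rw [sub_smul, one_smul, he, sub_self]
      exact sub_eq_zero.1 ((smul_eq_zero.1 this).resolve_right hbu0)
    refine h8 _ ?_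
    conv_rhs => rw [← hfix]
    congr 1
    rw [show (ζ ^ 2) ^ l = (ζ ^ l) ^ 2 by rw [← pow_mul, ← pow_mul, mul_comm]]
    have h9 : (ζ ^ l) ^ 3 = 1 := by rw [← pow_mul, mul_comm, pow_mul, hζr, one_pow]
    calc μ ^ 3 = μ ^ 3 * (ζ ^ l) ^ 3 := by rw [h9, mul_one]
      _ = _ := by ring
  refine h3 rfl ?_
  have h10 : (ζ ^ p) ^ 3 = 1 := by rw [← pow_mul, mul_comm, pow_mul, hζr, one_pow]
  calc lam ^ 3 = μ ^ 3 * (ζ ^ p) ^ 3 := by
        rw [hμ, mul_pow, inv_pow, h10, inv_one, mul_one, mul_one]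
    _ = 1 := by rw [h6, h10, mul_one]

end Step

end CfsgLib.CoprimeBase
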